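import Mathlib

/-! The two algebra inputs of affine descent. -/

set_option autoImplicit false
universe u
open TensorProduct

namespace AlgSpTopo.AffineDescent

/-- functions on the target of a faithfully flat map are those coequalized by a cover of the fibre square -/
theorem mem_range_iff {B P D : Type u} [CommRing B] [CommRing P] [CommRing D] [Algebra B P]
    [Module.FaithfullyFlat B P] (ψ : P ⊗[B] P →+* D) (hψ : Function.Injective ψ) (x : P) :
    x ∈ Set.range (algebraMap B P) ↔ ψ (x ⊗ₜ 1) = ψ (1 ⊗ₜ x) := by
  rw [hψ.eq_iff, ← Algebra.IsEffective.eqLocus_includeLeft_includeRight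
    (Algebra.IsEffective.of_faithfullyFlat (R := B) (S := P))]
  exact Iff.rfl

/-- flat base change of an equalizer of algebras -/
theorem bijective_of_range_eq {A A' C D B' : Type u} [CommRing A] [CommRing A'] [CommRing C] [CommRing D]
    [CommRing B'] [Algebra A A'] [Module.Flat A A'] [Algebra A C] [Algebra A D] [Algebra A' B']
    (f g : C →ₐ[A] D) (α : B' →ₐ[A'] A' ⊗[A] C) (hα : Function.Injective α)
    (hr : ∀ x, x ∈ Set.range α ↔
      Algebra.TensorProduct.map (AlgHom.id A' A') f x = Algebra.TensorProduct.map (AlgHom.id A' A') g x)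
    (β : A' ⊗[A] (AlgHom.equalizer f g) →ₐ[A'] B')
    (hβ : α.comp β = Algebra.TensorProduct.map (AlgHom.id A' A') (AlgHom.equalizer f g).val) :
    Function.Bijective β := by
  have hinj : Function.Injective (Algebra.TensorProduct.map (AlgHom.id A' A') (AlgHom.equalizer f g).val) :=
    Module.Flat.lTensor_preserves_injective_linearMap (M := A') (AlgHom.equalizer f g).val.toLinearMap
      Subtype.val_injective
  rw [← hβ] at hinj
  refine ⟨Function.Injective.of_comp (f := α) hinj, fun b => ?_⟩
  have h1 := (hr (α b)).1 ⟨b, rfl⟩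
  have h2 : α b ∈ LinearMap.eqLocus (TensorProduct.AlgebraTensorModule.lTensor A' A' f.toLinearMap)
      (TensorProduct.AlgebraTensorModule.lTensor A' A' g.toLinearMap) := h1
  rw [Module.Flat.eqLocus_lTensor_eq] at h2
  obtain ⟨z, hz⟩ := h2
  refine ⟨z, hα ?_⟩
  rw [← hz, ← AlgHom.comp_apply, hβ]
  rfl

end AlgSpTopo.AffineDescent
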