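import Mathlib
import Groth.Agent.AlgSpTopo.AffineDescentRing

/-! The spectrum form of the algebra behind affine descent. -/

set_option autoImplicit false
set_option backward.isDefEq.respectTransparency false
universe u
open CategoryTheory CategoryTheory.Limits AlgebraicGeometry TensorProduct

namespace AlgSpTopo.AffineDescent

variable {A A' C D B' : Type u} [CommRing A] [CommRing A'] [CommRing C] [CommRing D] [CommRing B']
  [Algebra A A'] [Algebra A C] [Algebra A D] [Algebra A' B']

theorem isIso_of_cover [Module.Flat A A'] (f g : C →ₐ[A] D) (α : B' →ₐ[A'] A' ⊗[A] C)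
    [Flat (Spec.map (CommRingCat.ofHom α.toRingHom))] [Surjective (Spec.map (CommRingCat.ofHom α.toRingHom))]
    {K : Scheme.{u}} {k₁ k₂ : K ⟶ Spec (.of (A' ⊗[A] C))}
    (sq : IsPullback k₁ k₂ (Spec.map (CommRingCat.ofHom α.toRingHom)) (Spec.map (CommRingCat.ofHom α.toRingHom)))
    (γ : Spec (.of (A' ⊗[A] D)) ⟶ K) [Flat γ] [Surjective γ]
    (h₁ : γ ≫ k₁ = Spec.map (CommRingCat.ofHom (Algebra.TensorProduct.map (AlgHom.id A' A') f).toRingHom))
    (h₂ : γ ≫ k₂ = Spec.map (CommRingCat.ofHom (Algebra.TensorProduct.map (AlgHom.id A' A') g).toRingHom))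
    (β : A' ⊗[A] (AlgHom.equalizer f g) →ₐ[A'] B')
    (hβ : α.comp β = Algebra.TensorProduct.map (AlgHom.id A' A') (AlgHom.equalizer f g).val) :
    IsIso (Spec.map (CommRingCat.ofHom β.toRingHom)) := by
  have hff : α.toRingHom.FaithfullyFlat :=
    (flat_and_surjective_SpecMap_iff (CommRingCat.ofHom α.toRingHom)).1 ⟨inferInstance, inferInstance⟩
  let _ : Algebra B' (A' ⊗[A] C) := α.toRingHom.toAlgebra
  have : Module.FaithfullyFlat B' (A' ⊗[A] C) := hff
  let P := A' ⊗[A] C
  have sq' : IsPullback (Spec.map (CommRingCat.ofHom (Algebra.TensorProduct.includeLeftRingHom : P →+* P ⊗[B'] P)))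
      (Spec.map (CommRingCat.ofHom (Algebra.TensorProduct.includeRight (R := B') (A := P) (B := P)).toRingHom))
      (Spec.map (CommRingCat.ofHom α.toRingHom)) (Spec.map (CommRingCat.ofHom α.toRingHom)) :=
    isPullback_SpecMap_of_isPushout _ _ _ _ (CommRingCat.isPushout_tensorProduct B' P P)
  let e := sq.isoIsPullback _ _ sq'
  let ψ : CommRingCat.of (P ⊗[B'] P) ⟶ CommRingCat.of (A' ⊗[A] D) := Spec.preimage (γ ≫ e.hom)
  have hψ : Spec.map ψ = γ ≫ e.hom := Spec.map_preimage _
  have hψi : Function.Injective ψ.hom := by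
    have : ψ.hom.FaithfullyFlat :=
      (flat_and_surjective_SpecMap_iff ψ).1 ⟨by rw [hψ]; infer_instance, by rw [hψ]; infer_instance⟩
    exact this.injective
  have e₁ : ∀ x : P, ψ.hom (x ⊗ₜ 1) = Algebra.TensorProduct.map (AlgHom.id A' A') f x := by
    have := h₁
    rw [← IsPullback.isoIsPullback_hom_fst _ _ sq sq', ← Category.assoc, ← hψ, ← Spec.map_comp] at this
    exact fun x => congrArg (fun r : CommRingCat.of P ⟶ CommRingCat.of (A' ⊗[A] D) => r.hom x)
      (Spec.map_injective this)
  have e₂ : ∀ x : P, ψ.hom (1 ⊗ₜ x) = Algebra.TensorProduct.map (AlgHom.id A' A') g x := by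
    have := h₂
    rw [← IsPullback.isoIsPullback_hom_snd _ _ sq sq', ← Category.assoc, ← hψ, ← Spec.map_comp] at this
    exact fun x => congrArg (fun r : CommRingCat.of P ⟶ CommRingCat.of (A' ⊗[A] D) => r.hom x)
      (Spec.map_injective this)
  have hr : ∀ x, x ∈ Set.range α ↔
      Algebra.TensorProduct.map (AlgHom.id A' A') f x = Algebra.TensorProduct.map (AlgHom.id A' A') g x := by
    intro x
    rw [← e₁, ← e₂]
    exact mem_range_iff (B := B') ψ.hom hψi x
  have hαi : Function.Injective α := hff.injective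
  rw [isIso_SpecMap_iff]
  exact bijective_of_range_eq f g α hαi hr β hβ

end AlgSpTopo.AffineDescent
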