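import Mathlib
import Groth.Prelude.Def_AlgSp4
import Groth.Prelude.Def_AlgSpCov

set_option autoImplicit false
set_option backward.isDefEq.respectTransparency false
universe u
open CategoryTheory CategoryTheory.Limits AlgebraicGeometry Opposite Topology

namespace AlgSpTopo
open AlgSp

variable {S : Scheme.{u}} {F G Z Z' : Sp S}

/-- sections of a pullback square -/
theorem exists_section {fst : Z' ⟶ F} {snd : Z' ⟶ Z} {f : F ⟶ G} {g : Z ⟶ G}
    (sq : IsPullback fst snd f g) (T : Over S) (x : F.obj.obj (op T)) (z : Z.obj.obj (op T))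
    (h : f.hom.app _ x = g.hom.app _ z) :
    ∃ w : Z'.obj.obj (op T), fst.hom.app _ w = x ∧ snd.hom.app _ w = z := by
  have h1 := (sq.map (sheafToPresheaf (J S) (Type (u+1)))).map ((evaluation _ _).obj (op T))
  obtain ⟨-, -, h3⟩ := (Types.isPullback_iff _ _ _ _).1 h1
  obtain ⟨w, hw⟩ := h3 x z h
  exact ⟨w, hw⟩

/-- points of a fibre product surject onto the fibre product of the points -/
theorem points_surj {fst : Z' ⟶ F} {snd : Z' ⟶ Z} {f : F ⟶ G} {g : Z ⟶ G}
    (sq : IsPullback fst snd f g) (x : Points F) (z : Points Z)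
    (h : Points.map f x = Points.map g z) :
    ∃ w : Points Z', Points.map fst w = x ∧ Points.map snd w = z := by
  induction x using Points.ind with
  | h p =>
  induction z using Points.ind with
  | h q =>
  rw [Points.map_mk, Points.map_mk, Points.mk_eq_mk_iff] at h
  obtain ⟨Ω, _, w, a, b, e⟩ := h
  replace e : G.obj.map a.op (f.hom.app _ p.val) = G.obj.map b.op (g.hom.app _ q.val) := e
  rw [← NatTrans.naturality_apply, ← NatTrans.naturality_apply] at e
  obtain ⟨v, hv1, hv2⟩ := exists_section sq _ _ _ e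
  refine ⟨Points.mk ⟨Ω, w, v⟩, ?_, ?_⟩
  · rw [Points.map_mk]
    refine Points.sound ⟨Ω, inferInstance, w, 𝟙 _, a, ?_⟩
    change F.obj.map (𝟙 _) (fst.hom.app _ v) = _
    simp [hv1]; rfl
  · rw [Points.map_mk]
    refine Points.sound ⟨Ω, inferInstance, w, 𝟙 _, b, ?_⟩
    change Z.obj.map (𝟙 _) (snd.hom.app _ v) = _
    simp [hv2]; rfl

/-- image of a preimage along a pullback square -/
theorem image_preimage {fst : Z' ⟶ F} {snd : Z' ⟶ Z} {f : F ⟶ G} {g : Z ⟶ G}
    (sq : IsPullback fst snd f g) (U : Set (Points F)) :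
    Points.map snd '' (Points.map fst ⁻¹' U) = Points.map g ⁻¹' (Points.map f '' U) := by
  ext z
  constructor
  · rintro ⟨w, hw, rfl⟩
    refine ⟨_, hw, ?_⟩
    rw [← Points.map_comp, sq.w, Points.map_comp]
  · rintro ⟨x, hx, e⟩
    obtain ⟨w, rfl, rfl⟩ := points_surj sq x z e
    exact ⟨w, hx, rfl⟩

theorem surjective_snd {fst : Z' ⟶ F} {snd : Z' ⟶ Z} {f : F ⟶ G} {g : Z ⟶ G}
    (sq : IsPullback fst snd f g) (hf : Function.Surjective (Points.map f)) :
    Function.Surjective (Points.map snd) := fun z => by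
  obtain ⟨x, hx⟩ := hf (Points.map g z)
  obtain ⟨w, -, hw⟩ := points_surj sq x z hx
  exact ⟨w, hw⟩

theorem ofPt_map {T T' : Over S} (φ : T ⟶ T') (t : ↥T.left) :
    Points.ofPt ((yon S).map φ) t = Points.ofScheme T' (φ.left t) := by
  rw [← Points.toScheme_ofPt φ t, Points.ofScheme_toScheme]

theorem map_ofScheme {T T' : Over S} (φ : T ⟶ T') (t : ↥T.left) :
    Points.map ((yon S).map φ) (Points.ofScheme T t) = Points.ofScheme T' (φ.left t) := by
  rw [← Points.ofPt_eq_map_ofScheme, ofPt_map]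

theorem ofPt_comp {T T' : Over S} (φ : T ⟶ T') (h : (yon S).obj T' ⟶ F) (t : ↥T.left) :
    Points.ofPt ((yon S).map φ ≫ h) t = Points.ofPt h (φ.left t) := by
  rw [Points.ofPt_eq_map_ofScheme, Points.map_comp, map_ofScheme, ← Points.ofPt_eq_map_ofScheme]

theorem ofScheme_surjective (T : Over S) : Function.Surjective (Points.ofScheme T) :=
  (Points.schemeEquiv T).surjective

theorem exists_ofPt (x : Points F) : ∃ (T : Over S) (_ : IsAffine T.left)
    (h : (yon S).obj T ⟶ F) (t : ↥T.left), Points.ofPt h t = x := by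
  induction x using Points.ind with
  | h p =>
  refine ⟨p.pt, inferInstanceAs (IsAffine (Spec _)), (J S).uliftYonedaEquiv.symm p.val,
    IsLocalRing.closedPoint p.K, ?_⟩
  have h1 : Points.ofScheme p.pt (IsLocalRing.closedPoint p.K) =
      Points.mk (⟨p.K, p.str, ULift.up (Over.homMk (𝟙 _) (Category.id_comp _))⟩ : FieldPt ((yon S).obj p.pt)) :=
    Points.ofScheme_apply_eq_mk p.pt (str := p.str) (𝟙 (Spec (.of p.K))) (Category.id_comp _)
  rw [Points.ofPt_eq_map_ofScheme]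
  rw [h1, Points.map_mk]
  refine Points.sound ⟨p.K, inferInstance, p.str, 𝟙 _, 𝟙 _, ?_⟩
  change F.obj.map (𝟙 _) (((J S).uliftYonedaEquiv.symm p.val).hom.app _ _) = F.obj.map (𝟙 _) p.val
  rw [GrothendieckTopology.uliftYonedaEquiv_symm_app_apply]
  congr 1
  change F.obj.map (Quiver.Hom.op (Over.homMk (𝟙 _) _)) p.val = p.val
  rw [show (Over.homMk (𝟙 _) _ : p.pt ⟶ p.pt) = 𝟙 _ from rfl]
  simp

/-- openness may be tested on affine schemes -/
theorem isOpen_of_affine {W : Set (Points F)}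
    (h : ∀ (T : Over S), IsAffine T.left → ∀ g : (yon S).obj T ⟶ F, IsOpen (Points.ofPt g ⁻¹' W)) :
    IsOpen W := by
  refine Points.isOpen_iff.2 fun T g => ?_
  rw [isOpen_iff_forall_mem_open]
  intro t ht
  obtain ⟨V, hV, htV, -⟩ := exists_isAffineOpen_mem_and_subset (x := t) (U := (⊤ : T.left.Opens)) trivial
  let TV : Over S := Over.mk (V.ι ≫ T.hom)
  let ι : TV ⟶ T := Over.homMk V.ι rfl
  have := h TV hV ((yon S).map ι ≫ g)
  refine ⟨V.ι '' (Points.ofPt ((yon S).map ι ≫ g) ⁻¹' W), ?_, V.ι.isOpenEmbedding.isOpenMap _ this,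
    ⟨t, htV⟩, ?_, rfl⟩
  · rintro _ ⟨v, hv, rfl⟩
    rwa [Set.mem_preimage, ofPt_comp] at hv
  · rw [Set.mem_preimage, ofPt_comp]; exact ht

theorem isClosed_of_affine {W : Set (Points F)}
    (h : ∀ (T : Over S), IsAffine T.left → ∀ g : (yon S).obj T ⟶ F, IsClosed (Points.ofPt g ⁻¹' W)) :
    IsClosed W :=
  isOpen_compl_iff.1 (isOpen_of_affine fun T hT g => (h T hT g).isOpen_compl)

/-- a finite jointly surjective family of flat maps of affines is a topological quotient -/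
theorem isOpen_of_flat_cover {T : Scheme.{u}} [IsAffine T] {m : ℕ} (W : Fin m → Scheme.{u})
    (c : ∀ j, W j ⟶ T) (hW : ∀ j, IsAffine (W j)) (hc : ∀ j, Flat (c j))
    (hs : ∀ t : ↥T, ∃ j, t ∈ Set.range (c j)) {A : Set ↥T}
    (hA : ∀ j, IsOpen (c j ⁻¹' A)) : IsOpen A := by
  let W' : ULift.{u} (Fin m) → Scheme.{u} := fun j => W j.down
  let d : (∐ W') ⟶ T := Sigma.desc fun j => c j.down
  have : ∀ j, IsAffine (W' j) := fun j => hW _
  have : Flat d := IsZariskiLocalAtSource.sigmaDesc fun j => hc _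
  have : QuasiCompact d := (HasAffineProperty.iff_of_isAffine (P := @QuasiCompact)).2 inferInstance
  have : Surjective d := ⟨fun t => by
    obtain ⟨j, x, hx⟩ := hs t
    refine ⟨Sigma.ι W' ⟨j⟩ x, ?_⟩
    rw [← Scheme.Hom.comp_apply, Sigma.ι_desc]; exact hx⟩
  rw [← (Flat.isQuotientMap_of_surjective d).isCoinducing.isOpen_preimage]
  rw [isOpen_iff_forall_mem_open]
  intro x hx
  obtain ⟨⟨j, y⟩, rfl⟩ := (sigmaMk W').surjective x
  rw [sigmaMk_mk] at hx ⊢
  refine ⟨Sigma.ι W' j '' (c j.down ⁻¹' A), ?_, (Sigma.ι W' j).isOpenEmbedding.isOpenMap _ (hA _),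
    y, ?_, rfl⟩
  · rintro _ ⟨y', hy', rfl⟩
    rw [Set.mem_preimage, ← Scheme.Hom.comp_apply, Sigma.ι_desc]; exact hy'
  · rw [Set.mem_preimage, ← Scheme.Hom.comp_apply, Sigma.ι_desc] at hx; exact hx

theorem univSp_bc {Q : MorphismProperty (Sp S)} {X Y X' Y' : Sp S} {f : X ⟶ Y} {g : Y' ⟶ Y}
    {q : X' ⟶ X} {p : X' ⟶ Y'} (sq : IsPullback q p f g) (h : UnivSp Q f) : UnivSp Q p :=
  fun _ _ hZ k fst snd sq' => h hZ (k ≫ g) (fst ≫ q) snd (sq'.paste_horiz sq)

end AlgSpTopo
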