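import Mathlib
import Groth.Agent.AlgSpTopo.Basic

set_option autoImplicit false
set_option backward.isDefEq.respectTransparency false
universe u
open CategoryTheory CategoryTheory.Limits AlgebraicGeometry Opposite Topology

namespace AlgSpTopo
open AlgSp

variable {S : Scheme.{u}}

/-- Setting in which the fpqc locality on the base of a property `UnivSp Q` is tested. -/
theorem local_data {Q : MorphismProperty (Sp S)} {ι : Type u} {Y : Sp S} {Yi : ι → Sp S}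
    {g : ∀ i, Yi i ⟶ Y} (hcov : IsFpqcCover (S := S) Yi g) {X : Sp S} {f : X ⟶ Y} {Xi : ι → Sp S}
    {p : ∀ i, Xi i ⟶ Yi i} {q : ∀ i, Xi i ⟶ X} (sqs : ∀ i, IsPullback (q i) (p i) f (g i))
    (hp : ∀ i, UnivSp Q (p i)) {Z Z' : Sp S} {k : Z ⟶ Y} {fst : Z' ⟶ X} {snd : Z' ⟶ Z}
    (sq : IsPullback fst snd f k) (T : Over S) (hT : IsAffine T.left) (h : (yon S).obj T ⟶ Z) :
    ∃ (m : ℕ) (W : Fin m → Over S) (c : ∀ j, W j ⟶ T),
      (∀ j, IsAffine (W j).left) ∧ (∀ j, Flat (c j).left) ∧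
      (∀ t : ↥T.left, ∃ j, t ∈ Set.range (c j).left) ∧
      ∀ j, ∃ (P : Sp S) (π₁ : P ⟶ Z') (π₂ : P ⟶ (yon S).obj (W j)),
        IsPullback π₁ π₂ snd ((yon S).map (c j) ≫ h) ∧ Q π₂ := by
  obtain ⟨m, W, c, hW, hc, hs, hl⟩ := hcov.2 T hT (h ≫ k)
  refine ⟨m, W, c, hW, hc, hs, fun j => ?_⟩
  obtain ⟨i, l, hl⟩ := hl j
  have H := IsPullback.of_hasPullback snd ((yon S).map (c j) ≫ h)
  refine ⟨_, _, _, H, ?_⟩
  have big := H.paste_horiz sq
  have e : ((yon S).map (c j) ≫ h) ≫ k = l ≫ g i := by rw [hl, Category.assoc]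
  rw [e] at big
  obtain ⟨v, hv1, hv2⟩ := (sqs i).exists_lift (pullback.fst snd ((yon S).map (c j) ≫ h) ≫ fst)
    (pullback.snd snd ((yon S).map (c j) ≫ h) ≫ l) (by rw [Category.assoc]; exact big.w)
  rw [← hv1] at big
  exact hp i (IsAlgSpace.yon_obj _) l v _ (IsPullback.of_right big hv2 (sqs i))

/-- open-ness of the image of a set, tested fpqc locally -/
theorem preimage_image {Z Z' : Sp S} {snd : Z' ⟶ Z} {T W : Over S} {c : W ⟶ T}
    {h : (yon S).obj T ⟶ Z} {P : Sp S} {π₁ : P ⟶ Z'} {π₂ : P ⟶ (yon S).obj W}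
    (H : IsPullback π₁ π₂ snd ((yon S).map c ≫ h)) (U : Set (Points Z')) :
    c.left ⁻¹' (Points.ofPt h ⁻¹' (Points.map snd '' U)) =
      Points.ofScheme W ⁻¹' (Points.map π₂ '' (Points.map π₁ ⁻¹' U)) := by
  rw [image_preimage H U]
  ext w
  simp only [Set.mem_preimage]
  rw [← Points.ofPt_eq_map_ofScheme, ofPt_comp]

theorem isLocalOnBase_univSp {Q : MorphismProperty (Sp S)}
    (H : ∀ {ι : Type u} {Y : Sp S} {Yi : ι → Sp S} {g : ∀ i, Yi i ⟶ Y}, IsFpqcCover (S := S) Yi g →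
      ∀ {X : Sp S} {f : X ⟶ Y} {Xi : ι → Sp S} {p : ∀ i, Xi i ⟶ Yi i} {q : ∀ i, Xi i ⟶ X},
      (∀ i, IsPullback (q i) (p i) f (g i)) → (∀ i, UnivSp Q (p i)) → UnivSp Q f) :
    IsLocalOnBase (IsFpqcCover (S := S)) (UnivSp Q) := by
  intro ι Y Yi g _ _ hcov X f _ Xi p q _ sqs
  exact ⟨fun hf i => univSp_bc (sqs i) hf, fun hp => H hcov sqs hp⟩

theorem univOpen : IsLocalOnBase (IsFpqcCover (S := S)) IsUnivOpenMor := by
  refine isLocalOnBase_univSp fun {ι Y Yi g} hcov {X f Xi p q} sqs hp => ?_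
  intro Z Z' hZ k fst snd sq U hU
  refine isOpen_of_affine fun T hT h => ?_
  obtain ⟨m, W, c, hW, hc, hs, hl⟩ := local_data hcov sqs hp sq T hT h
  refine isOpen_of_flat_cover (fun j => (W j).left) (fun j => (c j).left) hW hc hs fun j => ?_
  obtain ⟨P, π₁, π₂, H, hπ⟩ := hl j
  rw [preimage_image H]
  exact (hπ _ (hU.preimage (Points.continuous_map π₁))).preimage (Points.continuous_ofPt _)

theorem univClosed : IsLocalOnBase (IsFpqcCover (S := S)) IsUnivClosedMor := by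
  refine isLocalOnBase_univSp fun {ι Y Yi g} hcov {X f Xi p q} sqs hp => ?_
  intro Z Z' hZ k fst snd sq U hU
  refine isClosed_of_affine fun T hT h => ?_
  obtain ⟨m, W, c, hW, hc, hs, hl⟩ := local_data hcov sqs hp sq T hT h
  refine isOpen_compl_iff.1 (isOpen_of_flat_cover (fun j => (W j).left) (fun j => (c j).left) hW hc hs
    fun j => ?_)
  obtain ⟨P, π₁, π₂, H, hπ⟩ := hl j
  rw [Set.preimage_compl, isOpen_compl_iff, preimage_image H]
  exact (hπ _ (hU.preimage (Points.continuous_map π₁))).preimage (Points.continuous_ofPt _)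

theorem isQuotientMap_of_local {Z Z' : Sp S} {snd : Z' ⟶ Z}
    (hloc : ∀ (T : Over S), IsAffine T.left → ∀ h : (yon S).obj T ⟶ Z,
      ∃ (m : ℕ) (W : Fin m → Over S) (c : ∀ j, W j ⟶ T),
        (∀ j, IsAffine (W j).left) ∧ (∀ j, Flat (c j).left) ∧
        (∀ t : ↥T.left, ∃ j, t ∈ Set.range (c j).left) ∧
        ∀ j, ∃ (P : Sp S) (π₁ : P ⟶ Z') (π₂ : P ⟶ (yon S).obj (W j)),
          IsPullback π₁ π₂ snd ((yon S).map (c j) ≫ h) ∧ IsQuotientMap (Points.map π₂)) :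
    IsQuotientMap (Points.map snd) := by
  refine (isQuotientMap_iff _).2 ⟨.of_isOpen_preimage_iff_isOpen fun A =>
    ⟨fun hA => ?_, fun hA => hA.preimage (Points.continuous_map snd)⟩, fun z => ?_⟩
  · refine isOpen_of_affine fun T hT h => ?_
    obtain ⟨m, W, c, hW, hc, hs, hl⟩ := hloc T hT h
    refine isOpen_of_flat_cover (fun j => (W j).left) (fun j => (c j).left) hW hc hs fun j => ?_
    obtain ⟨P, π₁, π₂, H, hπ⟩ := hl j
    have h2 : IsOpen (Points.map π₂ ⁻¹' (Points.map ((yon S).map (c j) ≫ h) ⁻¹' A)) := by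
      have : Points.map π₂ ⁻¹' (Points.map ((yon S).map (c j) ≫ h) ⁻¹' A) =
          Points.map π₁ ⁻¹' (Points.map snd ⁻¹' A) := by
        ext x; simp only [Set.mem_preimage, ← Points.map_comp, H.w]
      rw [this]; exact hA.preimage (Points.continuous_map π₁)
    have h3 := (hπ.isCoinducing.isOpen_preimage.1 h2).preimage (Points.continuous_ofPt (𝟙 _))
    convert h3 using 1
    ext w
    simp only [Set.mem_preimage]
    rw [← ofPt_comp, Points.ofPt_eq_map_ofScheme]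
  · obtain ⟨T, hT, h, t, rfl⟩ := exists_ofPt z
    obtain ⟨m, W, c, hW, hc, hs, hl⟩ := hloc T hT h
    obtain ⟨j, w, rfl⟩ := hs t
    obtain ⟨P, π₁, π₂, H, hπ⟩ := hl j
    obtain ⟨x, hx⟩ := hπ.surjective (Points.ofScheme _ w)
    refine ⟨Points.map π₁ x, ?_⟩
    rw [← Points.map_comp, H.w, Points.map_comp, hx, ← Points.ofPt_eq_map_ofScheme, ofPt_comp]

theorem univSubmersive : IsLocalOnBase (IsFpqcCover (S := S)) IsUnivSubmersiveMor :=
  isLocalOnBase_univSp fun hcov _ _ _ _ _ sqs hp _ _ _ _ _ _ sq =>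
    isQuotientMap_of_local fun T hT h => local_data hcov sqs hp sq T hT h

theorem injective_of_local {ι : Type u} {Y : Sp S} {Yi : ι → Sp S}
    {g : ∀ i, Yi i ⟶ Y} (hcov : IsFpqcCover (S := S) Yi g) {X : Sp S} {f : X ⟶ Y} {Xi : ι → Sp S}
    {p : ∀ i, Xi i ⟶ Yi i} {q : ∀ i, Xi i ⟶ X} (sqs : ∀ i, IsPullback (q i) (p i) f (g i))
    {Q : MorphismProperty (Sp S)} (hQ : ∀ ⦃A B : Sp S⦄ (r : A ⟶ B), Q r → Function.Injective (Points.map r))
    (hp : ∀ i, UnivSp Q (p i)) {Z Z' : Sp S} {k : Z ⟶ Y} {fst : Z' ⟶ X} {snd : Z' ⟶ Z}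
    (sq : IsPullback fst snd f k) : Function.Injective (Points.map snd) := by
  intro x₁ x₂ he
  obtain ⟨T, hT, h, t, ht⟩ := exists_ofPt (Points.map snd x₁)
  obtain ⟨m, W, c, hW, hc, hs, hl⟩ := local_data hcov sqs hp sq T hT h
  obtain ⟨j, w, rfl⟩ := hs t
  obtain ⟨P, π₁, π₂, H, hπ⟩ := hl j
  rw [← ofPt_comp, Points.ofPt_eq_map_ofScheme] at ht
  obtain ⟨y₁, rfl, h1⟩ := points_surj H x₁ _ ht.symm
  obtain ⟨y₂, rfl, h2⟩ := points_surj H x₂ _ (he.symm.trans ht.symm)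
  rw [hQ π₂ hπ (h1.trans h2.symm)]

theorem univInjective : IsLocalOnBase (IsFpqcCover (S := S)) IsUnivInjectiveMor :=
  isLocalOnBase_univSp fun hcov _ _ _ _ _ sqs hp _ _ _ _ _ _ sq =>
    injective_of_local hcov sqs (fun _ _ _ h => h) hp sq

theorem univHomeo : IsLocalOnBase (IsFpqcCover (S := S)) IsUnivHomeoMor := by
  refine isLocalOnBase_univSp fun {ι Y Yi g} hcov {X f Xi p q} sqs hp => ?_
  intro Z Z' hZ k fst snd sq
  have hq : IsQuotientMap (Points.map snd) := isQuotientMap_of_local fun T hT h => by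
    obtain ⟨m, W, c, h1, h2, h3, hl⟩ := local_data hcov sqs hp sq T hT h
    exact ⟨m, W, c, h1, h2, h3, fun j => by
      obtain ⟨P, a, b, H, hb⟩ := hl j; exact ⟨P, a, b, H, hb.isQuotientMap⟩⟩
  have hi := injective_of_local hcov sqs (fun _ _ _ h => h.bijective.1) hp sq
  refine ⟨hq.continuous, fun U hU => ?_, hi, hq.surjective⟩
  rw [← hq.isCoinducing.isOpen_preimage, hi.preimage_image]
  exact hU

end AlgSpTopo
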