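import Mathlib
import Groth.Agent.AlgSpTopo.Fpqc

set_option autoImplicit false
set_option backward.isDefEq.respectTransparency false
universe u
open CategoryTheory CategoryTheory.Limits AlgebraicGeometry Opposite Topology

namespace AlgSpTopo
open AlgSp

variable {S : Scheme.{u}} {F G : Sp S}

/-- a representable morphism gives represented pullback squares -/
theorem exists_square {P : MorphismProperty Scheme.{u}} {f : F ⟶ G} (hf : RepWith P f) {U : Over S}
    (g : (yon S).obj U ⟶ G) :
    ∃ (V : Over S) (fst : (yon S).obj V ⟶ F) (snd : V ⟶ U),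
      IsPullback fst ((yon S).map snd) f g ∧ P snd.left :=
  ⟨_, _, _, hf.rep.isPullback g, hf.property _ _ _ (hf.rep.isPullback g)⟩

theorem surjective_of_repWith {f : F ⟶ G} (hf : RepWith @Surjective f) :
    Function.Surjective (Points.map f) := fun y => by
  obtain ⟨T, hT, h, t, rfl⟩ := exists_ofPt y
  obtain ⟨V, fst, snd, sq, hs⟩ := exists_square hf h
  obtain ⟨v, rfl⟩ := hs.surj t
  exact ⟨Points.ofPt fst v, by rw [Points.map_ofPt, sq.w, ofPt_comp]⟩

/-- image of an open set, computed on a pullback along a scheme -/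
theorem isOpenMap_of_repWith_etale {f : F ⟶ G} (hf : RepWith @Etale f) :
    IsOpenMap (Points.map f) := fun U hU => by
  refine Points.isOpen_iff.2 fun T h => ?_
  obtain ⟨V, fst, snd, sq, hs⟩ := exists_square hf h
  have := hs
  have e : Points.ofPt h ⁻¹' (Points.map f '' U) = snd.left '' (Points.ofPt fst ⁻¹' U) := by
    ext t
    constructor
    · rintro ⟨x, hx, e⟩
      rw [Points.ofPt_eq_map_ofScheme] at e
      obtain ⟨w, rfl, hw⟩ := points_surj sq x _ e
      obtain ⟨v, rfl⟩ := ofScheme_surjective V w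
      rw [map_ofScheme] at hw
      refine ⟨v, ?_, ?_⟩
      · rwa [Set.mem_preimage, Points.ofPt_eq_map_ofScheme]
      · exact (Points.schemeEquiv T).injective hw
    · rintro ⟨v, hv, rfl⟩
      exact ⟨_, hv, by rw [Points.map_ofPt, sq.w, ofPt_comp]⟩
  rw [e]
  exact snd.left.isOpenMap _ (hU.preimage (Points.continuous_ofPt fst))

/-- flat and locally finitely presented morphisms of algebraic spaces are universally open -/
theorem isOpenMap_bc_of_flat_lfp {X' X : Sp S} (hX' : IsAlgSpace X') (hX : IsAlgSpace X) (g : X' ⟶ X)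
    (hfl : LocP @Flat g) (hfp : LocP @LocallyOfFinitePresentation g)
    {Z Z' : Sp S} {k : Z ⟶ X} {fst : Z' ⟶ X'} {snd : Z' ⟶ Z} (sq : IsPullback fst snd g k) :
    IsOpenMap (Points.map snd) := by
  intro U hU
  refine isOpen_of_affine fun T hT h => ?_
  obtain ⟨V, b, hb, hb'⟩ := hX.atlas
  obtain ⟨U0, a, ha, ha'⟩ := hX'.atlas
  obtain ⟨T', rb, e, sqT, he⟩ := exists_square hb (h ≫ k)
  have hes : Surjective e.left := hb'.property _ _ _ sqT
  obtain ⟨r', rfl⟩ := (yon S).map_surjective rb
  set A := Points.ofPt h ⁻¹' (Points.map snd '' U)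
  have hA : A = e.left '' (e.left ⁻¹' A) := (Set.image_preimage_eq A e.left.surjective).symm
  rw [hA]
  refine e.left.isOpenMap _ ?_
  have H := IsPullback.of_hasPullback snd ((yon S).map e ≫ h)
  rw [preimage_image H]
  have big := H.paste_horiz sq
  obtain ⟨U'', r2b, e2, sq2, he2⟩ := exists_square hb (a ≫ g)
  obtain ⟨r2, rfl⟩ := (yon S).map_surjective r2b
  have ha2 : RepWith @Etale ((yon S).map e2 ≫ a) :=
    MorphismProperty.comp_mem _ _ _ ((repWith_yon_map_iff _ _).2 he2) ha
  have hr2 : Flat r2.left ∧ LocallyOfFinitePresentation r2.left :=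
    ⟨hfl _ b r2 ha2 hb (by rw [Category.assoc]; exact sq2.w.symm),
      hfp _ b r2 ha2 hb (by rw [Category.assoc]; exact sq2.w.symm)⟩
  have sq1 := IsPullback.of_hasPullback r' r2
  have sqM := ((sq1.map (yon S))).paste_vert sq2
  have e' : ((yon S).map e ≫ h) ≫ k = (yon S).map r' ≫ b := by
    rw [Category.assoc, sqT.w]
  rw [e'] at big
  obtain ⟨v, hv1, hv2⟩ := big.exists_lift
    (((yon S).map (pullback.snd r' r2) ≫ (yon S).map e2) ≫ a) ((yon S).map (pullback.fst r' r2))
    (by rw [sqM.w, Category.assoc])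
  rw [← hv2] at sqM
  have sqv := IsPullback.of_right sqM hv1 big.flip
  have hvs : Function.Surjective (Points.map v) := surjective_snd sqv.flip (surjective_of_repWith ha')
  set P1 : pullback snd ((yon S).map e ≫ h) ⟶ Z' := pullback.fst _ _
  set P2 : pullback snd ((yon S).map e ≫ h) ⟶ (yon S).obj T' := pullback.snd _ _
  have key : Points.map P2 '' (Points.map P1 ⁻¹' U) =
      Points.map ((yon S).map (pullback.fst r' r2)) '' (Points.map (v ≫ P1) ⁻¹' U) := by
    rw [← hv2]
    ext z
    constructor
    · rintro ⟨x, hx, rfl⟩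
      obtain ⟨w, rfl⟩ := hvs x
      exact ⟨w, by rwa [Set.mem_preimage, Points.map_comp], Points.map_comp _ _ _⟩
    · rintro ⟨w, hw, rfl⟩
      exact ⟨_, by rwa [Set.mem_preimage, Points.map_comp] at hw, (Points.map_comp _ _ _).symm⟩
  rw [key]
  have sq1' := sq1.map (Over.forget S)
  have i1 : Flat (pullback.fst r' r2).left :=
    MorphismProperty.of_isPullback (P := @Flat) sq1'.flip hr2.1
  have i2 : LocallyOfFinitePresentation (pullback.fst r' r2).left :=
    MorphismProperty.of_isPullback (P := @LocallyOfFinitePresentation) sq1'.flip hr2.2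
  have hop : ∀ O : Set (Points ((yon S).obj (pullback r' r2))), IsOpen O →
      IsOpen (Points.ofScheme T' ⁻¹' (Points.map ((yon S).map (pullback.fst r' r2)) '' O)) := by
    intro O hO
    have : Points.ofScheme T' ⁻¹' (Points.map ((yon S).map (pullback.fst r' r2)) '' O) =
        (pullback.fst r' r2).left '' (Points.ofScheme _ ⁻¹' O) := by
      ext t
      constructor
      · rintro ⟨w, hw, ew⟩
        obtain ⟨v', rfl⟩ := ofScheme_surjective _ w
        rw [map_ofScheme] at ew
        exact ⟨v', hw, (Points.schemeEquiv T').injective ew⟩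
      · rintro ⟨v', hv', rfl⟩
        exact ⟨_, hv', map_ofScheme _ _⟩
    rw [this]
    exact (pullback.fst r' r2).left.isOpenMap _ (hO.preimage (Points.continuous_ofPt _))
  exact hop _ (hU.preimage (Points.continuous_map _))

theorem isOpenMap_of_flat_lfp {X' X : Sp S} (hX' : IsAlgSpace X') (hX : IsAlgSpace X) (g : X' ⟶ X)
    (hfl : LocP @Flat g) (hfp : LocP @LocallyOfFinitePresentation g) : IsOpenMap (Points.map g) :=
  isOpenMap_bc_of_flat_lfp hX' hX g hfl hfp (IsPullback.of_id_fst (f := g))

end AlgSpTopo
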