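import Mathlib
import Groth.Agent.AlgSpTopo.FlatOpen

set_option autoImplicit false
set_option backward.isDefEq.respectTransparency false
universe u
open CategoryTheory CategoryTheory.Limits AlgebraicGeometry Opposite Topology

namespace AlgSpTopo
open AlgSp

variable {S : Scheme.{u}}

/-- a chart of the base change of `g : X' ⟶ X` to a scheme `T` -/
theorem exists_chart {Q : MorphismProperty Scheme.{u}} [Q.IsStableUnderBaseChange] {X' X : Sp S}
    (hX' : IsAlgSpace X') (hX : IsAlgSpace X) (g : X' ⟶ X) (hg : LocP Q g) {T : Over S}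
    {k : (yon S).obj T ⟶ X} {P : Sp S} {π₁ : P ⟶ X'} {π₂ : P ⟶ (yon S).obj T}
    (H : IsPullback π₁ π₂ g k) :
    ∃ (M T' : Over S) (m : M ⟶ T') (e : T' ⟶ T) (v : (yon S).obj M ⟶ P),
      Q m.left ∧ Etale e.left ∧ Surjective e.left ∧ RepWith @Etale v ∧
      Function.Surjective (Points.map v) ∧ v ≫ π₂ = (yon S).map (m ≫ e) := by
  obtain ⟨V, b, hb, hb'⟩ := hX.atlas
  obtain ⟨U0, a, ha, ha'⟩ := hX'.atlas
  obtain ⟨T', rb, e, sqT, he⟩ := exists_square hb k
  have hes : Surjective e.left := hb'.property _ _ _ sqT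
  obtain ⟨r', rfl⟩ := (yon S).map_surjective rb
  obtain ⟨U'', r2b, e2, sq2, he2⟩ := exists_square hb (a ≫ g)
  obtain ⟨r2, rfl⟩ := (yon S).map_surjective r2b
  have ha2 : RepWith @Etale ((yon S).map e2 ≫ a) :=
    MorphismProperty.comp_mem _ _ _ ((repWith_yon_map_iff _ _).2 he2) ha
  have hr2 : Q r2.left := hg _ b r2 ha2 hb (by rw [Category.assoc]; exact sq2.w.symm)
  -- pullback of `P` along `e`
  have HT := IsPullback.of_hasPullback π₂ ((yon S).map e)
  have big := HT.paste_horiz H
  rw [← sqT.w] at big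
  have sq1 := IsPullback.of_hasPullback r' r2
  have sqM := ((sq1.map (yon S))).paste_vert sq2
  obtain ⟨v, hv1, hv2⟩ := big.exists_lift
    (((yon S).map (pullback.snd r' r2) ≫ (yon S).map e2) ≫ a) ((yon S).map (pullback.fst r' r2))
    (by rw [sqM.w, Category.assoc])
  rw [← hv2] at sqM
  have sqv := IsPullback.of_right sqM hv1 big.flip
  have hve : RepWith @Etale v := MorphismProperty.of_isPullback (P := RepWith @Etale) sqv.flip ha
  have hep : RepWith @Etale (pullback.fst π₂ ((yon S).map e)) :=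
    MorphismProperty.of_isPullback (P := RepWith @Etale) HT.flip ((repWith_yon_map_iff _ _).2 he)
  refine ⟨_, T', pullback.fst r' r2, e, v ≫ pullback.fst _ _, ?_, he, hes,
    MorphismProperty.comp_mem _ _ _ hve hep, ?_, ?_⟩
  · exact MorphismProperty.of_isPullback (P := Q) (sq1.map (Over.forget S)).flip hr2
  · intro x
    obtain ⟨z, hz⟩ := surjective_snd HT.flip
      (surjective_of_repWith ((repWith_yon_map_iff _ _).2 hes)) x
    obtain ⟨w, hw⟩ := surjective_snd sqv.flip (surjective_of_repWith ha') z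
    exact ⟨w, by rw [Points.map_comp, hw, hz]⟩
  · rw [Category.assoc, HT.w, ← Category.assoc, hv2, Functor.map_comp]

theorem isQuasiCompactSp_yon (T : Over S) [CompactSpace ↥T.left] :
    IsQuasiCompactSp ((yon S).obj T) :=
  ⟨T, 𝟙 _,
    by rw [← (yon S).map_id]; exact (repWith_yon_map_iff _ _).2 (by dsimp; infer_instance),
    by rw [← (yon S).map_id]; exact (repWith_yon_map_iff _ _).2 (by dsimp; infer_instance),
    inferInstance⟩

theorem compactSpace_points {F : Sp S} (h : IsQuasiCompactSp F) : CompactSpace (Points F) := by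
  obtain ⟨U, p, -, hp, hU⟩ := h
  refine ⟨?_⟩
  have e : (Set.univ : Set (Points F)) = Points.ofPt p '' Set.univ := by
    refine (Set.eq_univ_of_forall fun x => ?_).symm
    obtain ⟨w, rfl⟩ := surjective_of_repWith hp x
    obtain ⟨u, rfl⟩ := ofScheme_surjective U w
    exact ⟨u, trivial, Points.ofPt_eq_map_ofScheme _ _⟩
  rw [e]
  exact isCompact_univ.image (Points.continuous_ofPt p)

theorem isOpenMap_ofPt {F : Sp S} {T : Over S} {p : (yon S).obj T ⟶ F} (hp : RepWith @Etale p) :
    IsOpenMap (Points.ofPt p) := by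
  have e : Points.ofPt p = Points.map p ∘ Points.ofScheme T :=
    funext fun t => Points.ofPt_eq_map_ofScheme p t
  rw [e]
  exact (isOpenMap_of_repWith_etale hp).comp (Points.schemeHomeo T).isOpenMap

theorem surjective_ofPt {F : Sp S} {T : Over S} {p : (yon S).obj T ⟶ F}
    (hp : Function.Surjective (Points.map p)) : Function.Surjective (Points.ofPt p) := fun x => by
  obtain ⟨w, rfl⟩ := hp x
  obtain ⟨u, rfl⟩ := ofScheme_surjective T w
  exact ⟨u, Points.ofPt_eq_map_ofScheme _ _⟩

theorem isCompact_preimage {X Y : Sp S} (hY : IsAlgSpace Y) (f : X ⟶ Y) (hf : IsQuasiCompactMor f)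
    (V : Set (Points Y)) (hV : IsOpen V) (hVc : IsCompact V) :
    IsCompact (Points.map f ⁻¹' V) := by
  obtain ⟨U, b, hb, hb'⟩ := hY.atlas
  let I := {W : U.left.Opens // IsAffineOpen W ∧ (W : Set ↥U.left) ⊆ Points.ofPt b ⁻¹' V}
  obtain ⟨t, ht⟩ := hVc.elim_finite_subcover (fun W : I => Points.ofPt b '' (W.1 : Set ↥U.left))
    (fun W => isOpenMap_ofPt hb _ W.1.2) (by
      intro y hy
      obtain ⟨u, rfl⟩ := surjective_ofPt (surjective_of_repWith hb') y
      obtain ⟨W, hW, huW, hWV⟩ := exists_isAffineOpen_mem_and_subset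
        (U := (⟨_, hV.preimage (Points.continuous_ofPt b)⟩ : U.left.Opens)) (x := u) hy
      exact Set.mem_iUnion.2 ⟨⟨W, hW, hWV⟩, u, huW, rfl⟩)
  have hc : ∀ W : I, IsCompact (Points.map f ⁻¹' (Points.ofPt b '' (W.1 : Set ↥U.left))) := by
    intro W
    let TW : Over S := Over.mk (W.1.ι ≫ U.hom)
    let ι : TW ⟶ U := Over.homMk W.1.ι rfl
    have : IsAffine TW.left := W.2.1
    have sq := IsPullback.of_hasPullback f ((yon S).map ι ≫ b)
    have := compactSpace_points (hf (IsAlgSpace.yon_obj _) (isQuasiCompactSp_yon TW) _ _ _ sq)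
    have e : Points.map f ⁻¹' (Points.ofPt b '' (W.1 : Set ↥U.left)) =
        Points.map (pullback.fst f ((yon S).map ι ≫ b)) '' Set.univ := by
      ext x
      constructor
      · rintro ⟨w, hw, ew⟩
        have : Points.map f x = Points.map ((yon S).map ι ≫ b) (Points.ofScheme TW ⟨w, hw⟩) := by
          rw [← Points.ofPt_eq_map_ofScheme, ofPt_comp]; exact ew.symm
        obtain ⟨z, rfl, -⟩ := points_surj sq x _ this
        exact ⟨z, trivial, rfl⟩
      · rintro ⟨z, -, rfl⟩
        obtain ⟨w, hw⟩ := ofScheme_surjective TW (Points.map (pullback.snd f ((yon S).map ι ≫ b)) z)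
        refine ⟨ι.left w, w.2, ?_⟩
        rw [← Points.map_comp, sq.w, Points.map_comp, ← hw, ← Points.ofPt_eq_map_ofScheme, ofPt_comp]
    rw [e]
    exact isCompact_univ.image (Points.continuous_map _)
  have e : Points.map f ⁻¹' V = ⋃ W ∈ t, Points.map f ⁻¹' (Points.ofPt b '' (W.1 : Set ↥U.left)) := by
    ext x
    refine ⟨fun hx => ?_, fun hx => ?_⟩
    · obtain ⟨W, hW, hxW⟩ := Set.mem_iUnion₂.1 (ht hx)
      exact Set.mem_iUnion₂.2 ⟨W, hW, hxW⟩
    · obtain ⟨W, hW, u, hu, eu⟩ := Set.mem_iUnion₂.1 hx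
      rw [Set.mem_preimage, ← eu]
      exact W.2.2 hu
  rw [e]
  exact t.isCompact_biUnion fun W _ => hc W

theorem univSubmersive_of_flat_qc_surj {X Y : Sp S} (hX : IsAlgSpace X) (hY : IsAlgSpace Y)
    (f : X ⟶ Y) (hfl : LocP @Flat f) (hqc : IsQuasiCompactMor f) (hs : IsSurjectiveMor f) :
    IsUnivSubmersiveMor f := by
  intro Z Z' _ k fst snd sq
  refine (isQuotientMap_iff _).2 ⟨.of_isOpen_preimage_iff_isOpen fun A =>
    ⟨fun hA => ?_, fun hA => hA.preimage (Points.continuous_map snd)⟩, surjective_snd sq hs⟩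
  refine isOpen_of_affine fun T hT h => ?_
  have H := IsPullback.of_hasPullback snd h
  have big := H.paste_horiz sq
  obtain ⟨M, T', m, e, v, hm, he, hes, hv, hvs, hve⟩ := exists_chart hX hY f hfl big
  have : CompactSpace ↥T.left := inferInstance
  have hP := compactSpace_points (hqc (IsAlgSpace.yon_obj _) (isQuasiCompactSp_yon T) _ _ _ big)
  obtain ⟨t, ht⟩ := isCompact_univ.elim_finite_subcover
    (fun W : M.left.affineOpens => Points.ofPt v '' (W.1 : Set ↥M.left))
    (fun W => isOpenMap_ofPt hv _ W.1.2) (by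
      intro x _
      obtain ⟨u, rfl⟩ := surjective_ofPt hvs x
      obtain ⟨W, hW, huW, -⟩ := exists_isAffineOpen_mem_and_subset (U := (⊤ : M.left.Opens)) (x := u) trivial
      exact Set.mem_iUnion.2 ⟨⟨W, hW⟩, u, huW, rfl⟩)
  let w : Fin t.card → M.left.affineOpens := fun j => (t.equivFin.symm j).1
  have hflat : Flat (m ≫ e).left := MorphismProperty.comp_mem @Flat _ _ hm inferInstance
  refine isOpen_of_flat_cover (fun j => (w j).1.toScheme) (fun j => (w j).1.ι ≫ (m ≫ e).left)
    (fun j => (w j).2) (fun j => inferInstance) (fun x => ?_) (fun j => ?_)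
  · obtain ⟨y, hy⟩ := surjective_snd big hs (Points.ofScheme T x)
    obtain ⟨W, hW, u, hu, rfl⟩ := Set.mem_iUnion₂.1 (ht (Set.mem_univ y))
    rw [Points.map_ofPt, hve, ofPt_map] at hy
    refine ⟨t.equivFin ⟨W, hW⟩, ?_⟩
    have hw : w (t.equivFin ⟨W, hW⟩) = W := by simp [w]
    rw [hw]
    exact ⟨⟨u, hu⟩, (Points.schemeEquiv T).injective hy⟩
  · rw [Scheme.Hom.comp_base]
    change IsOpen ((w j).1.ι ⁻¹' ((m ≫ e).left ⁻¹' (Points.ofPt h ⁻¹' A)))
    refine IsOpen.preimage (w j).1.ι.continuous ?_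
    have e' : (m ≫ e).left ⁻¹' (Points.ofPt h ⁻¹' A) =
        Points.ofPt (v ≫ pullback.fst snd h) ⁻¹' (Points.map snd ⁻¹' A) := by
      ext u
      simp only [Set.mem_preimage]
      rw [Points.map_ofPt, Category.assoc, H.w, ← Category.assoc, hve, ofPt_comp]
    rw [e']
    exact hA.preimage (Points.continuous_ofPt _)

end AlgSpTopo
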