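import Mathlib
import Groth.Agent.AlgSpTopo.Chart

set_option autoImplicit false
set_option backward.isDefEq.respectTransparency false
universe u
open CategoryTheory CategoryTheory.Limits AlgebraicGeometry Opposite Topology

namespace AlgSpTopo
open AlgSp

variable {S : Scheme.{u}}

theorem repWith_surjective_of_points {F G : Sp S} {f : F ⟶ G} (hf : Representable f)
    (h : Function.Surjective (Points.map f)) : RepWith @Surjective f := by
  refine ⟨hf, fun U V g fst snd sq => ?_⟩
  refine ⟨fun t => ?_⟩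
  obtain ⟨w, hw⟩ := surjective_snd sq h (Points.ofScheme U t)
  obtain ⟨v, rfl⟩ := ofScheme_surjective V w
  rw [map_ofScheme] at hw
  exact ⟨v, (Points.schemeEquiv U).injective hw⟩

/-- a sheaf with an etale chart hitting every point and compact points is quasi-compact -/
theorem isQuasiCompactSp_of_compact {F : Sp S} {M : Over S} {v : (yon S).obj M ⟶ F}
    (hv : RepWith @Etale v) (hvs : Function.Surjective (Points.map v))
    (hc : CompactSpace (Points F)) : IsQuasiCompactSp F := by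
  obtain ⟨t, ht⟩ := hc.isCompact_univ.elim_finite_subcover
    (fun W : M.left.affineOpens => Points.ofPt v '' (W.1 : Set ↥M.left))
    (fun W => isOpenMap_ofPt hv _ W.1.2) (by
      intro x _
      obtain ⟨u, rfl⟩ := surjective_ofPt hvs x
      obtain ⟨W, hW, huW, -⟩ := exists_isAffineOpen_mem_and_subset (U := (⊤ : M.left.Opens)) (x := u) trivial
      exact Set.mem_iUnion.2 ⟨⟨W, hW⟩, u, huW, rfl⟩)
  let J := ULift.{u} (Fin t.card)
  let w : J → M.left.affineOpens := fun j => (t.equivFin.symm j.down).1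
  let W' : J → Scheme.{u} := fun j => (w j).1.toScheme
  have : ∀ j, IsAffine (W' j) := fun j => (w j).2
  let c : (∐ W') ⟶ M.left := Sigma.desc fun j => (w j).1.ι
  let U : Over S := Over.mk (c ≫ M.hom)
  let cU : U ⟶ M := Over.homMk c rfl
  have hce : Etale c := IsZariskiLocalAtSource.sigmaDesc fun j => inferInstance
  have hu : RepWith @Etale ((yon S).map cU ≫ v) :=
    MorphismProperty.comp_mem _ _ _ ((repWith_yon_map_iff _ _).2 hce) hv
  refine ⟨U, _, hu, repWith_surjective_of_points hu.rep fun x => ?_,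
    inferInstanceAs (CompactSpace ↥(∐ W'))⟩
  obtain ⟨W, hW, m, hm, rfl⟩ := Set.mem_iUnion₂.1 (ht (Set.mem_univ x))
  have hw : w ⟨t.equivFin ⟨W, hW⟩⟩ = W := by simp [w]
  refine ⟨Points.ofScheme U (Sigma.ι W' ⟨t.equivFin ⟨W, hW⟩⟩ ⟨m, by rw [hw]; exact hm⟩), ?_⟩
  rw [← Points.ofPt_eq_map_ofScheme, ofPt_comp]
  congr 1
  change c (Sigma.ι W' _ _) = m
  rw [← Scheme.Hom.comp_apply, Sigma.ι_desc]
  rfl

/-- quasi-compactness is detected by compactness of points over affine schemes -/
theorem isQuasiCompactMor_of_affine {X Y : Sp S} (hX : IsAlgSpace X) (hY : IsAlgSpace Y) (f : X ⟶ Y)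
    (h : ∀ (T : Over S), IsAffine T.left → ∀ (g : (yon S).obj T ⟶ Y) (P : Sp S) (fst : P ⟶ X)
      (snd : P ⟶ (yon S).obj T), IsPullback fst snd f g → CompactSpace (Points P)) :
    IsQuasiCompactMor f := by
  intro Z Z' _ hq g fst snd sq
  obtain ⟨T, q, hq1, hq2, hT⟩ := hq
  -- atlas of `Z'`
  have H := IsPullback.of_hasPullback snd q
  have big := H.paste_horiz sq
  obtain ⟨M, T', m, e, v, -, -, -, hv, hvs, -⟩ :=
    exists_chart (Q := ⊤) hX hY f (fun _ _ _ _ _ _ _ _ => trivial) big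
  have hp : RepWith @Etale (pullback.fst snd q) :=
    MorphismProperty.of_isPullback (P := RepWith @Etale) H.flip hq1
  have hps : Function.Surjective (Points.map (pullback.fst snd q)) :=
    surjective_snd H.flip (surjective_of_repWith hq2)
  refine isQuasiCompactSp_of_compact (MorphismProperty.comp_mem _ _ _ hv hp)
    (fun x => ?_) ?_
  · obtain ⟨y, rfl⟩ := hps x
    obtain ⟨w, rfl⟩ := hvs y
    exact ⟨w, Points.map_comp _ _ _⟩
  -- compactness
  obtain ⟨t, ht⟩ := hT.isCompact_univ.elim_finite_subcover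
    (fun W : T.left.affineOpens => (W.1 : Set ↥T.left)) (fun W => W.1.2) (by
      intro x _
      obtain ⟨W, hW, huW, -⟩ := exists_isAffineOpen_mem_and_subset (U := (⊤ : T.left.Opens)) (x := x) trivial
      exact Set.mem_iUnion.2 ⟨⟨W, hW⟩, huW⟩)
  refine ⟨?_⟩
  have key : ∀ W : T.left.affineOpens,
      IsCompact (Points.map snd ⁻¹' (Points.ofPt q '' (W.1 : Set ↥T.left))) := by
    intro W
    let TW : Over S := Over.mk (W.1.ι ≫ T.hom)
    let ι : TW ⟶ T := Over.homMk W.1.ι rfl
    have : IsAffine TW.left := W.2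
    have sq' := IsPullback.of_hasPullback snd ((yon S).map ι ≫ q)
    have := h TW W.2 _ _ _ _ (sq'.paste_horiz sq)
    have e : Points.map snd ⁻¹' (Points.ofPt q '' (W.1 : Set ↥T.left)) =
        Points.map (pullback.fst snd ((yon S).map ι ≫ q)) '' Set.univ := by
      ext x
      constructor
      · rintro ⟨w, hw, ew⟩
        have : Points.map snd x = Points.map ((yon S).map ι ≫ q) (Points.ofScheme TW ⟨w, hw⟩) := by
          rw [← Points.ofPt_eq_map_ofScheme, ofPt_comp]; exact ew.symm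
        obtain ⟨z, rfl, -⟩ := points_surj sq' x _ this
        exact ⟨z, trivial, rfl⟩
      · rintro ⟨z, -, rfl⟩
        obtain ⟨w, hw⟩ := ofScheme_surjective TW (Points.map (pullback.snd snd ((yon S).map ι ≫ q)) z)
        refine ⟨ι.left w, w.2, ?_⟩
        rw [← Points.map_comp, sq'.w, Points.map_comp, ← hw, ← Points.ofPt_eq_map_ofScheme, ofPt_comp]
    rw [e]
    exact isCompact_univ.image (Points.continuous_map _)
  have e : (Set.univ : Set (Points Z')) =
      ⋃ W ∈ t, Points.map snd ⁻¹' (Points.ofPt q '' (W.1 : Set ↥T.left)) := by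
    refine (Set.eq_univ_of_forall fun x => ?_).symm
    obtain ⟨u, hu⟩ := surjective_ofPt (surjective_of_repWith hq2) (Points.map snd x)
    obtain ⟨W, hW, huW⟩ := Set.mem_iUnion₂.1 (ht (Set.mem_univ u))
    exact Set.mem_iUnion₂.2 ⟨W, hW, u, huW, hu⟩
  rw [e]
  exact t.isCompact_biUnion fun W _ => key W

theorem compactSpace_of_surjective {F G : Sp S} {π : F ⟶ G} (h : CompactSpace (Points F))
    (hs : Function.Surjective (Points.map π)) : CompactSpace (Points G) :=
  ⟨by rw [← hs.range_eq]; exact isCompact_range (Points.continuous_map π)⟩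

theorem qc_fpqc {ι : Type u} {Y : Sp S} {Yi : ι → Sp S} {g : ∀ i, Yi i ⟶ Y}
    (hcov : IsFpqcCover (S := S) Yi g) (hY : IsAlgSpace Y) {X : Sp S} {f : X ⟶ Y} (hX : IsAlgSpace X)
    {Xi : ι → Sp S} {p : ∀ i, Xi i ⟶ Yi i} {q : ∀ i, Xi i ⟶ X}
    (sqs : ∀ i, IsPullback (q i) (p i) f (g i)) (hp : ∀ i, IsQuasiCompactMor (p i)) :
    IsQuasiCompactMor f := by
  refine isQuasiCompactMor_of_affine hX hY f fun T hT k P fst snd sq => ?_
  obtain ⟨m, W, c, hW, hc, hs, hl⟩ := hcov.2 T hT k
  have key : ∀ j, IsCompact (Points.map snd ⁻¹' Set.range (Points.ofPt ((yon S).map (c j)))) := by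
    intro j
    obtain ⟨i, l, hl⟩ := hl j
    have H := IsPullback.of_hasPullback snd ((yon S).map (c j))
    have big := H.paste_horiz sq
    rw [← hl] at big
    obtain ⟨v, hv1, hv2⟩ := (sqs i).exists_lift (pullback.fst snd ((yon S).map (c j)) ≫ fst)
      (pullback.snd snd ((yon S).map (c j)) ≫ l) (by rw [Category.assoc]; exact big.w)
    rw [← hv1] at big
    have := compactSpace_points (hp i (IsAlgSpace.yon_obj _)
      (isQuasiCompactSp_yon (W j)) l v _ (IsPullback.of_right big hv2 (sqs i)))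
    have e : Points.map snd ⁻¹' Set.range (Points.ofPt ((yon S).map (c j))) =
        Points.map (pullback.fst snd ((yon S).map (c j))) '' Set.univ := by
      ext x
      constructor
      · rintro ⟨w, hw⟩
        rw [Points.ofPt_eq_map_ofScheme] at hw
        obtain ⟨z, rfl, -⟩ := points_surj H x _ hw.symm
        exact ⟨z, trivial, rfl⟩
      · rintro ⟨z, -, rfl⟩
        obtain ⟨w, hw⟩ := ofScheme_surjective (W j) (Points.map (pullback.snd snd ((yon S).map (c j))) z)
        exact ⟨w, by rw [← Points.map_comp, H.w, Points.map_comp, ← hw, Points.ofPt_eq_map_ofScheme]⟩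
    rw [e]
    exact isCompact_univ.image (Points.continuous_map _)
  have e : (Set.univ : Set (Points P)) =
      ⋃ j, Points.map snd ⁻¹' Set.range (Points.ofPt ((yon S).map (c j))) := by
    refine (Set.eq_univ_of_forall fun x => ?_).symm
    obtain ⟨t, ht⟩ := ofScheme_surjective T (Points.map snd x)
    obtain ⟨j, w, rfl⟩ := hs t
    exact Set.mem_iUnion.2 ⟨j, w, by rw [ofPt_map, ht]⟩
  refine ⟨?_⟩
  rw [e]
  exact isCompact_iUnion key

theorem qc_univOpen_surj {X Y Y' X' : Sp S} (hX : IsAlgSpace X) (hY : IsAlgSpace Y)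
    (hY' : IsAlgSpace Y') (f : X ⟶ Y) (g : Y' ⟶ Y) (fst : X' ⟶ X) (f' : X' ⟶ Y')
    (sq : IsPullback fst f' f g) (hg : IsUnivOpenMor g) (hgs : IsSurjectiveMor g)
    (hf' : IsQuasiCompactMor f') : IsQuasiCompactMor f := by
  refine isQuasiCompactMor_of_affine hX hY f fun T hT k P pX pT sqP => ?_
  have H := IsPullback.of_hasPullback g k
  set gT := pullback.snd g k
  have hop : IsOpenMap (Points.map gT) := hg (IsAlgSpace.yon_obj _) k _ _ H
  obtain ⟨V, b, hb, hb'⟩ := hY'.atlas
  -- chart of the base change of `g`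
  obtain ⟨M, T', m, e, v, -, -, -, hv, hvs, hve⟩ :=
    exists_chart (Q := ⊤) hY' hY g (fun _ _ _ _ _ _ _ _ => trivial) H
  obtain ⟨t, ht⟩ := (isCompact_univ : IsCompact (Set.univ : Set ↥T.left)).elim_finite_subcover
    (fun W : M.left.affineOpens => Points.ofScheme T ⁻¹' (Points.map gT '' (Points.ofPt v '' (W.1 : Set ↥M.left))))
    (fun W => (hop _ (isOpenMap_ofPt hv _ W.1.2)).preimage (Points.continuous_ofPt _)) (by
      intro x _
      obtain ⟨z, hz⟩ := surjective_snd H hgs (Points.ofScheme T x)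
      obtain ⟨u, rfl⟩ := surjective_ofPt hvs z
      obtain ⟨W, hW, huW, -⟩ := exists_isAffineOpen_mem_and_subset (U := (⊤ : M.left.Opens)) (x := u) trivial
      exact Set.mem_iUnion.2 ⟨⟨W, hW⟩, _, ⟨u, huW, rfl⟩, hz⟩)
  have key : ∀ W : M.left.affineOpens,
      IsCompact (Points.map pT ⁻¹' (Points.map gT '' (Points.ofPt v '' (W.1 : Set ↥M.left)))) := by
    intro W
    let TW : Over S := Over.mk (W.1.ι ≫ M.hom)
    let ι : TW ⟶ M := Over.homMk W.1.ι rfl
    have : IsAffine TW.left := W.2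
    let l : (yon S).obj TW ⟶ Y' := ((yon S).map ι ≫ v) ≫ pullback.fst g k
    have Hl := IsPullback.of_hasPullback f' l
    have := compactSpace_points (hf' (IsAlgSpace.yon_obj _) (isQuasiCompactSp_yon TW) l _ _ Hl)
    have el : l ≫ g = ((yon S).map ι ≫ v ≫ gT) ≫ k := by
      simp only [l, Category.assoc, H.w, gT]
    have big := Hl.paste_horiz sq
    rw [el] at big
    obtain ⟨w, hw1, hw2⟩ := sqP.exists_lift (pullback.fst f' l ≫ fst)
      (pullback.snd f' l ≫ (yon S).map ι ≫ v ≫ gT) (by rw [big.w]; simp only [Category.assoc])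
    rw [← hw1] at big
    have sqw := IsPullback.of_right big hw2 sqP
    have e : Points.map pT ⁻¹' (Points.map gT '' (Points.ofPt v '' (W.1 : Set ↥M.left))) =
        Points.map w '' Set.univ := by
      ext x
      constructor
      · rintro ⟨z, ⟨u, hu, rfl⟩, hz⟩
        have : Points.map pT x = Points.map ((yon S).map ι ≫ v ≫ gT) (Points.ofScheme TW ⟨u, hu⟩) := by
          rw [← Points.ofPt_eq_map_ofScheme, ofPt_comp, ← Points.map_ofPt]; exact hz.symm
        obtain ⟨z', rfl, -⟩ := points_surj sqw x _ this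
        exact ⟨z', trivial, rfl⟩
      · rintro ⟨z', -, rfl⟩
        obtain ⟨u, hu⟩ := ofScheme_surjective TW (Points.map (pullback.snd f' l) z')
        refine ⟨_, ⟨ι.left u, u.2, rfl⟩, ?_⟩
        rw [← Points.map_comp, hw2, Points.map_comp, ← hu, ← Points.ofPt_eq_map_ofScheme, ofPt_comp,
          Points.map_ofPt]
    rw [e]
    exact isCompact_univ.image (Points.continuous_map _)
  have e : (Set.univ : Set (Points P)) =
      ⋃ W ∈ t, Points.map pT ⁻¹' (Points.map gT '' (Points.ofPt v '' (W.1 : Set ↥M.left))) := by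
    refine (Set.eq_univ_of_forall fun x => ?_).symm
    obtain ⟨s, hs⟩ := ofScheme_surjective T (Points.map pT x)
    obtain ⟨W, hW, hsW⟩ := Set.mem_iUnion₂.1 (ht (Set.mem_univ s))
    refine Set.mem_iUnion₂.2 ⟨W, hW, ?_⟩
    rw [Set.mem_preimage, ← hs]; exact hsW
  refine ⟨?_⟩
  rw [e]
  exact t.isCompact_biUnion fun W _ => key W

/-- an fppf covering is an fpqc covering -/
theorem fpqc_of_fppf {ι : Type u} {X : Sp S} (hX : IsAlgSpace X) {Xi : ι → Sp S}
    (hXi : ∀ i, IsAlgSpace (Xi i)) (g : ∀ i, Xi i ⟶ X) (h : IsFppfCover (S := S) Xi g) :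
    IsFpqcCover (S := S) Xi g := by
  refine ⟨fun i => (h.1 i).1, fun T hT k => ?_⟩
  have H := fun i => IsPullback.of_hasPullback (g i) k
  choose M T' m e v hmf hee hes hv hvs hve using fun i =>
    exists_chart (Q := @Flat) (hXi i) hX (g i) (h.1 i).1 (H i)
  let J := Σ i, (M i).left.affineOpens
  obtain ⟨t, ht⟩ := (isCompact_univ : IsCompact (Set.univ : Set ↥T.left)).elim_finite_subcover
    (fun j : J => Points.ofScheme T ⁻¹' (Points.map (pullback.snd (g j.1) k) ''
      (Points.ofPt (v j.1) '' (j.2.1 : Set ↥(M j.1).left))))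
    (fun j => ((isOpenMap_bc_of_flat_lfp (hXi _) hX (g j.1) (h.1 _).1 (h.1 _).2 (H j.1)) _
      (isOpenMap_ofPt (hv _) _ j.2.1.2)).preimage (Points.continuous_ofPt _)) (by
      intro x _
      obtain ⟨i, a, ha⟩ := h.2 (Points.ofPt k x)
      rw [Points.ofPt_eq_map_ofScheme] at ha
      obtain ⟨z, -, hz⟩ := points_surj (H i) a _ ha
      obtain ⟨u, rfl⟩ := surjective_ofPt (hvs i) z
      obtain ⟨W, hW, huW, -⟩ := exists_isAffineOpen_mem_and_subset (U := (⊤ : (M i).left.Opens)) (x := u) trivial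
      exact Set.mem_iUnion.2 ⟨⟨i, W, hW⟩, _, ⟨u, huW, rfl⟩, hz⟩)
  let w : Fin t.card → J := fun j => (t.equivFin.symm j).1
  let W : Fin t.card → Over S := fun j => Over.mk ((w j).2.1.ι ≫ (M (w j).1).hom)
  let ι' : ∀ j, W j ⟶ M (w j).1 := fun j => Over.homMk (w j).2.1.ι rfl
  refine ⟨t.card, W, fun j => ι' j ≫ m _ ≫ e _, fun j => (w j).2.2, fun j => ?_, fun x => ?_,
    fun j => ⟨(w j).1, (yon S).map (ι' j) ≫ v _ ≫ pullback.fst _ _, ?_⟩⟩
  · have := hmf (w j).1; have := hee (w j).1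
    change Flat ((w j).2.1.ι ≫ (m _).left ≫ (e _).left)
    infer_instance
  · obtain ⟨J₀, hJ, z, ⟨u, hu, rfl⟩, hz⟩ := Set.mem_iUnion₂.1 (ht (Set.mem_univ x))
    rw [Points.map_ofPt, hve, ofPt_map] at hz
    have hwj : w (t.equivFin ⟨J₀, hJ⟩) = J₀ := by simp [w]
    refine ⟨t.equivFin ⟨J₀, hJ⟩, ?_⟩
    have key : ∀ J₁ : J, J₁ = J₀ → x ∈ Set.range (J₁.2.1.ι ≫ (m J₁.1 ≫ e J₁.1).left) := by
      rintro _ rfl
      exact ⟨⟨u, hu⟩, (Points.schemeEquiv T).injective hz⟩
    exact key _ hwj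
  · simp only [Functor.map_comp, Category.assoc, (H _).w]
    rw [reassoc_of% (hve (w j).1), Functor.map_comp, Category.assoc]

end AlgSpTopo
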