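import Mathlib
import Groth.Agent.AlgSpTopo.Qc

set_option autoImplicit false
set_option backward.isDefEq.respectTransparency false
universe u
open CategoryTheory CategoryTheory.Limits AlgebraicGeometry Opposite Topology

namespace AlgSpTopo
open AlgSp

variable {S : Scheme.{u}} {X Y Z P : Sp S}

/-- equalizers of maps from schemes to algebraic spaces -/
theorem exists_equalizer (hX : IsAlgSpace X) {T : Over S} (a b : (yon S).obj T ⟶ X) :
    ∃ (E : Over S) (e : E ⟶ T), Mono e ∧ (yon S).map e ≫ a = (yon S).map e ≫ b ∧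
      ∀ {W : Sp S} (k : W ⟶ (yon S).obj T), k ≫ a = k ≫ b → ∃ l, l ≫ (yon S).map e = k := by
  obtain ⟨E, efst, e, sqE⟩ : ∃ (E : Over S) (efst : (yon S).obj E ⟶ X) (e : E ⟶ T),
      IsPullback efst ((yon S).map e) (Limits.diag X) (prod.lift a b) :=
    ⟨_, _, _, hX.diag.isPullback (prod.lift a b)⟩
  have h1 : efst = (yon S).map e ≫ a := by
    have := congrArg (· ≫ prod.fst) sqE.w
    simpa using this
  have h2 : efst = (yon S).map e ≫ b := by
    have := congrArg (· ≫ prod.snd) sqE.w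
    simpa using this
  have : Mono ((yon S).map e) := ⟨fun {W} u v huv => sqE.hom_ext (by
      rw [h1, reassoc_of% huv]) huv⟩
  refine ⟨E, e, (yon S).mono_of_mono_map this, h1.symm.trans h2, fun {W} k hk => ?_⟩
  obtain ⟨l, -, hl⟩ := sqE.exists_lift (k ≫ a) k (by
    apply prod.hom_ext
    · simp
    · simp [hk])
  exact ⟨l, hl⟩

/-- fibre products of algebraic spaces are algebraic spaces -/
theorem isAlgSpace_of_isPullback (hX : IsAlgSpace X) (hY : IsAlgSpace Y) (hZ : IsAlgSpace Z)
    {π₁ : P ⟶ X} {π₂ : P ⟶ Z} {f : X ⟶ Y} {g : Z ⟶ Y} (sq : IsPullback π₁ π₂ f g) : IsAlgSpace P where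
  diag := by
    intro T h
    obtain ⟨E₁, e₁, _, he₁, hl₁⟩ := exists_equalizer hX (h ≫ prod.fst ≫ π₁) (h ≫ prod.snd ≫ π₁)
    obtain ⟨E₂, e₂, _, he₂, hl₂⟩ := exists_equalizer hZ (h ≫ prod.fst ≫ π₂) (h ≫ prod.snd ≫ π₂)
    let e : pullback e₁ e₂ ⟶ T := pullback.fst e₁ e₂ ≫ e₁
    have hE := (IsPullback.of_hasPullback e₁ e₂).map (yon S)
    have hme : Mono ((yon S).map e) := inferInstance
    have eq₁ : (yon S).map e ≫ h ≫ prod.fst ≫ π₁ = (yon S).map e ≫ h ≫ prod.snd ≫ π₁ := by
      simp only [e, Functor.map_comp, Category.assoc, he₁]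
    have eq₂ : (yon S).map e ≫ h ≫ prod.fst ≫ π₂ = (yon S).map e ≫ h ≫ prod.snd ≫ π₂ := by
      simp only [e, pullback.condition, Functor.map_comp, Category.assoc, he₂]
    have w : ((yon S).map e ≫ h ≫ prod.fst) ≫ Limits.diag P = (yon S).map e ≫ h := by
      apply prod.hom_ext
      · simp
      · simp only [prod.comp_lift, Category.comp_id, Category.assoc, prod.lift_snd]
        exact sq.hom_ext (by simpa using eq₁) (by simpa using eq₂)
    refine ⟨_, e, (yon S).map e ≫ h ≫ prod.fst, IsPullback.of_isLimit' ⟨w⟩ ?_⟩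
    have key : ∀ s : PullbackCone (Limits.diag P) h,
        ∃ l, l ≫ (yon S).map e = s.snd ∧ l ≫ (yon S).map e ≫ h ≫ prod.fst = s.fst := by
      intro s
      have hf : s.fst = s.snd ≫ h ≫ prod.fst := by
        have := congrArg (· ≫ prod.fst) s.condition
        simpa using this
      have hs : s.fst = s.snd ≫ h ≫ prod.snd := by
        have := congrArg (· ≫ prod.snd) s.condition
        simpa using this
      obtain ⟨l₁, hl₁'⟩ := hl₁ s.snd (by
        calc _ = (s.snd ≫ h ≫ prod.fst) ≫ π₁ := by simp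
          _ = _ := by rw [← hf, hs]; simp)
      obtain ⟨l₂, hl₂'⟩ := hl₂ s.snd (by
        calc _ = (s.snd ≫ h ≫ prod.fst) ≫ π₂ := by simp
          _ = _ := by rw [← hf, hs]; simp)
      obtain ⟨l, hla, -⟩ := hE.exists_lift l₁ l₂ (hl₁'.trans hl₂'.symm)
      have h1 : l ≫ (yon S).map e = s.snd := by
        simp only [e, Functor.map_comp]; rw [reassoc_of% hla, hl₁']
      exact ⟨l, h1, by rw [reassoc_of% h1, hf]⟩
    choose l hl hl' using key
    exact PullbackCone.IsLimit.mk _ l hl' hl fun s m _ hm =>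
      (cancel_mono ((yon S).map e)).1 (hm.trans (hl s).symm)
  atlas := by
    obtain ⟨T, q, hq1, hq2⟩ := hZ.atlas
    have H := IsPullback.of_hasPullback π₂ q
    obtain ⟨M, T', m, e, v, -, -, -, hv, hvs, -⟩ :=
      exists_chart (Q := ⊤) hX hY f (fun _ _ _ _ _ _ _ _ => trivial) (H.paste_horiz sq)
    have hp : RepWith @Etale (pullback.fst π₂ q) :=
      MorphismProperty.of_isPullback (P := RepWith @Etale) H.flip hq1
    have hu := MorphismProperty.comp_mem _ _ _ hv hp
    refine ⟨M, _, hu, repWith_surjective_of_points hu.rep fun x => ?_⟩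
    obtain ⟨y, rfl⟩ := surjective_snd H.flip (surjective_of_repWith hq2) x
    obtain ⟨w, rfl⟩ := hvs y
    exact ⟨w, Points.map_comp _ _ _⟩

theorem isAlgSpace_pullback (hX : IsAlgSpace X) (hY : IsAlgSpace Y) (hZ : IsAlgSpace Z)
    (f : X ⟶ Y) (g : Z ⟶ Y) : IsAlgSpace (pullback f g) :=
  isAlgSpace_of_isPullback hX hY hZ (IsPullback.of_hasPullback f g)

/-- `Etale` cancellation -/
theorem etale_cancel {U V W : Scheme.{u}} (h : U ⟶ V) (b : V ⟶ W) [Etale (h ≫ b)] [Etale b] :
    Etale h := Etale.of_comp h b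

/-- an etale morphism has etale charts -/
theorem locP_etale_of_isEtaleMor (f : X ⟶ Y) (hf : IsEtaleMor f) :
    LocP @Etale f := by
  intro U V a b h ha hb comm
  have haf : RepWith @Etale (a ≫ f) := hf a ha
  have H := hf a ha
  obtain ⟨E, fst, snd, sq, hs⟩ := exists_square haf b
  obtain ⟨fst', rfl⟩ := (yon S).map_surjective fst
  obtain ⟨σ, hσ1, hσ2⟩ := sq.exists_lift (𝟙 _) ((yon S).map h) (by rw [Category.id_comp, comm])
  obtain ⟨σ', rfl⟩ := (yon S).map_surjective σ
  have e1 : σ' ≫ fst' = 𝟙 _ := (yon S).map_injective (by simpa using hσ1)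
  have e2 : σ' ≫ snd = h := (yon S).map_injective (by simpa using hσ2)
  have : Etale fst'.left := hb.property _ _ _ sq.flip
  have : Etale snd.left := hs
  have : Etale σ'.left := by
    have : Etale (σ'.left ≫ fst'.left) := by
      rw [← Over.comp_left, e1]; dsimp; infer_instance
    exact etale_cancel σ'.left fst'.left
  rw [← e2, Over.comp_left]
  infer_instance

theorem locP_mono {A B : MorphismProperty Scheme.{u}} (h : ∀ ⦃U V : Scheme.{u}⦄ (g : U ⟶ V), A g → B g)
    {f : X ⟶ Y} (hf : LocP A f) : LocP B f :=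
  fun _ _ a b k ha hb comm => h _ (hf a b k ha hb comm)

end AlgSpTopo
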