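import Mathlib
import Groth.Agent.AlgSpTopo.Pullback

set_option autoImplicit false
set_option backward.isDefEq.respectTransparency false
universe u
open CategoryTheory CategoryTheory.Limits AlgebraicGeometry Opposite Topology

namespace AlgSpTopo
open AlgSp

variable {S : Scheme.{u}} {X Y : Sp S}

/-- `e : E ⟶ T` is the equalizer of `a b : h_T ⟶ X` -/
def IsEq {T E : Over S} (e : E ⟶ T) (a b : (yon S).obj T ⟶ X) : Prop :=
  Mono e ∧ (yon S).map e ≫ a = (yon S).map e ≫ b ∧
    ∀ {W : Sp S} (k : W ⟶ (yon S).obj T), k ≫ a = k ≫ b → ∃ l, l ≫ (yon S).map e = k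

theorem isEq_props (hX : IsAlgSpace X) {T E : Over S} {e : E ⟶ T} {a b : (yon S).obj T ⟶ X}
    (he : IsEq e a b) :
    LocallyOfFiniteType e.left ∧ Mono e.left ∧ IsSeparated e.left ∧ LocallyQuasiFinite e.left := by
  obtain ⟨hmono, hab, hu⟩ := he
  have hm : Mono e.left := inferInstanceAs (Mono ((Over.forget S).map e))
  suffices hl : LocallyOfFiniteType e.left by
    have := hl
    exact ⟨hl, hm, inferInstance, LocallyQuasiFinite.of_injective e.left.injective⟩
  obtain ⟨U, p, hp, hp'⟩ := hX.atlas
  obtain ⟨T', ub, t, sq', ht⟩ := exists_square hp a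
  have hts : Surjective t.left := hp'.property _ _ _ sq'
  obtain ⟨u', rfl⟩ := (yon S).map_surjective ub
  obtain ⟨Q, rb, q, sqQ, hq⟩ := exists_square hp ((yon S).map t ≫ b)
  obtain ⟨r, rfl⟩ := (yon S).map_surjective rb
  let A : Q ⟶ U ⨯ U := prod.lift r (q ≫ u')
  let D := Limits.diag U
  let i : pullback A D ⟶ Q := pullback.fst A D
  have hi : IsImmersion i.left := by
    have h1 : IsImmersion (pullback.diagonal U.hom) := inferInstance
    have h2 : IsImmersion D.left := by
      have e := AlgSp.diag_left_comp_prodLeftIsoPullback U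
      rw [← e] at h1
      exact (MorphismProperty.cancel_right_of_respectsIso @IsImmersion _ _).1 h1
    exact MorphismProperty.of_isPullback (P := @IsImmersion)
      ((IsPullback.of_hasPullback A D).map (Over.forget S)).flip h2
  have hr : i ≫ r = i ≫ q ≫ u' := by
    have h1 := congrArg (· ≫ prod.fst) (pullback.condition (f := A) (g := D))
    have h2 := congrArg (· ≫ prod.snd) (pullback.condition (f := A) (g := D))
    simp [A, D] at h1 h2
    exact h1.trans h2.symm
  -- the base change of `e` along `t`
  let E' := pullback e t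
  let e' : E' ⟶ T' := pullback.snd e t
  obtain ⟨σ, hσ1, hσ2⟩ := sqQ.exists_lift ((yon S).map (e' ≫ u')) ((yon S).map e') (by
    have hc : (yon S).map (pullback.fst e t) ≫ (yon S).map e = (yon S).map e' ≫ (yon S).map t := by
      rw [← Functor.map_comp, ← Functor.map_comp, pullback.condition]
    rw [Functor.map_comp, Category.assoc, sq'.w, ← reassoc_of% hc, hab, reassoc_of% hc])
  obtain ⟨σ', rfl⟩ := (yon S).map_surjective σ
  have hσq : σ' ≫ q = e' := (yon S).map_injective (by rw [Functor.map_comp, hσ2])
  have hσr : σ' ≫ r = e' ≫ u' := (yon S).map_injective (by rw [Functor.map_comp, hσ1])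
  have hσA : σ' ≫ A = (e' ≫ u') ≫ D := by
    apply prod.hom_ext
    · simp [A, D, hσr]
    · simp [A, D, reassoc_of% hσq]
  let τ : E' ⟶ pullback A D := pullback.lift σ' (e' ≫ u') hσA
  -- inverse
  have hin : (yon S).map (i ≫ q ≫ t) ≫ a = (yon S).map (i ≫ q ≫ t) ≫ b := by
    simp only [Functor.map_comp, Category.assoc, ← sq'.w, ← sqQ.w]
    rw [← (yon S).map_comp_assoc, ← (yon S).map_comp_assoc, ← (yon S).map_comp_assoc, hr, Category.assoc]
  obtain ⟨l, hl⟩ := hu _ hin
  obtain ⟨l', rfl⟩ := (yon S).map_surjective l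
  have hl' : l' ≫ e = (i ≫ q) ≫ t := (yon S).map_injective (by rw [Functor.map_comp, hl]; simp)
  let inv : pullback A D ⟶ E' := pullback.lift l' (i ≫ q) hl'
  have h1 : τ ≫ i ≫ q = e' := by simp [τ, i, hσq]
  have h2 : τ ≫ inv = 𝟙 _ := by
    apply pullback.hom_ext
    · apply (cancel_mono e).1
      simp only [inv, Category.assoc, pullback.lift_fst, hl', Category.id_comp]
      rw [reassoc_of% h1, pullback.condition]
    · simp only [inv, Category.assoc, pullback.lift_snd, Category.id_comp]
      exact h1
  have : Mono D := inferInstance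
  have h3 : inv ≫ τ = 𝟙 _ := by
    apply (cancel_mono i).1
    rw [Category.assoc, Category.id_comp, show τ ≫ i = σ' from pullback.lift_fst _ _ _]
    apply (yon S).map_injective
    apply sqQ.hom_ext
    · rw [← Functor.map_comp, ← Functor.map_comp]
      congr 1
      rw [Category.assoc, hσr, ← Category.assoc, show inv ≫ e' = i ≫ q from pullback.lift_snd _ _ _,
        Category.assoc, hr]
    · rw [← Functor.map_comp, ← Functor.map_comp]
      congr 1
      rw [Category.assoc, hσq, show inv ≫ e' = i ≫ q from pullback.lift_snd _ _ _]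
  have : LocallyOfFiniteType e'.left := by
    have : Etale q.left := hq
    have : IsIso τ := ⟨inv, h2, h3⟩
    have : IsIso τ.left := inferInstanceAs (IsIso ((Over.forget S).map τ))
    rw [← h1]
    simp only [Over.comp_left]
    infer_instance
  exact MorphismProperty.of_isPullback_of_descendsAlong
    (Q := @Surjective ⊓ @Flat ⊓ @LocallyOfFinitePresentation)
    ((IsPullback.of_hasPullback e t).map (Over.forget S)).flip ⟨⟨hts, inferInstanceAs (Flat t.left)⟩, inferInstanceAs (LocallyOfFinitePresentation t.left)⟩ this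

theorem isEq_of_square_diag {T E : Over S} {h : (yon S).obj T ⟶ X ⨯ X} {fst : (yon S).obj E ⟶ X}
    {e : E ⟶ T} (sq : IsPullback fst ((yon S).map e) (Limits.diag X) h) :
    IsEq e (h ≫ prod.fst) (h ≫ prod.snd) := by
  have h1 : fst = (yon S).map e ≫ h ≫ prod.fst := by
    have := congrArg (· ≫ prod.fst) sq.w
    simpa using this
  have h2 : fst = (yon S).map e ≫ h ≫ prod.snd := by
    have := congrArg (· ≫ prod.snd) sq.w
    simpa using this
  have : Mono ((yon S).map e) := ⟨fun {W} u v huv => sq.hom_ext (by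
      rw [h1, reassoc_of% huv]) huv⟩
  refine ⟨(yon S).mono_of_mono_map this, h1.symm.trans h2, fun {W} k hk => ?_⟩
  obtain ⟨l, -, hl⟩ := sq.exists_lift (k ≫ h ≫ prod.fst) k (by
    apply prod.hom_ext
    · simp
    · simp [hk])
  exact ⟨l, hl⟩

theorem isEq_of_square_diagonal {f : X ⟶ Y} {T E : Over S} {h : (yon S).obj T ⟶ pullback f f}
    {fst : (yon S).obj E ⟶ X} {e : E ⟶ T}
    (sq : IsPullback fst ((yon S).map e) (pullback.diagonal f) h) :
    IsEq e (h ≫ pullback.fst f f) (h ≫ pullback.snd f f) := by
  have h1 : fst = (yon S).map e ≫ h ≫ pullback.fst f f := by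
    have := congrArg (· ≫ pullback.fst f f) sq.w
    simpa using this
  have h2 : fst = (yon S).map e ≫ h ≫ pullback.snd f f := by
    have := congrArg (· ≫ pullback.snd f f) sq.w
    simpa using this
  have : Mono ((yon S).map e) := ⟨fun {W} u v huv => sq.hom_ext (by
      rw [h1, reassoc_of% huv]) huv⟩
  refine ⟨(yon S).mono_of_mono_map this, h1.symm.trans h2, fun {W} k hk => ?_⟩
  obtain ⟨l, -, hl⟩ := sq.exists_lift (k ≫ h ≫ pullback.fst f f) k (by
    apply pullback.hom_ext
    · simp
    · simp [hk])
  exact ⟨l, hl⟩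

theorem representable_diagonal (hX : IsAlgSpace X) (f : X ⟶ Y) : Representable (pullback.diagonal f) := by
  intro T h
  obtain ⟨E, e, _, he, hu⟩ := exists_equalizer hX (h ≫ pullback.fst f f) (h ≫ pullback.snd f f)
  have w : ((yon S).map e ≫ h ≫ pullback.fst f f) ≫ pullback.diagonal f = (yon S).map e ≫ h := by
    apply pullback.hom_ext
    · simp
    · simpa using he
  refine ⟨E, e, _, IsPullback.of_isLimit' ⟨w⟩ ?_⟩
  have key : ∀ s : PullbackCone (pullback.diagonal f) h,
      ∃ l, l ≫ (yon S).map e = s.snd ∧ l ≫ (yon S).map e ≫ h ≫ pullback.fst f f = s.fst := by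
    intro s
    have h1 : s.fst = s.snd ≫ h ≫ pullback.fst f f := by
      have := congrArg (· ≫ pullback.fst f f) s.condition
      simpa using this
    have h2 : s.fst = s.snd ≫ h ≫ pullback.snd f f := by
      have := congrArg (· ≫ pullback.snd f f) s.condition
      simpa using this
    obtain ⟨l, hl⟩ := hu s.snd (h1.symm.trans h2)
    exact ⟨l, hl, by rw [reassoc_of% hl, h1]⟩
  choose l hl hl' using key
  have : Mono ((yon S).map e) := inferInstance
  exact PullbackCone.IsLimit.mk _ l hl' hl fun s m _ hm =>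
    (cancel_mono ((yon S).map e)).1 (hm.trans (hl s).symm)

end AlgSpTopo
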