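import Mathlib
import Groth.Agent.AlgSpTopo.Chart

set_option autoImplicit false
set_option backward.isDefEq.respectTransparency false
universe u
open CategoryTheory CategoryTheory.Limits AlgebraicGeometry Opposite Topology

namespace AlgSpTopo
open AlgSp

variable {S : Scheme.{u}} {X Y : Sp S}

theorem univOpen_iff_affine (f : X ⟶ Y) :
    IsUnivOpenMor f ↔ ∀ (Z : Over S), IsAffine Z.left → ∀ (g : (yon S).obj Z ⟶ Y) (P : Sp S)
      (fst : P ⟶ X) (snd : P ⟶ (yon S).obj Z), IsPullback fst snd f g → IsOpenMap (Points.map snd) := by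
  refine ⟨fun h Z _ g P fst snd sq => h (IsAlgSpace.yon_obj Z) g fst snd sq, fun h Z Z' _ k fst snd sq U hU => ?_⟩
  refine isOpen_of_affine fun T hT t => ?_
  have H := IsPullback.of_hasPullback snd t
  have := (h T hT _ _ _ _ (H.paste_horiz sq) _ (hU.preimage (Points.continuous_map (pullback.fst snd t)))).preimage
    (Points.continuous_ofPt (𝟙 _))
  rw [image_preimage H U] at this
  convert this using 1
  ext w
  simp only [Set.mem_preimage]
  rw [← Points.ofPt_eq_map_ofScheme]

theorem univClosed_iff_affine (f : X ⟶ Y) :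
    IsUnivClosedMor f ↔ ∀ (Z : Over S), IsAffine Z.left → ∀ (g : (yon S).obj Z ⟶ Y) (P : Sp S)
      (fst : P ⟶ X) (snd : P ⟶ (yon S).obj Z), IsPullback fst snd f g → IsClosedMap (Points.map snd) := by
  refine ⟨fun h Z _ g P fst snd sq => h (IsAlgSpace.yon_obj Z) g fst snd sq, fun h Z Z' _ k fst snd sq U hU => ?_⟩
  refine isClosed_of_affine fun T hT t => ?_
  have H := IsPullback.of_hasPullback snd t
  have := (h T hT _ _ _ _ (H.paste_horiz sq) _ (hU.preimage (Points.continuous_map (pullback.fst snd t)))).preimage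
    (Points.continuous_ofPt (𝟙 _))
  rw [image_preimage H U] at this
  convert this using 1
  ext w
  simp only [Set.mem_preimage]
  rw [← Points.ofPt_eq_map_ofScheme]

/-- testing on an etale cover of the base -/
theorem etale_local_preimage (f : X ⟶ Y) {V : Over S} {p : (yon S).obj V ⟶ Y} (hp : RepWith @Etale p)
    (hps : RepWith @Surjective p) {P : Sp S} {fst : P ⟶ X} {snd : P ⟶ (yon S).obj V}
    (sq : IsPullback fst snd f p) {Q : MorphismProperty (Sp S)} (h : UnivSp Q snd)
    {T : Over S} (g : (yon S).obj T ⟶ Y) {PT : Sp S} {fT : PT ⟶ X} {sT : PT ⟶ (yon S).obj T}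
    (sqT : IsPullback fT sT f g) :
    ∃ (T' : Over S) (e : T' ⟶ T), Etale e.left ∧ Surjective e.left ∧
      ∃ (P' : Sp S) (π₁ : P' ⟶ PT) (π₂ : P' ⟶ (yon S).obj T'),
        IsPullback π₁ π₂ sT ((yon S).map e) ∧ Q π₂ := by
  obtain ⟨T', r, e, sq', he⟩ := exists_square hp g
  refine ⟨T', e, he, hps.property _ _ _ sq', ?_⟩
  have H := IsPullback.of_hasPullback sT ((yon S).map e)
  refine ⟨_, _, _, H, ?_⟩
  have big := H.paste_horiz sqT
  rw [← sq'.w] at big
  obtain ⟨v, hv1, hv2⟩ := sq.exists_lift (pullback.fst sT ((yon S).map e) ≫ fT)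
    (pullback.snd sT ((yon S).map e) ≫ r) (by rw [Category.assoc]; exact big.w)
  rw [← hv1] at big
  exact h (IsAlgSpace.yon_obj _) r v _ (IsPullback.of_right big hv2 sq)

theorem univOpen_of_etale_cover (f : X ⟶ Y) {V : Over S} {p : (yon S).obj V ⟶ Y} (hp : RepWith @Etale p)
    (hps : RepWith @Surjective p) {P : Sp S} {fst : P ⟶ X} {snd : P ⟶ (yon S).obj V}
    (sq : IsPullback fst snd f p) (h : IsUnivOpenMor snd) : IsUnivOpenMor f := by
  refine (univOpen_iff_affine f).2 fun T hT g PT fT sT sqT U hU => ?_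
  obtain ⟨T', e, he, hes, P', π₁, π₂, H, hπ⟩ := etale_local_preimage f hp hps sq h g sqT
  have h1 : IsOpen (Points.ofScheme T' ⁻¹' (Points.map ((yon S).map e) ⁻¹' (Points.map sT '' U))) := by
    rw [← image_preimage H U]
    exact (hπ _ (hU.preimage (Points.continuous_map _))).preimage (Points.continuous_ofPt _)
  have h2 : Points.ofScheme T' ⁻¹' (Points.map ((yon S).map e) ⁻¹' (Points.map sT '' U)) =
      e.left ⁻¹' (Points.ofScheme T ⁻¹' (Points.map sT '' U)) := by
    ext w; simp only [Set.mem_preimage]; rw [map_ofScheme]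
  rw [h2] at h1
  have h3 := e.left.isOpenMap _ h1
  rw [Set.image_preimage_eq _ e.left.surjective] at h3
  exact (Points.schemeHomeo T).isOpen_preimage.1 h3

theorem univClosed_of_etale_cover (f : X ⟶ Y) {V : Over S} {p : (yon S).obj V ⟶ Y} (hp : RepWith @Etale p)
    (hps : RepWith @Surjective p) {P : Sp S} {fst : P ⟶ X} {snd : P ⟶ (yon S).obj V}
    (sq : IsPullback fst snd f p) (h : IsUnivClosedMor snd) : IsUnivClosedMor f := by
  refine (univClosed_iff_affine f).2 fun T hT g PT fT sT sqT U hU => ?_
  obtain ⟨T', e, he, hes, P', π₁, π₂, H, hπ⟩ := etale_local_preimage f hp hps sq h g sqT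
  have h1 : IsClosed (Points.ofScheme T' ⁻¹' (Points.map ((yon S).map e) ⁻¹' (Points.map sT '' U))) := by
    rw [← image_preimage H U]
    exact (hπ _ (hU.preimage (Points.continuous_map _))).preimage (Points.continuous_ofPt _)
  have h2 : Points.ofScheme T' ⁻¹' (Points.map ((yon S).map e) ⁻¹' (Points.map sT '' U)) =
      e.left ⁻¹' (Points.ofScheme T ⁻¹' (Points.map sT '' U)) := by
    ext w; simp only [Set.mem_preimage]; rw [map_ofScheme]
  rw [h2, ← isOpen_compl_iff, ← Set.preimage_compl] at h1
  have h3 := e.left.isOpenMap _ h1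
  rw [Set.image_preimage_eq _ e.left.surjective, ← Set.preimage_compl] at h3
  exact isOpen_compl_iff.1 ((Points.schemeHomeo T).isOpen_preimage.1 h3)

/-- field-valued points -/
theorem mk_val_toHom {K : Type u} [Field K] (str : Spec (CommRingCat.of K) ⟶ S)
    (a : (yon S).obj (Over.mk str) ⟶ X) :
    Points.map a (Points.ofScheme (Over.mk str) (IsLocalRing.closedPoint K)) =
      Points.mk ⟨K, str, (J S).uliftYonedaEquiv a⟩ := by
  have h1 : Points.ofScheme (Over.mk str) (IsLocalRing.closedPoint K) =
      Points.mk (⟨K, str, ULift.up (Over.homMk (𝟙 _) (Category.id_comp _))⟩ : FieldPt ((yon S).obj (Over.mk str))) :=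
    Points.ofScheme_apply_eq_mk (Over.mk str) (str := str) (𝟙 (Spec (.of K))) (Category.id_comp _)
  rw [h1, Points.map_mk]
  rfl

theorem injective_points_of_field (f : X ⟶ Y)
    (h : ∀ (K : Type u) [Field K] (str : Spec (CommRingCat.of K) ⟶ S),
      Function.Injective (fun a : (yon S).obj (Over.mk str) ⟶ X => a ≫ f)) :
    IsUnivInjectiveMor f := by
  intro Z Z' _ g fst snd sq x₁ x₂ hx
  induction x₁ using Points.ind with
  | h p =>
  induction x₂ using Points.ind with
  | h q =>
  rw [Points.map_mk, Points.map_mk, Points.mk_eq_mk_iff] at hx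
  obtain ⟨Ω, _, w, a, b, e⟩ := hx
  replace e : Z.obj.map a.op (snd.hom.app _ p.val) = Z.obj.map b.op (snd.hom.app _ q.val) := e
  rw [← NatTrans.naturality_apply, ← NatTrans.naturality_apply] at e
  refine Points.sound ⟨Ω, inferInstance, w, a, b, ?_⟩
  obtain ⟨a', ha'⟩ := (GrothendieckTopology.uliftYonedaEquiv.{u+1} (J S)).surjective (Z'.obj.map a.op p.val)
  obtain ⟨b', hb'⟩ := (GrothendieckTopology.uliftYonedaEquiv.{u+1} (J S)).surjective (Z'.obj.map b.op q.val)
  refine ha'.symm.trans (Eq.trans ?_ hb')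
  congr 1
  have e' : a' ≫ snd = b' ≫ snd := (GrothendieckTopology.uliftYonedaEquiv.{u+1} (J S)).injective (by
    rw [GrothendieckTopology.uliftYonedaEquiv_comp, GrothendieckTopology.uliftYonedaEquiv_comp]
    exact ((congrArg (fun x => snd.hom.app _ x) ha').trans e).trans (congrArg (fun x => snd.hom.app _ x) hb').symm)
  refine sq.hom_ext (h Ω w ?_) e'
  simp only [Category.assoc, sq.w]
  rw [← Category.assoc, e', Category.assoc]

/-- two field-valued points agreeing over an extension are equal -/
theorem eq_of_map_eq (hX : IsAlgSpace X) {K : Type u} [Field K] (str : Spec (CommRingCat.of K) ⟶ S)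
    {a b : (yon S).obj (Over.mk str) ⟶ X} {Ω : Type u} [Field Ω] {w : Spec (CommRingCat.of Ω) ⟶ S}
    (i : Over.mk w ⟶ Over.mk str) (eab : (yon S).map i ≫ a = (yon S).map i ≫ b) : a = b := by
  -- equalizer
  obtain ⟨E, efst, esnd, sqE⟩ : ∃ (E : Over S) (efst : (yon S).obj E ⟶ X) (esnd : E ⟶ (Over.mk str)),
      IsPullback efst ((yon S).map esnd) (Limits.diag X) (prod.lift a b) :=
    ⟨_, _, _, hX.diag.isPullback (prod.lift a b)⟩
  have h1 : efst = (yon S).map esnd ≫ a := by
    have := congrArg (· ≫ prod.fst) sqE.w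
    simpa using this
  have h2 : efst = (yon S).map esnd ≫ b := by
    have := congrArg (· ≫ prod.snd) sqE.w
    simpa using this
  have : Mono ((yon S).map esnd) := ⟨fun {W} u v huv => sqE.hom_ext (by
      rw [h1, reassoc_of% huv]) huv⟩
  have : Mono esnd := (yon S).mono_of_mono_map this
  have : Mono esnd.left := inferInstanceAs (Mono ((Over.forget S).map esnd))
  obtain ⟨l, hl1, hl2⟩ := sqE.exists_lift ((yon S).map i ≫ a) ((yon S).map i) (by
    apply prod.hom_ext
    · simp
    · simp [eab])
  obtain ⟨l, rfl⟩ := (yon S).map_surjective l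
  have hli : l ≫ esnd = i := (yon S).map_injective (by rw [Functor.map_comp, hl2])
  have : Subsingleton ↥(Over.mk str).left := inferInstanceAs (Subsingleton ↥(Spec (CommRingCat.of K)))
  have : Surjective esnd.left := ⟨fun s => ⟨l.left (IsLocalRing.closedPoint Ω), Subsingleton.elim _ _⟩⟩
  have : QuasiCompact esnd.left := ⟨fun U _ _ => by
    have : Subsingleton ↥E.left := esnd.left.injective.subsingleton
    exact Set.Subsingleton.isCompact (Set.subsingleton_of_subsingleton)⟩
  have : Flat esnd.left := by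
    have : IsIntegral (Over.mk str).left := inferInstanceAs (IsIntegral (Spec (CommRingCat.of K)))
    infer_instance
  have : IsIso esnd.left := Flat.isIso_of_surjective_of_mono _
  have : IsIso esnd := by
    have : IsIso ((Over.forget S).map esnd) := this
    exact isIso_of_reflects_iso _ (Over.forget S)
  rw [← cancel_epi ((yon S).map esnd), ← h1, ← h2]


theorem injective_field_of_points (hX : IsAlgSpace X) (f : X ⟶ Y) (h : IsUnivInjectiveMor f)
    {K : Type u} [Field K] (str : Spec (CommRingCat.of K) ⟶ S) :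
    Function.Injective (fun a : (yon S).obj (Over.mk str) ⟶ X => a ≫ f) := by
  intro a b hab
  replace hab : a ≫ f = b ≫ f := hab
  have sq := IsPullback.of_hasPullback f (a ≫ f)
  have hinj := h (IsAlgSpace.yon_obj (Over.mk str)) _ _ _ sq
  obtain ⟨a', ha1, ha2⟩ := sq.exists_lift a (𝟙 _) (Category.id_comp _).symm
  obtain ⟨b', hb1, hb2⟩ := sq.exists_lift b (𝟙 _) (by rw [Category.id_comp, hab])
  -- the two lifts give the same point
  let t : ↥(Over.mk str).left := IsLocalRing.closedPoint K
  have e : Points.map a' (Points.ofScheme (Over.mk str) t) = Points.map b' (Points.ofScheme (Over.mk str) t) := by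
    apply hinj
    rw [← Points.map_comp, ← Points.map_comp, ha2, hb2]
  rw [mk_val_toHom str a', mk_val_toHom str b', Points.mk_eq_mk_iff] at e
  obtain ⟨Ω, _, w, i, j, e⟩ := e
  replace e : (yon S).map i ≫ a' = (yon S).map j ≫ b' := (GrothendieckTopology.uliftYonedaEquiv.{u+1} (J S)).injective (by
    rw [← GrothendieckTopology.uliftYonedaEquiv_naturality, ← GrothendieckTopology.uliftYonedaEquiv_naturality]
    exact e)
  have hij : i = j := (yon S).map_injective (by
    have := congrArg (· ≫ pullback.snd f (a ≫ f)) e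
    rw [Category.assoc, Category.assoc, ha2, hb2] at this
    exact (Category.comp_id _).symm.trans (this.trans (Category.comp_id _)))
  subst hij
  have eab : (yon S).map i ≫ a = (yon S).map i ≫ b := by
    have := congrArg (· ≫ pullback.fst f (a ≫ f)) e
    simpa [ha1, hb1] using this
  exact eq_of_map_eq hX str i eab

theorem univInjective_iff_diag (hX : IsAlgSpace X) (f : X ⟶ Y) :
    IsUnivInjectiveMor f ↔ IsSurjectiveMor (pullback.diagonal f) := by
  refine ⟨fun h x => ?_, fun h => injective_points_of_field f fun K _ str a b hab => ?_⟩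
  · induction x using Points.ind with
    | h p =>
    obtain ⟨c, hc⟩ := (GrothendieckTopology.uliftYonedaEquiv.{u+1} (J S)).surjective p.val
    have hab : c ≫ pullback.fst f f = c ≫ pullback.snd f f :=
      injective_field_of_points hX f h p.str (by simp [pullback.condition])
    refine ⟨Points.mk ⟨p.K, p.str, (GrothendieckTopology.uliftYonedaEquiv.{u+1} (J S)) (c ≫ pullback.fst f f)⟩, ?_⟩
    rw [Points.map_mk]
    refine Points.sound ⟨p.K, inferInstance, p.str, 𝟙 _, 𝟙 _, ?_⟩
    have : (c ≫ pullback.fst f f) ≫ pullback.diagonal f = c := by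
      ext <;> simp [hab]
    have h2 := GrothendieckTopology.uliftYonedaEquiv_comp.{u+1} (J S) (c ≫ pullback.fst f f) (pullback.diagonal f)
    rw [this, hc] at h2
    exact congrArg _ h2.symm
  · replace hab : a ≫ f = b ≫ f := hab
    obtain ⟨x, hx⟩ := h (Points.map (pullback.lift a b hab)
      (Points.ofScheme (Over.mk str) (IsLocalRing.closedPoint K)))
    rw [mk_val_toHom] at hx
    induction x using Points.ind with
    | h p =>
    rw [Points.map_mk, Points.mk_eq_mk_iff] at hx
    obtain ⟨Ω, _, w, i, j, e⟩ := hx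
    obtain ⟨c, hc⟩ := (GrothendieckTopology.uliftYonedaEquiv.{u+1} (J S)).surjective p.val
    have e' : ((yon S).map i : _ ⟶ (yon S).obj p.pt) ≫ c ≫ pullback.diagonal f =
        (yon S).map j ≫ pullback.lift a b hab := (GrothendieckTopology.uliftYonedaEquiv.{u+1} (J S)).injective (by
      rw [← GrothendieckTopology.uliftYonedaEquiv_naturality, ← GrothendieckTopology.uliftYonedaEquiv_naturality,
        GrothendieckTopology.uliftYonedaEquiv_comp, hc]
      exact e)
    refine eq_of_map_eq hX str j ?_
    have h1 := congrArg (· ≫ pullback.fst f f) e'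
    have h2 := congrArg (· ≫ pullback.snd f f) e'
    simp only [Category.assoc, pullback.diagonal_fst, pullback.diagonal_snd, Category.comp_id,
      pullback.lift_fst, pullback.lift_snd] at h1 h2
    exact h1.symm.trans h2

theorem surjective_iff_geometric (hX : IsAlgSpace X) (hY : IsAlgSpace Y) (f : X ⟶ Y)
    (hf : LocP @LocallyOfFiniteType f) :
    IsSurjectiveMor f ↔ ∀ (k : Type u) [Field k] [IsAlgClosed k] (str : Spec (CommRingCat.of k) ⟶ S)
      (y : (yon S).obj (Over.mk str) ⟶ Y), ∃ x : (yon S).obj (Over.mk str) ⟶ X, x ≫ f = y := by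
  refine ⟨fun h k _ _ str y => ?_, fun h y => ?_⟩
  · have H := IsPullback.of_hasPullback f y
    obtain ⟨M, T', m, e, v, hm, he, hes, -, hvs, hve⟩ := exists_chart hX hY f hf H
    obtain ⟨z, hz⟩ := surjective_snd H h (Points.ofScheme _ (IsLocalRing.closedPoint k))
    obtain ⟨p, rfl⟩ := surjective_ofPt hvs z
    have : LocallyOfFiniteType (m ≫ e).left := by
      change LocallyOfFiniteType (m.left ≫ e.left)
      have : LocallyOfFiniteType m.left := hm
      infer_instance
    have : JacobsonSpace ↥M.left :=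
      LocallyOfFiniteType.jacobsonSpace (X := M.left) (Y := Spec (CommRingCat.of k)) (m ≫ e).left
    obtain ⟨q, -, hq⟩ := nonempty_inter_closedPoints (Z := (Set.univ : Set ↥M.left)) ⟨p, trivial⟩
      isOpen_univ.isLocallyClosed
    obtain ⟨⟨s, hs⟩, -⟩ := (pointEquivClosedPoint (K := k) (X := M.left) (m ≫ e).left).surjective ⟨q, ‹_›⟩
    have hsw : s ≫ M.hom = str := by
      have := Over.w (m ≫ e)
      rw [← this, ← Category.assoc, hs]; exact Category.id_comp _
    let σ : Over.mk str ⟶ M := Over.homMk s hsw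
    have hσ : σ ≫ m ≫ e = 𝟙 _ := by ext; exact hs
    refine ⟨(yon S).map σ ≫ v ≫ pullback.fst f y, ?_⟩
    simp only [Category.assoc, H.w, reassoc_of% hve]
    rw [← Category.assoc, ← Functor.map_comp, hσ, CategoryTheory.Functor.map_id, Category.id_comp]
  · induction y using Points.ind with
    | h p =>
    let k := AlgebraicClosure p.K
    let i : Spec (CommRingCat.of k) ⟶ Spec (CommRingCat.of p.K) :=
      Spec.map (CommRingCat.ofHom (algebraMap p.K k))
    let w := i ≫ p.str
    let a : Over.mk w ⟶ p.pt := Over.homMk i rfl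
    obtain ⟨c, hc⟩ := (GrothendieckTopology.uliftYonedaEquiv.{u+1} (J S)).surjective p.val
    obtain ⟨x, hx⟩ := h k w ((yon S).map a ≫ c)
    refine ⟨Points.mk ⟨k, w, (GrothendieckTopology.uliftYonedaEquiv.{u+1} (J S)) x⟩, ?_⟩
    rw [Points.map_mk]
    refine Points.sound ⟨k, inferInstance, w, 𝟙 _, a, ?_⟩
    have h2 := GrothendieckTopology.uliftYonedaEquiv_comp.{u+1} (J S) x f
    rw [hx, ← GrothendieckTopology.uliftYonedaEquiv_naturality, hc] at h2
    refine Eq.trans ?_ h2.symm
    change Y.obj.map (𝟙 _) _ = _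
    simp; rfl

end AlgSpTopo
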