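import Mathlib
import Groth.Agent.AlgSpTopo.Diag
import Groth.Agent.AlgSpTopo.Univ

set_option autoImplicit false
set_option backward.isDefEq.respectTransparency false
universe u
open CategoryTheory CategoryTheory.Limits AlgebraicGeometry Opposite Topology

namespace AlgSpTopo
open AlgSp

variable {S : Scheme.{u}} {X Y : Sp S}

theorem exists_isEq (hX : IsAlgSpace X) {T : Over S} (a b : (yon S).obj T ⟶ X) :
    ∃ (E : Over S) (e : E ⟶ T), IsEq e a b := exists_equalizer hX a b

theorem IsEq.isIso_of_eq {T E : Over S} {e : E ⟶ T} {a b : (yon S).obj T ⟶ X} (he : IsEq e a b)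
    (h : a = b) : IsIso e := by
  obtain ⟨l, hl⟩ := he.2.2 (𝟙 _) (by rw [h])
  obtain ⟨l', rfl⟩ := (yon S).map_surjective l
  have h1 : l' ≫ e = 𝟙 _ := (yon S).map_injective (by simpa using hl)
  have := he.1
  exact ⟨l', (cancel_mono e).1 (by rw [Category.assoc, h1, Category.comp_id, Category.id_comp]), h1⟩

theorem IsEq.baseChange {T T' E : Over S} {e : E ⟶ T} {a b : (yon S).obj T ⟶ X} (he : IsEq e a b)
    (t : T' ⟶ T) : IsEq (pullback.snd e t) ((yon S).map t ≫ a) ((yon S).map t ≫ b) := by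
  have := he.1
  have H := (IsPullback.of_hasPullback e t).map (yon S)
  refine ⟨inferInstance, ?_, fun {W} k hk => ?_⟩
  · rw [← reassoc_of% H.w, he.2.1, reassoc_of% H.w]
  · obtain ⟨l, hl⟩ := he.2.2 (k ≫ (yon S).map t) (by simpa using hk)
    obtain ⟨m, -, hm⟩ := H.exists_lift l k hl
    exact ⟨m, hm⟩

theorem IsEq.congr_of_iff {X' : Sp S} {T E : Over S} {e : E ⟶ T} {a b : (yon S).obj T ⟶ X}
    {a' b' : (yon S).obj T ⟶ X'} (he : IsEq e a b)
    (h : ∀ {W : Sp S} (k : W ⟶ (yon S).obj T), k ≫ a = k ≫ b ↔ k ≫ a' = k ≫ b') : IsEq e a' b' :=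
  ⟨he.1, (h _).1 he.2.1, fun k hk => he.2.2 k ((h k).2 hk)⟩

/-- the relative diagonal has `Q` on all equalizers -/
def DiagP (Q : MorphismProperty Scheme.{u}) (f : X ⟶ Y) : Prop :=
  ∀ ⦃T : Over S⦄ (a b : (yon S).obj T ⟶ X), a ≫ f = b ≫ f →
    ∀ ⦃E : Over S⦄ (e : E ⟶ T), IsEq e a b → Q e.left

theorem isPullback_diagonal_of_isEq {f : X ⟶ Y} {T E : Over S} {e : E ⟶ T}
    {h : (yon S).obj T ⟶ pullback f f}
    (he : IsEq e (h ≫ pullback.fst f f) (h ≫ pullback.snd f f)) :
    IsPullback ((yon S).map e ≫ h ≫ pullback.fst f f) ((yon S).map e) (pullback.diagonal f) h := by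
  obtain ⟨hmono, hab, hu⟩ := he
  have w : ((yon S).map e ≫ h ≫ pullback.fst f f) ≫ pullback.diagonal f = (yon S).map e ≫ h := by
    apply pullback.hom_ext
    · simp
    · simpa using hab
  refine IsPullback.of_isLimit' ⟨w⟩ ?_
  have key : ∀ s : PullbackCone (pullback.diagonal f) h,
      ∃ l, l ≫ (yon S).map e = s.snd ∧ l ≫ (yon S).map e ≫ h ≫ pullback.fst f f = s.fst := by
    intro s
    have h1 : s.fst = s.snd ≫ h ≫ pullback.fst f f := by
      have := congrArg (· ≫ pullback.fst f f) s.condition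
      simpa using this
    have h2 : s.fst = s.snd ≫ h ≫ pullback.snd f f := by
      have := congrArg (· ≫ pullback.snd f f) s.condition
      simpa using this
    obtain ⟨l, hl⟩ := hu s.snd (h1.symm.trans h2)
    exact ⟨l, hl, by rw [reassoc_of% hl, h1]⟩
  choose l hl hl' using key
  have : Mono ((yon S).map e) := inferInstance
  exact PullbackCone.IsLimit.mk _ l hl' hl fun s m _ hm =>
    (cancel_mono ((yon S).map e)).1 (hm.trans (hl s).symm)

theorem repWith_diagonal_iff (hX : IsAlgSpace X) (Q : MorphismProperty Scheme.{u}) (f : X ⟶ Y) :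
    RepWith Q (pullback.diagonal f) ↔ DiagP Q f := by
  refine ⟨fun h T a b hab E e he => ?_, fun h => ⟨representable_diagonal hX f, fun T E g fst e sq =>
    h _ _ (by simp [pullback.condition]) e (isEq_of_square_diagonal sq)⟩⟩
  refine h.property (pullback.lift a b hab) _ e (isPullback_diagonal_of_isEq ?_)
  simpa using he

theorem separatedMor_iff (hX : IsAlgSpace X) (f : X ⟶ Y) :
    IsSeparatedMor f ↔ DiagP @IsClosedImmersion f := repWith_diagonal_iff hX _ f

theorem quasiSeparatedMor_iff (hX : IsAlgSpace X) (f : X ⟶ Y) :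
    IsQuasiSeparatedMor f ↔ DiagP @QuasiCompact f := repWith_diagonal_iff hX _ f

theorem isClosedImmersion_iff_universallyClosed (hX : IsAlgSpace X) {T E : Over S} {e : E ⟶ T}
    {a b : (yon S).obj T ⟶ X} (he : IsEq e a b) :
    IsClosedImmersion e.left ↔ UniversallyClosed e.left := by
  obtain ⟨h1, h2, h3, -⟩ := isEq_props hX he
  refine ⟨fun _ => inferInstance, fun _ => (IsClosedImmersion.iff_isProper_and_mono _).2 ⟨{ }, h2⟩⟩

theorem diagP_closedImmersion_iff (hX : IsAlgSpace X) (f : X ⟶ Y) :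
    DiagP @IsClosedImmersion f ↔ DiagP @UniversallyClosed f :=
  ⟨fun h _ a b hab _ e he => (isClosedImmersion_iff_universallyClosed hX he).1 (h a b hab e he),
   fun h _ a b hab _ e he => (isClosedImmersion_iff_universallyClosed hX he).2 (h a b hab e he)⟩

theorem DiagP.baseChange {Q : MorphismProperty Scheme.{u}} {X' Y' : Sp S} {f : X ⟶ Y} (h : DiagP Q f)
    {g : Y' ⟶ Y} {q : X' ⟶ X} {p : X' ⟶ Y'} (sq : IsPullback q p f g) : DiagP Q p := by
  intro T a b hab E e he
  refine h (a ≫ q) (b ≫ q) (by simp only [Category.assoc, sq.w, reassoc_of% hab]) e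
    (he.congr_of_iff fun {W} k => ⟨fun hk => by rw [reassoc_of% hk], fun hk => sq.hom_ext (by simpa using hk) ?_⟩)
  simp only [Category.assoc, hab]

/-- one step of descent -/
theorem property_snd_of_lift {Q : MorphismProperty Scheme.{u}} {X' Y' : Sp S} {f : X ⟶ Y}
    {g : Y' ⟶ Y} {q : X' ⟶ X} {p : X' ⟶ Y'} (sq : IsPullback q p f g) (hp : DiagP Q p)
    {T T' E : Over S} {e : E ⟶ T} {a b : (yon S).obj T ⟶ X} (he : IsEq e a b) (hab : a ≫ f = b ≫ f)
    (t : T' ⟶ T) (l : (yon S).obj T' ⟶ Y') (hl : l ≫ g = (yon S).map t ≫ a ≫ f) :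
    Q (pullback.snd e t).left := by
  obtain ⟨a', ha1, ha2⟩ := sq.exists_lift ((yon S).map t ≫ a) l (by rw [Category.assoc, hl])
  obtain ⟨b', hb1, hb2⟩ := sq.exists_lift ((yon S).map t ≫ b) l (by rw [Category.assoc, hl, hab])
  refine hp a' b' (by rw [ha2, hb2]) _ ((he.baseChange t).congr_of_iff fun {W} k => ?_)
  rw [← ha1, ← hb1]
  refine ⟨fun hk => sq.hom_ext (by simpa using hk) (by simp [ha2, hb2]), fun hk => ?_⟩
  rw [reassoc_of% hk]

/-- it is enough to test `DiagP` on affine schemes -/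
theorem diagP_of_affine {Q : MorphismProperty Scheme.{u}} [IsZariskiLocalAtTarget Q] (f : X ⟶ Y)
    (h : ∀ ⦃T : Over S⦄, IsAffine T.left → ∀ (a b : (yon S).obj T ⟶ X), a ≫ f = b ≫ f →
      ∀ ⦃E : Over S⦄ (e : E ⟶ T), IsEq e a b → Q e.left) : DiagP Q f := by
  intro T a b hab E e he
  refine (IsZariskiLocalAtTarget.iff_of_iSup_eq_top (P := Q) _ (iSup_affineOpens_eq_top T.left)).2 fun V => ?_
  let TV : Over S := Over.mk (V.1.ι ≫ T.hom)
  let ι : TV ⟶ T := Over.homMk V.1.ι rfl
  have hV := h (T := TV) V.2 _ _ (by simp [hab]) _ (he.baseChange ι)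
  have sq := ((IsPullback.of_hasPullback e ι).map (Over.forget S))
  have := (isPullback_morphismRestrict e.left V.1).isoIsPullback_hom_fst _ _ sq.flip
  rw [← this, Q.cancel_left_of_respectsIso]
  exact hV

/-- quasi-compactness descends along quasi-compact surjections -/
instance : MorphismProperty.DescendsAlong @QuasiCompact (@Surjective ⊓ @Flat ⊓ @QuasiCompact) where
  of_isPullback {A X' Y' Z fst snd f g} sq hf hf' := by
    obtain ⟨⟨hs, -⟩, hq⟩ := hf
    refine ⟨fun U hU hUc => ?_⟩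
    have : Surjective snd := MorphismProperty.of_isPullback (P := @Surjective) sq hs
    have e : g ⁻¹' U = snd '' (fst ⁻¹' (f ⁻¹' U)) := by
      rw [← Set.preimage_comp, ← TopCat.coe_comp, ← Scheme.Hom.comp_base, sq.w, Scheme.Hom.comp_base,
        TopCat.coe_comp, Set.preimage_comp, Set.image_preimage_eq _ snd.surjective]
    rw [e]
    exact (hf'.isCompact_preimage _ (hU.preimage f.continuous)
      (hq.isCompact_preimage _ hU hUc)).image snd.continuous

theorem diagP_of_fpqc {Q : MorphismProperty Scheme.{u}} [IsZariskiLocalAtTarget Q]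
    [Q.DescendsAlong (@Surjective ⊓ @Flat ⊓ @QuasiCompact)]
    {ι : Type u} {Y : Sp S} {Yi : ι → Sp S} {g : ∀ i, Yi i ⟶ Y}
    (hcov : IsFpqcCover (S := S) Yi g) {X : Sp S} {f : X ⟶ Y} {Xi : ι → Sp S}
    {p : ∀ i, Xi i ⟶ Yi i} {q : ∀ i, Xi i ⟶ X} (sqs : ∀ i, IsPullback (q i) (p i) f (g i))
    (hp : ∀ i, DiagP Q (p i)) : DiagP Q f := by
  refine diagP_of_affine f fun T hT a b hab E e he => ?_
  obtain ⟨m, W, c, hW, hc, hs, hl⟩ := hcov.2 T hT (a ≫ f)
  let J := ULift.{u} (Fin m)
  let W' : J → Scheme.{u} := fun j => (W j.down).left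
  have : ∀ j, IsAffine (W' j) := fun j => hW _
  let d : (∐ W') ⟶ T.left := Sigma.desc fun j => (c j.down).left
  have : Flat d := IsZariskiLocalAtSource.sigmaDesc fun j => hc _
  have : QuasiCompact d := (HasAffineProperty.iff_of_isAffine (P := @QuasiCompact)).2 inferInstance
  have : Surjective d := ⟨fun t => by
    obtain ⟨j, x, hx⟩ := hs t
    refine ⟨Sigma.ι W' ⟨j⟩ x, ?_⟩
    rw [← Scheme.Hom.comp_apply, Sigma.ι_desc]; exact hx⟩
  refine MorphismProperty.of_isPullback_of_descendsAlong (Q := @Surjective ⊓ @Flat ⊓ @QuasiCompact)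
    (IsPullback.of_hasPullback e.left d).flip ⟨⟨inferInstance, inferInstance⟩, inferInstance⟩ ?_
  refine (IsZariskiLocalAtTarget.iff_of_openCover (sigmaOpenCover W')).2 fun j => ?_
  obtain ⟨i, l, hl⟩ := hl j.down
  have hj := property_snd_of_lift (sqs i) (hp i) he hab (c j.down) l hl
  have sq1 := ((IsPullback.of_hasPullback e (c j.down)).map (Over.forget S))
  have sq2 : IsPullback (pullback.fst (pullback.snd e.left d) (Sigma.ι W' j) ≫ pullback.fst e.left d)
      (pullback.snd (pullback.snd e.left d) (Sigma.ι W' j)) e.left (c j.down).left := by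
    have := (IsPullback.of_hasPullback (pullback.snd e.left d) (Sigma.ι W' j)).paste_horiz
      (IsPullback.of_hasPullback e.left d)
    rwa [Sigma.ι_desc] at this
  have := sq2.isoIsPullback_hom_snd _ _ sq1
  rw [show (sigmaOpenCover W').pullbackHom (pullback.snd e.left d) j =
    pullback.snd (pullback.snd e.left d) (Sigma.ι W' j) from rfl, ← this, Q.cancel_left_of_respectsIso]
  exact hj

theorem diagP_of_etale_cover {Q : MorphismProperty Scheme.{u}}
    [Q.DescendsAlong (@Surjective ⊓ @Flat ⊓ @LocallyOfFinitePresentation)] {f : X ⟶ Y} {V : Over S}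
    {p : (yon S).obj V ⟶ Y} (hp : RepWith @Etale p) (hps : RepWith @Surjective p) {P : Sp S}
    {fst : P ⟶ X} {snd : P ⟶ (yon S).obj V} (sq : IsPullback fst snd f p) (h : DiagP Q snd) :
    DiagP Q f := by
  intro T a b hab E e he
  obtain ⟨T', r, t, sqT, ht⟩ := exists_square hp (a ≫ f)
  have : Surjective t.left := hps.property _ _ _ sqT
  have := ht
  exact MorphismProperty.of_isPullback_of_descendsAlong
    (Q := @Surjective ⊓ @Flat ⊓ @LocallyOfFinitePresentation)
    ((IsPullback.of_hasPullback e t).map (Over.forget S)).flip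
    ⟨⟨‹Surjective t.left›, inferInstanceAs (Flat t.left)⟩, inferInstanceAs (LocallyOfFinitePresentation t.left)⟩
    (property_snd_of_lift sq h he hab t r sqT.w)

theorem diagP_of_affine_base {Q : MorphismProperty Scheme.{u}} [IsZariskiLocalAtTarget Q] (f : X ⟶ Y)
    (h : ∀ (Z : Over S), IsAffine Z.left → ∀ (g : (yon S).obj Z ⟶ Y) (P : Sp S) (fst : P ⟶ X)
      (snd : P ⟶ (yon S).obj Z), IsPullback fst snd f g → DiagP Q snd) : DiagP Q f := by
  refine diagP_of_affine f fun T hT a b hab E e he => ?_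
  have sq := IsPullback.of_hasPullback f (a ≫ f)
  obtain ⟨a', ha1, ha2⟩ := sq.exists_lift a (𝟙 _) (Category.id_comp _).symm
  obtain ⟨b', hb1, hb2⟩ := sq.exists_lift b (𝟙 _) (by rw [Category.id_comp, hab])
  refine h T hT _ _ _ _ sq a' b' (by rw [ha2, hb2]) e (he.congr_of_iff fun {W} k => ?_)
  refine ⟨fun hk => sq.hom_ext ?_ (by simp [ha2, hb2]), fun hk => by rw [← ha1, ← hb1, reassoc_of% hk]⟩
  simp [ha1, hb1, hk]

theorem qs_sp_iff (hX : IsAlgSpace X) :
    IsQuasiSeparatedSp X ↔ ∀ ⦃T : Over S⦄ (a b : (yon S).obj T ⟶ X) ⦃E : Over S⦄ (e : E ⟶ T),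
      IsEq e a b → QuasiCompact e.left := by
  refine ⟨fun h T a b E e he => ?_, fun h => ⟨hX.diag, fun T E g fst e sq => h _ _ e (isEq_of_square_diag sq)⟩⟩
  have := he.1
  obtain ⟨E', fst, e', sq⟩ : ∃ (E' : Over S) (fst : (yon S).obj E' ⟶ X) (e' : E' ⟶ T),
      IsPullback fst ((yon S).map e') (Limits.diag X) (prod.lift a b) :=
    ⟨_, _, _, hX.diag.isPullback (prod.lift a b)⟩
  have hq := h.property _ _ _ sq
  have he' : IsEq e' a b := by simpa using isEq_of_square_diag sq
  have := he'.1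
  obtain ⟨l, hl⟩ := he'.2.2 _ he.2.1
  obtain ⟨m, hm⟩ := he.2.2 _ he'.2.1
  obtain ⟨l', rfl⟩ := (yon S).map_surjective l
  obtain ⟨m', rfl⟩ := (yon S).map_surjective m
  have hl' : l' ≫ e' = e := (yon S).map_injective (by rw [Functor.map_comp, hl])
  have hm' : m' ≫ e = e' := (yon S).map_injective (by rw [Functor.map_comp, hm])
  have : IsIso l' := ⟨m', (cancel_mono e).1 (by simp [hm', hl']), (cancel_mono e').1 (by simp [hm', hl'])⟩
  have : IsIso l'.left := inferInstanceAs (IsIso ((Over.forget S).map l'))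
  rw [← hl', Over.comp_left]
  exact (MorphismProperty.cancel_left_of_respectsIso @QuasiCompact _ _).2 hq

theorem qcMor_of_qc_qs [QuasiSeparatedSpace ↥S] (hXa : IsAlgSpace X) (hYa : IsAlgSpace Y) (f : X ⟶ Y)
    (hX : IsQuasiCompactSp X) (hY : IsQuasiSeparatedSp Y) : IsQuasiCompactMor f := by
  refine isQuasiCompactMor_of_affine hXa hYa f fun T hT k P fst snd sq => ?_
  obtain ⟨U, p, hp1, hp2, hU⟩ := hX
  let R : Over S := U ⨯ T
  obtain ⟨E, e, he⟩ := exists_isEq hYa ((yon S).map (prod.fst : R ⟶ U) ≫ p ≫ f)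
    ((yon S).map (prod.snd : R ⟶ T) ≫ k)
  have := (qs_sp_iff hYa).1 hY _ _ e he
  have : QuasiSeparated (terminal.from S) := inferInstance
  have : CompactSpace ↥T.left := inferInstance
  have : CompactSpace ↥R.left := by
    have : QuasiCompact U.hom := inferInstance
    have sq' := (IsPullback.of_hasPullback U.hom T.hom)
    have : CompactSpace ↥(pullback U.hom T.hom) := QuasiCompact.compactSpace_of_compactSpace (pullback.snd U.hom T.hom)
    exact (Scheme.homeoOfIso (Over.prodLeftIsoPullback U T)).symm.compactSpace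
  have : CompactSpace ↥E.left := QuasiCompact.compactSpace_of_compactSpace e.left
  obtain ⟨v, hv1, hv2⟩ := sq.exists_lift ((yon S).map (e ≫ (prod.fst : R ⟶ U)) ≫ p)
    ((yon S).map (e ≫ (prod.snd : R ⟶ T))) (by
      simp only [Functor.map_comp, Category.assoc]; exact he.2.1)
  have hc : CompactSpace (Points ((yon S).obj E)) := (Points.schemeHomeo E).compactSpace
  refine compactSpace_of_surjective (π := v) hc fun x => ?_
  -- surjectivity
  have H := IsPullback.of_hasPullback fst p
  obtain ⟨z, rfl⟩ := surjective_snd H.flip (surjective_of_repWith hp2) x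
  obtain ⟨u, hu⟩ := ofScheme_surjective U (Points.map (pullback.snd fst p) z)
  obtain ⟨m, hm⟩ : ∃ m : pullback fst p ⟶ (yon S).obj R,
      m ≫ (yon S).map (prod.fst : R ⟶ U) = pullback.snd fst p ∧
      m ≫ (yon S).map (prod.snd : R ⟶ T) = pullback.fst fst p ≫ snd := by
    refine ⟨prod.lift (pullback.snd fst p) (pullback.fst fst p ≫ snd) ≫ inv (prodComparison (yon S) U T), ?_, ?_⟩
    · rw [Category.assoc, IsIso.inv_comp_eq _ |>.2 (prodComparison_fst (yon S) U T).symm]; simp
    · rw [Category.assoc, IsIso.inv_comp_eq _ |>.2 (prodComparison_snd (yon S) U T).symm]; simp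
  obtain ⟨l, hl⟩ := he.2.2 m (by
    rw [reassoc_of% hm.1, reassoc_of% hm.2, ← sq.w, reassoc_of% pullback.condition (f := fst) (g := p)])
  have hlv : l ≫ v = pullback.fst fst p := by
    apply sq.hom_ext
    · rw [Category.assoc, hv1, Functor.map_comp, Category.assoc, reassoc_of% hl, reassoc_of% hm.1]
      exact pullback.condition.symm
    · rw [Category.assoc, hv2, Functor.map_comp, reassoc_of% hl, hm.2]
  exact ⟨Points.map l z, by rw [← Points.map_comp, hlv]⟩

theorem qs_of_pullback {Z P : Sp S} (hXa : IsAlgSpace X) (hZa : IsAlgSpace Z) (hPa : IsAlgSpace P)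
    {f : X ⟶ Y} {g : Z ⟶ Y} {fst : P ⟶ X} {snd : P ⟶ Z} (sq : IsPullback fst snd f g)
    (hX : IsQuasiSeparatedSp X) (hZ : IsQuasiSeparatedSp Z) : IsQuasiSeparatedSp P := by
  refine (qs_sp_iff hPa).2 fun T a b E e he => ?_
  obtain ⟨E1, e1, he1⟩ := exists_isEq hXa (a ≫ fst) (b ≫ fst)
  have h1 := (qs_sp_iff hXa).1 hX _ _ e1 he1
  obtain ⟨E2, e2, he2⟩ := exists_isEq hZa ((yon S).map e1 ≫ a ≫ snd) ((yon S).map e1 ≫ b ≫ snd)
  have h2 := (qs_sp_iff hZa).1 hZ _ _ e2 he2
  have := he.1
  have := he1.1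
  have := he2.1
  obtain ⟨l, hl⟩ := he1.2.2 _ (by rw [reassoc_of% he.2.1])
  obtain ⟨l', rfl⟩ := (yon S).map_surjective l
  obtain ⟨m, hm⟩ := he2.2.2 ((yon S).map l') (by rw [reassoc_of% hl, reassoc_of% hl, reassoc_of% he.2.1])
  obtain ⟨m', rfl⟩ := (yon S).map_surjective m
  obtain ⟨n, hn⟩ := he.2.2 ((yon S).map (e2 ≫ e1)) (sq.hom_ext
    (by simp only [Functor.map_comp, Category.assoc]; rw [he1.2.1])
    (by simp only [Functor.map_comp, Category.assoc]; exact he2.2.1))
  obtain ⟨n', rfl⟩ := (yon S).map_surjective n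
  have hl' : l' ≫ e1 = e := (yon S).map_injective (by rw [Functor.map_comp, hl])
  have hm' : m' ≫ e2 = l' := (yon S).map_injective (by rw [Functor.map_comp, hm])
  have hn' : n' ≫ e = e2 ≫ e1 := (yon S).map_injective (by rw [Functor.map_comp, hn])
  have hfac : e = m' ≫ e2 ≫ e1 := by rw [reassoc_of% hm', hl']
  have : IsIso m' := ⟨n', (cancel_mono e).1 (by rw [Category.assoc, hn', ← hfac, Category.id_comp]),
    (cancel_mono (e2 ≫ e1)).1 (by rw [Category.assoc, ← hfac, hn', Category.id_comp])⟩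
  have : IsIso m'.left := inferInstanceAs (IsIso ((Over.forget S).map m'))
  rw [hfac]
  simp only [Over.comp_left]
  infer_instance

theorem univClosed_of_diagP (hX : IsAlgSpace X) (f : X ⟶ Y) (h : DiagP @IsClosedImmersion f) :
    IsUnivClosedMor (pullback.diagonal f) := by
  refine (univClosed_iff_affine _).2 fun Z hZ g P fst snd sq => ?_
  obtain ⟨E, efst, e, sqE, -⟩ := exists_square ((repWith_diagonal_iff hX _ f).2 h) g
  have := ((repWith_diagonal_iff hX _ f).2 h).property _ _ _ sqE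
  have : IsClosedImmersion e.left := this
  have hiso := sq.isoIsPullback_hom_snd _ _ sqE
  rw [← hiso]
  intro C hC
  have : Points.map ((sq.isoIsPullback _ _ sqE).hom ≫ (yon S).map e) '' C =
      Points.ofScheme Z '' (e.left '' (Points.ofScheme E ⁻¹' (Points.map (sq.isoIsPullback _ _ sqE).inv ⁻¹' C))) := by
    ext z
    constructor
    · rintro ⟨c, hc, rfl⟩
      obtain ⟨w, hw⟩ := ofScheme_surjective E (Points.map (sq.isoIsPullback _ _ sqE).hom c)
      refine ⟨e.left w, ⟨w, ?_, rfl⟩, ?_⟩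
      · rw [Set.mem_preimage, Set.mem_preimage, hw, ← Points.map_comp, Iso.hom_inv_id, Points.map_id]
        exact hc
      · rw [Points.map_comp, ← hw, map_ofScheme]
    · rintro ⟨_, ⟨w, hw, rfl⟩, rfl⟩
      refine ⟨_, hw, ?_⟩
      rw [← Points.map_comp, Iso.inv_hom_id_assoc, map_ofScheme]
  rw [this]
  exact (Points.schemeHomeo Z).isClosedMap _ (e.left.isClosedEmbedding.isClosedMap _
    ((hC.preimage (Points.continuous_map _)).preimage (Points.continuous_ofPt _)))

theorem diagP_of_univClosed (hX : IsAlgSpace X) (f : X ⟶ Y) (h : IsUnivClosedMor (pullback.diagonal f)) :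
    DiagP @UniversallyClosed f := by
  intro T a b hab E e he
  refine ⟨fun A B i₁ i₂ f' sqf => ?_⟩
  let A' : Over S := Over.mk (i₂ ≫ T.hom)
  let t : A' ⟶ T := Over.homMk i₂ rfl
  have heq := he.baseChange t
  have hl : ((yon S).map t ≫ a) ≫ f = ((yon S).map t ≫ b) ≫ f := by simp [hab]
  have sq := isPullback_diagonal_of_isEq (h := pullback.lift _ _ hl) (e := pullback.snd e t)
    (by simpa using heq)
  have hc := h (IsAlgSpace.yon_obj A') _ _ _ sq
  have hcl : IsClosedMap (pullback.snd e t).left := by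
    intro C hC
    have e1 : (pullback.snd e t).left '' C = Points.ofScheme A' ⁻¹'
        (Points.map ((yon S).map (pullback.snd e t)) '' (Points.ofScheme _ '' C)) := by
      ext w
      constructor
      · rintro ⟨c, hc, rfl⟩
        exact ⟨_, ⟨c, hc, rfl⟩, map_ofScheme _ _⟩
      · rintro ⟨_, ⟨c, hc, rfl⟩, hw⟩
        rw [map_ofScheme] at hw
        exact ⟨c, hc, (Points.schemeEquiv A').injective hw⟩
    rw [e1]
    exact (hc _ ((Points.schemeHomeo _).isClosedMap _ hC)).preimage (Points.continuous_ofPt _)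
  have sq1 := ((IsPullback.of_hasPullback e t).map (Over.forget S))
  have hiso := sqf.flip.isoIsPullback_hom_snd _ _ sq1
  change IsClosedMap f'
  rw [← hiso, Scheme.Hom.comp_base, TopCat.coe_comp]
  exact hcl.comp (Scheme.homeoOfIso (sqf.flip.isoIsPullback _ _ sq1)).isClosedMap

theorem proper_diagonal (hX : IsAlgSpace X) (hY : IsAlgSpace Y) (f : X ⟶ Y) (h : DiagP @IsClosedImmersion f) :
    IsProperMor (pullback.diagonal f) := by
  have hP : IsAlgSpace (pullback f f) := isAlgSpace_pullback hX hY hX f f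
  have hr := (repWith_diagonal_iff hX _ f).2 h
  refine ⟨(separatedMor_iff hX _).2 fun T a b hab E e he => ?_, ⟨?_, ?_⟩, univClosed_of_diagP hX f h⟩
  · have : a = b := by
      have := congrArg (· ≫ pullback.fst f f) hab
      simpa using this
    have := he.isIso_of_eq this
    have : IsIso e.left := inferInstanceAs (IsIso ((Over.forget S).map e))
    exact (inferInstance : IsClosedImmersion e.left)
  · intro U V a b k ha hb comm
    obtain ⟨E, efst, e, sqE, -⟩ := exists_square hr b
    have : IsClosedImmersion e.left := hr.property _ _ _ sqE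
    obtain ⟨σ, hσ1, hσ2⟩ := sqE.exists_lift a ((yon S).map k) comm
    obtain ⟨σ', rfl⟩ := (yon S).map_surjective σ
    obtain ⟨E', ufst, pr, sqU, hpr⟩ := exists_square ha efst
    obtain ⟨ufst', rfl⟩ := (yon S).map_surjective ufst
    obtain ⟨τ, hτ1, hτ2⟩ := sqU.exists_lift (𝟙 _) ((yon S).map σ') (by rw [Category.id_comp, hσ1])
    obtain ⟨τ', rfl⟩ := (yon S).map_surjective τ
    have e1 : τ' ≫ ufst' = 𝟙 _ := (yon S).map_injective (by simpa using hτ1)
    have e2 : τ' ≫ pr = σ' := (yon S).map_injective (by simpa using hτ2)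
    have e3 : σ' ≫ e = k := (yon S).map_injective (by simpa using hσ2)
    have : Etale pr.left := hpr
    have : LocallyOfFiniteType (τ'.left ≫ ufst'.left) := by
      rw [← Over.comp_left, e1]; exact (inferInstance : LocallyOfFiniteType (𝟙 U.left))
    have : LocallyOfFiniteType τ'.left := locallyOfFiniteType_of_comp _ ufst'.left
    rw [← e3, ← e2]
    simp only [Over.comp_left]
    infer_instance
  · refine isQuasiCompactMor_of_affine hX hP _ fun T hT k P fst snd sq => ?_
    obtain ⟨E, efst, e, sqE, -⟩ := exists_square hr k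
    have : IsClosedImmersion e.left := hr.property _ _ _ sqE
    have : CompactSpace ↥E.left := QuasiCompact.compactSpace_of_compactSpace e.left
    have hc : CompactSpace (Points ((yon S).obj E)) := (Points.schemeHomeo E).compactSpace
    exact compactSpace_of_surjective (π := (sq.isoIsPullback _ _ sqE).inv) hc fun x =>
      ⟨Points.map (sq.isoIsPullback _ _ sqE).hom x, by rw [← Points.map_comp, Iso.hom_inv_id, Points.map_id]⟩

end AlgSpTopo
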