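import Mathlib
import Groth.Agent.AlgSpTopo.Separation

set_option autoImplicit false
set_option backward.isDefEq.respectTransparency false
universe u
open CategoryTheory CategoryTheory.Limits AlgebraicGeometry Opposite Topology

namespace AlgSpTopo
open AlgSp

variable {S : Scheme.{u}} {X Y : Sp S}

theorem isEq_id {T : Over S} (a : (yon S).obj T ⟶ X) : IsEq (𝟙 T) a a :=
  ⟨inferInstance, rfl, fun k _ => ⟨k, by simp⟩⟩

theorem mono_iff_diagP (hX : IsAlgSpace X) (f : X ⟶ Y) :
    Mono f ↔ DiagP (MorphismProperty.isomorphisms Scheme.{u}) f := by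
  refine ⟨fun _ T a b hab E e he => ?_, fun h => ⟨fun {Z} a b hab => ?_⟩⟩
  · have := he.isIso_of_eq ((cancel_mono f).1 hab)
    exact inferInstanceAs (IsIso ((Over.forget S).map e))
  · ext ⟨T⟩ x
    obtain ⟨c, rfl⟩ := (GrothendieckTopology.uliftYonedaEquiv.{u+1} (J S)).surjective x
    obtain ⟨E, e, he⟩ := exists_isEq hX (c ≫ a) (c ≫ b)
    have : IsIso e.left := h (c ≫ a) (c ≫ b) (by simp only [Category.assoc, hab]) e he
    have : IsIso e := by
      have : IsIso ((Over.forget S).map e) := this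
      exact isIso_of_reflects_iso _ (Over.forget S)
    have e1 : c ≫ a = c ≫ b := (cancel_epi ((yon S).map e)).1 he.2.1
    have h2 := congrArg (GrothendieckTopology.uliftYonedaEquiv.{u+1} (J S)) e1
    rwa [GrothendieckTopology.uliftYonedaEquiv_comp, GrothendieckTopology.uliftYonedaEquiv_comp] at h2

/-- the image sieve of a section contains any map along which it lifts -/
theorem generate_singleton_mem {M T : Over S} (m : M ⟶ T) [Flat m.left] [LocallyOfFinitePresentation m.left]
    [Surjective m.left] : Sieve.generate (Presieve.singleton m) ∈ J S T := by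
  rw [J_eq, GrothendieckTopology.mem_over_iff]
  refine GrothendieckTopology.superset_covering _ ?_
    (Precoverage.generate_mem_toGrothendieck (R := Presieve.singleton m.left)
      ((Scheme.singleton_mem_precoverage_iff _ _).2 ⟨m.left.surjective, inferInstance, inferInstance⟩))
  rw [Sieve.generate_le_iff]
  intro _ g ⟨⟩
  exact (Sieve.overEquiv_iff _ _).2 ⟨M, Over.homMk (𝟙 _) (by simp), m, ⟨⟩, by ext; simp⟩

theorem generate_opens_mem (T : Over S) :
    Sieve.generate (Presieve.ofArrows (fun V : T.left.affineOpens => Over.mk (V.1.ι ≫ T.hom))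
      (fun V => Over.homMk V.1.ι rfl)) ∈ J S T := by
  rw [J_eq, GrothendieckTopology.mem_over_iff]
  refine GrothendieckTopology.superset_covering _ ?_
    (Precoverage.generate_mem_toGrothendieck
      (R := Presieve.ofArrows (fun V : T.left.affineOpens => V.1.toScheme) fun V => V.1.ι) ?_)
  · rw [Sieve.generate_le_iff]
    intro _ g ⟨V⟩
    exact (Sieve.overEquiv_iff _ _).2 ⟨_, 𝟙 _, _, ⟨V⟩, Category.id_comp _⟩
  · refine (Scheme.ofArrows_mem_precoverage_iff _).2 ⟨fun x => ?_, fun V => ⟨inferInstance, inferInstance⟩⟩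
    obtain ⟨W, hW, hxW, -⟩ := exists_isAffineOpen_mem_and_subset (U := (⊤ : T.left.Opens)) (x := x) trivial
    exact ⟨⟨W, hW⟩, ⟨x, hxW⟩, rfl⟩

/-- a monomorphism of algebraic spaces with fpqc local lifts is an isomorphism -/
theorem isIso_of_mono_of_fpqc_lift (hX : IsAlgSpace X) (hY : IsAlgSpace Y) (f : X ⟶ Y) [Mono f]
    (h : ∀ (T : Over S), IsAffine T.left → ∀ k : (yon S).obj T ⟶ Y,
      ∃ (m : ℕ) (W : Fin m → Over S) (c : ∀ j, W j ⟶ T),
        (∀ j, IsAffine (W j).left) ∧ (∀ j, Flat (c j).left) ∧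
        (∀ t : ↥T.left, ∃ j, t ∈ Set.range (c j).left) ∧
        ∀ j, ∃ l : (yon S).obj (W j) ⟶ X, l ≫ f = (yon S).map (c j) ≫ k) : IsIso f := by
  have key : ∀ (T : Over S), IsAffine T.left → ∀ k : (yon S).obj T ⟶ Y,
      ∃ (M : Over S) (μ : M ⟶ T), Etale μ.left ∧ Surjective μ.left ∧
        ∃ v : (yon S).obj M ⟶ X, v ≫ f = (yon S).map μ ≫ k := by
    intro T hT k
    obtain ⟨n, W, c, hW, hc, hs, hl⟩ := h T hT k
    have H := IsPullback.of_hasPullback f k
    obtain ⟨M, T', m, e, v, -, -, -, hv, hvs, hve⟩ :=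
      exists_chart (Q := ⊤) hX hY f (fun _ _ _ _ _ _ _ _ => trivial) H
    have hmap : v ≫ pullback.fst f k ≫ f = (yon S).map (m ≫ e) ≫ k := by
      rw [H.w, reassoc_of% hve]
    refine ⟨M, m ≫ e, ?_, ⟨fun t => ?_⟩, v ≫ pullback.fst f k, by rw [Category.assoc, hmap]⟩
    · let J := ULift.{u} (Fin n)
      let W' : J → Scheme.{u} := fun j => (W j.down).left
      have : ∀ j, IsAffine (W' j) := fun j => hW _
      let d : (∐ W') ⟶ T.left := Sigma.desc fun j => (c j.down).left
      have : Flat d := IsZariskiLocalAtSource.sigmaDesc fun j => hc _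
      have : QuasiCompact d := (HasAffineProperty.iff_of_isAffine (P := @QuasiCompact)).2 inferInstance
      have : Surjective d := ⟨fun t => by
        obtain ⟨j, x, hx⟩ := hs t
        refine ⟨Sigma.ι W' ⟨j⟩ x, ?_⟩
        rw [← Scheme.Hom.comp_apply, Sigma.ι_desc]; exact hx⟩
      refine MorphismProperty.of_isPullback_of_descendsAlong (Q := @Surjective ⊓ @Flat ⊓ @QuasiCompact)
        (IsPullback.of_hasPullback (m ≫ e).left d).flip ⟨⟨inferInstance, inferInstance⟩, inferInstance⟩ ?_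
      refine (IsZariskiLocalAtTarget.iff_of_openCover (sigmaOpenCover W')).2 fun j => ?_
      -- over `W j` the base change of the chart is the base change of `v`
      obtain ⟨l, hl⟩ := hl j.down
      obtain ⟨σ, hσ1, hσ2⟩ := H.exists_lift l ((yon S).map (c j.down)) hl
      obtain ⟨E, fst, snd, sqv, hsnd⟩ := exists_square hv σ
      obtain ⟨fst, rfl⟩ := (yon S).map_surjective fst
      have hsq : IsPullback ((yon S).map fst) ((yon S).map snd) ((yon S).map (m ≫ e))
          ((yon S).map (c j.down)) := by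
        rw [← hve, ← hσ2]
        have : IsPullback (𝟙 _) σ σ (𝟙 (pullback f k)) ∨ True := Or.inr trivial
        refine IsPullback.of_isLimit' ⟨by rw [reassoc_of% sqv.w]⟩ ?_
        have : Mono (pullback.snd f k) := inferInstance
        have key : ∀ s : PullbackCone (v ≫ pullback.snd f k) (σ ≫ pullback.snd f k),
            ∃ l, l ≫ (yon S).map fst = s.fst ∧ l ≫ (yon S).map snd = s.snd := fun s =>
          sqv.exists_lift s.fst s.snd ((cancel_mono (pullback.snd f k)).1 (by simpa using s.condition))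
        choose L hL1 hL2 using key
        exact PullbackCone.IsLimit.mk _ L hL1 hL2 fun s a ha1 ha2 =>
          sqv.hom_ext (ha1.trans (hL1 s).symm) (ha2.trans (hL2 s).symm)
      have hsq' : IsPullback fst.left snd.left (m ≫ e).left (c j.down).left :=
        ((IsPullback.of_map (yon S) ((yon S).map_injective (by simpa using hsq.w)) hsq)).map (Over.forget S)
      have sq2 : IsPullback (pullback.fst (pullback.snd (m ≫ e).left d) (Sigma.ι W' j) ≫ pullback.fst (m ≫ e).left d)
          (pullback.snd (pullback.snd (m ≫ e).left d) (Sigma.ι W' j)) (m ≫ e).left (c j.down).left := by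
        have := (IsPullback.of_hasPullback (pullback.snd (m ≫ e).left d) (Sigma.ι W' j)).paste_horiz
          (IsPullback.of_hasPullback (m ≫ e).left d)
        rwa [Sigma.ι_desc] at this
      have := sq2.isoIsPullback_hom_snd _ _ hsq'
      rw [show (sigmaOpenCover W').pullbackHom (pullback.snd (m ≫ e).left d) j =
        pullback.snd (pullback.snd (m ≫ e).left d) (Sigma.ι W' j) from rfl, ← this,
        MorphismProperty.cancel_left_of_respectsIso @Etale]
      exact hsnd
    · obtain ⟨j, w, rfl⟩ := hs t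
      obtain ⟨l, hl⟩ := hl j
      obtain ⟨σ, hσ1, hσ2⟩ := H.exists_lift l ((yon S).map (c j)) hl
      obtain ⟨x, hx⟩ := surjective_ofPt hvs (Points.ofPt σ w)
      refine ⟨x, (Points.schemeEquiv T).injective ?_⟩
      change Points.ofScheme T _ = Points.ofScheme T _
      rw [← ofPt_map (m ≫ e) x, ← hve, ← Points.map_ofPt, hx, Points.map_ofPt, hσ2, ofPt_map]
  have hinj : Sheaf.IsLocallyInjective f := by
    have : Mono f.hom := inferInstanceAs (Mono ((sheafToPresheaf _ _).map f))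
    refine Presheaf.isLocallyInjective_of_injective _ f.hom fun T => ?_
    exact (mono_iff_injective _).1 (inferInstanceAs (Mono (f.hom.app T)))
  have hsurj : Sheaf.IsLocallySurjective f := ⟨fun {T} s => by
    have hsec := fun V : T.left.affineOpens => (GrothendieckTopology.uliftYonedaEquiv.{u+1} (J S)).surjective
      (Y.obj.map (Over.homMk V.1.ι rfl : Over.mk (V.1.ι ≫ T.hom) ⟶ T).op s)
    refine (J S).transitive (generate_opens_mem T) _ ?_
    rintro Z _ ⟨_, g, _, ⟨V⟩, rfl⟩
    rw [Sieve.pullback_comp]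
    refine (J S).pullback_stable g ?_
    rw [Presheaf.pullback_imageSieve]
    obtain ⟨k, hk⟩ := hsec V
    obtain ⟨M, μ, hμ, hμs, v, hv⟩ := key (Over.mk (V.1.ι ≫ T.hom)) V.2 k
    have := hμ
    refine GrothendieckTopology.superset_covering _ ?_ (generate_singleton_mem μ)
    rw [Sieve.generate_le_iff]
    intro _ _ ⟨⟩
    refine ⟨(GrothendieckTopology.uliftYonedaEquiv.{u+1} (J S)) v, ?_⟩
    have h2 := GrothendieckTopology.uliftYonedaEquiv_comp.{u+1} (J S) v f
    rw [hv, ← GrothendieckTopology.uliftYonedaEquiv_naturality, hk] at h2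
    exact h2.symm⟩
  exact (Sheaf.isLocallyBijective_iff_isIso f).1 ⟨hinj, hsurj⟩

theorem fpqc_lift_of_flat_qc_surj (hX : IsAlgSpace X) (hY : IsAlgSpace Y) (f : X ⟶ Y)
    (hfl : LocP @Flat f) (hqc : IsQuasiCompactMor f) (hs : IsSurjectiveMor f)
    (T : Over S) (hT : IsAffine T.left) (k : (yon S).obj T ⟶ Y) :
    ∃ (m : ℕ) (W : Fin m → Over S) (c : ∀ j, W j ⟶ T),
      (∀ j, IsAffine (W j).left) ∧ (∀ j, Flat (c j).left) ∧
      (∀ t : ↥T.left, ∃ j, t ∈ Set.range (c j).left) ∧
      ∀ j, ∃ l : (yon S).obj (W j) ⟶ X, l ≫ f = (yon S).map (c j) ≫ k := by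
  have H := IsPullback.of_hasPullback f k
  obtain ⟨M, T', m, e, v, hm, he, -, hv, hvs, hve⟩ := exists_chart hX hY f hfl H
  have : CompactSpace ↥T.left := inferInstance
  have hP := compactSpace_points (hqc (IsAlgSpace.yon_obj _) (isQuasiCompactSp_yon T) _ _ _ H)
  obtain ⟨t, ht⟩ := isCompact_univ.elim_finite_subcover
    (fun W : M.left.affineOpens => Points.ofPt v '' (W.1 : Set ↥M.left))
    (fun W => isOpenMap_ofPt hv _ W.1.2) (by
      intro x _
      obtain ⟨u, rfl⟩ := surjective_ofPt hvs x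
      obtain ⟨W, hW, huW, -⟩ := exists_isAffineOpen_mem_and_subset (U := (⊤ : M.left.Opens)) (x := u) trivial
      exact Set.mem_iUnion.2 ⟨⟨W, hW⟩, u, huW, rfl⟩)
  let w : Fin t.card → M.left.affineOpens := fun j => (t.equivFin.symm j).1
  let ι : ∀ j, Over.mk ((w j).1.ι ≫ M.hom) ⟶ M := fun j => Over.homMk (w j).1.ι rfl
  have hflat : Flat (m ≫ e).left := MorphismProperty.comp_mem @Flat _ _ hm inferInstance
  refine ⟨t.card, _, fun j => ι j ≫ m ≫ e, fun j => (w j).2, fun j => ?_, fun x => ?_,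
    fun j => ⟨(yon S).map (ι j) ≫ v ≫ pullback.fst f k, ?_⟩⟩
  · change Flat ((w j).1.ι ≫ (m ≫ e).left)
    infer_instance
  · obtain ⟨y, hy⟩ := surjective_snd H hs (Points.ofScheme T x)
    obtain ⟨W, hW, u, hu, rfl⟩ := Set.mem_iUnion₂.1 (ht (Set.mem_univ y))
    rw [Points.map_ofPt, hve, ofPt_map] at hy
    refine ⟨t.equivFin ⟨W, hW⟩, ?_⟩
    have key : ∀ W₁ : M.left.affineOpens, W₁ = W → x ∈ Set.range (W₁.1.ι ≫ (m ≫ e).left) := by
      rintro _ rfl
      exact ⟨⟨u, hu⟩, (Points.schemeEquiv T).injective hy⟩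
    exact key _ (by simp [w])
  · simp only [Functor.map_comp, Category.assoc, H.w]
    rw [reassoc_of% hve, Functor.map_comp, Category.assoc]

theorem fpqc_lift_of_nonempty {k : Type u} [Field k] (str : Spec (CommRingCat.of k) ⟶ S) {Z : Sp S}
    (hZ : IsAlgSpace Z) (f : Z ⟶ (yon S).obj (Over.mk str)) (hne : Nonempty (Points Z))
    (T : Over S) (hT : IsAffine T.left) (κ : (yon S).obj T ⟶ (yon S).obj (Over.mk str)) :
    ∃ (m : ℕ) (W : Fin m → Over S) (c : ∀ j, W j ⟶ T),
      (∀ j, IsAffine (W j).left) ∧ (∀ j, Flat (c j).left) ∧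
      (∀ t : ↥T.left, ∃ j, t ∈ Set.range (c j).left) ∧
      ∀ j, ∃ l : (yon S).obj (W j) ⟶ Z, l ≫ f = (yon S).map (c j) ≫ κ := by
  obtain ⟨U, p, -, hp⟩ := hZ.atlas
  obtain ⟨u, -⟩ := surjective_ofPt (surjective_of_repWith hp) hne.some
  obtain ⟨V, hV, huV, -⟩ := exists_isAffineOpen_mem_and_subset (U := (⊤ : U.left.Opens)) (x := u) trivial
  let V' : Over S := Over.mk (V.ι ≫ U.hom)
  let ι : V' ⟶ U := Over.homMk V.ι rfl
  obtain ⟨g, hg⟩ := (yon S).map_surjective ((yon S).map ι ≫ p ≫ f)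
  obtain ⟨κ', rfl⟩ := (yon S).map_surjective κ
  have : IsAffine V'.left := hV
  have : IsAffine (Over.mk str).left := inferInstanceAs (IsAffine (Spec (CommRingCat.of k)))
  have : Subsingleton ↥(Over.mk str).left := inferInstanceAs (Subsingleton ↥(Spec (CommRingCat.of k)))
  have : IsIntegral (Over.mk str).left := inferInstanceAs (IsIntegral (Spec (CommRingCat.of k)))
  have : Flat g.left := inferInstance
  have : Surjective g.left := ⟨fun x => ⟨⟨u, huV⟩, Subsingleton.elim _ _⟩⟩
  let W : Over S := Over.mk (pullback.fst κ'.left g.left ≫ T.hom)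
  let c : W ⟶ T := Over.homMk (pullback.fst κ'.left g.left) rfl
  let d : W ⟶ V' := Over.homMk (pullback.snd κ'.left g.left) (by
    rw [← Over.w g, ← pullback.condition_assoc, Over.w κ']; rfl)
  have hcd : c ≫ κ' = d ≫ g := by ext; exact pullback.condition
  refine ⟨1, fun _ => W, fun _ => c, fun _ => inferInstanceAs (IsAffine (pullback κ'.left g.left)),
    fun _ => inferInstanceAs (Flat (pullback.fst κ'.left g.left)), fun t => ⟨0, ?_⟩,
    fun _ => ⟨(yon S).map d ≫ (yon S).map ι ≫ p, ?_⟩⟩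
  · have : Surjective (pullback.fst κ'.left g.left) := inferInstance
    exact (pullback.fst κ'.left g.left).surjective t
  · simp only [Category.assoc]
    rw [← hg, ← Functor.map_comp, ← Functor.map_comp, hcd]

theorem mono_fpqc {ι : Type u} {Y : Sp S} {Yi : ι → Sp S} {g : ∀ i, Yi i ⟶ Y}
    (hcov : IsFpqcCover (S := S) Yi g) {X : Sp S} (hX : IsAlgSpace X) {f : X ⟶ Y} {Xi : ι → Sp S}
    (hXi : ∀ i, IsAlgSpace (Xi i)) {p : ∀ i, Xi i ⟶ Yi i} {q : ∀ i, Xi i ⟶ X}
    (sqs : ∀ i, IsPullback (q i) (p i) f (g i)) (hp : ∀ i, Mono (p i)) : Mono f :=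
  (mono_iff_diagP hX f).2 (diagP_of_fpqc hcov sqs fun i => (mono_iff_diagP (hXi i) _).1 (hp i))

theorem iso_fpqc {ι : Type u} {Y : Sp S} (hY : IsAlgSpace Y) {Yi : ι → Sp S} {g : ∀ i, Yi i ⟶ Y}
    (hcov : IsFpqcCover (S := S) Yi g) {X : Sp S} (hX : IsAlgSpace X) {f : X ⟶ Y} {Xi : ι → Sp S}
    (hXi : ∀ i, IsAlgSpace (Xi i)) {p : ∀ i, Xi i ⟶ Yi i} {q : ∀ i, Xi i ⟶ X}
    (sqs : ∀ i, IsPullback (q i) (p i) f (g i)) (hp : ∀ i, IsIso (p i)) : IsIso f := by
  have := mono_fpqc hcov hX hXi sqs fun i => inferInstance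
  refine isIso_of_mono_of_fpqc_lift hX hY f fun T hT k => ?_
  obtain ⟨m, W, c, hW, hc, hs, hl⟩ := hcov.2 T hT k
  refine ⟨m, W, c, hW, hc, hs, fun j => ?_⟩
  obtain ⟨i, l, hl⟩ := hl j
  refine ⟨l ≫ inv (p i) ≫ q i, ?_⟩
  simp only [Category.assoc, (sqs i).w, IsIso.inv_hom_id_assoc, hl]

end AlgSpTopo
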