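import Mathlib
import Groth.Agent.AlgSpTopo.Iso
import Groth.Agent.AlgSpTopo.FlatOpen

/-! Morphisms out of a sheaf descend along locally surjective maps. -/

set_option autoImplicit false
set_option backward.isDefEq.respectTransparency false
universe u
open CategoryTheory CategoryTheory.Limits AlgebraicGeometry Opposite

namespace AlgSpTopo
open AlgSp

variable {S : Scheme.{u}} {F G H : Sp S}

/-- an etale surjective representable map is locally surjective -/
theorem isLocallySurjective_of_repWith {u : F ⟶ G} (hu : RepWith @Etale u) (hus : RepWith @Surjective u) :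
    Sheaf.IsLocallySurjective u := ⟨fun {T} s => by
  obtain ⟨k, rfl⟩ := (GrothendieckTopology.uliftYonedaEquiv.{u+1} (J S)).surjective s
  obtain ⟨V, fst, snd, sq, hs⟩ := exists_square hu k
  have : Etale snd.left := hs
  have : Surjective snd.left := hus.property _ _ _ sq
  refine GrothendieckTopology.superset_covering _ ?_ (generate_singleton_mem snd)
  rw [Sieve.generate_le_iff]
  intro _ _ ⟨⟩
  refine ⟨(GrothendieckTopology.uliftYonedaEquiv.{u+1} (J S)) fst, ?_⟩
  have h2 := GrothendieckTopology.uliftYonedaEquiv_comp.{u+1} (J S) fst u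
  rw [sq.w, ← GrothendieckTopology.uliftYonedaEquiv_naturality] at h2
  exact h2.symm⟩

/-- descend a morphism along a locally surjective map, using its kernel pair -/
theorem exists_desc {u : F ⟶ G} [Sheaf.IsLocallySurjective u] (k : F ⟶ H) {R : Sp S} {r₁ r₂ : R ⟶ F}
    (sq : IsPullback r₁ r₂ u u) (hk : r₁ ≫ k = r₂ ≫ k) : ∃ φ : G ⟶ H, u ≫ φ = k := by
  have hH := (isSheaf_iff_isSheaf_of_type _ _).1 H.property
  have hk' : ∀ (T : Over S) (x y : F.obj.obj (op T)), u.hom.app _ x = u.hom.app _ y →
      k.hom.app _ x = k.hom.app _ y := by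
    intro T x y h
    obtain ⟨w, h1, h2⟩ := exists_section sq T x y h
    rw [← h1, ← h2]
    exact congrArg (fun q : R ⟶ H => q.hom.app _ w) hk
  have key : ∀ (T : Over S) (s : G.obj.obj (op T)), ∃! t : H.obj.obj (op T),
      ∀ ⦃V : Over S⦄ (g : V ⟶ T) (x : F.obj.obj (op V)), u.hom.app _ x = G.obj.map g.op s →
        k.hom.app _ x = H.obj.map g.op t := by
    intro T s
    let R' := Presheaf.imageSieve u.hom s
    have hR' : R' ∈ J S T := Presheaf.imageSieve_mem (J S) u.hom s
    let fam : Presieve.FamilyOfElements H.obj R'.arrows := fun V g hg =>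
      k.hom.app _ (Presheaf.localPreimage u.hom s g hg)
    have hcomp : fam.Compatible := by
      intro V₁ V₂ W g₁ g₂ f₁ f₂ h₁ h₂ e
      simp only [fam, ← NatTrans.naturality_apply]
      refine hk' W _ _ ?_
      rw [NatTrans.naturality_apply, NatTrans.naturality_apply, Presheaf.app_localPreimage,
        Presheaf.app_localPreimage, ← ConcreteCategory.comp_apply, ← ConcreteCategory.comp_apply,
        ← Functor.map_comp, ← Functor.map_comp, ← op_comp, ← op_comp, e]
    refine ⟨(hH R' hR').amalgamate fam hcomp, fun V g x hx => ?_, fun t ht => ?_⟩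
    · have hg : R' g := ⟨x, hx⟩
      rw [(hH R' hR').valid_glue hcomp g hg]
      exact hk' V _ _ (hx.trans (Presheaf.app_localPreimage u.hom s g hg).symm)
    · refine (hH R' hR').isSeparatedFor.ext fun V g hg => ?_
      rw [(hH R' hR').valid_glue hcomp g hg]
      exact (ht g _ (Presheaf.app_localPreimage u.hom s g hg)).symm
  choose t ht huniq using key
  refine ⟨⟨{ app := fun T => TypeCat.ofHom fun s => t T.unop s, naturality := ?_ }⟩, ?_⟩
  · intro T T' g
    ext s
    change t T'.unop (G.obj.map g s) = H.obj.map g (t T.unop s)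
    refine (huniq _ _ _ fun V h x hx => ?_).symm
    rw [← ConcreteCategory.comp_apply, ← Functor.map_comp] at hx ⊢
    exact ht T.unop s (h ≫ g.unop) x hx
  · ext T x
    change t T.unop (u.hom.app T x) = k.hom.app T x
    have := ht T.unop (u.hom.app T x) (𝟙 T.unop) x (by simp)
    simpa using this.symm

end AlgSpTopo
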