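import Mathlib

/-! Descent of properties of `A → B` from `A → C` along a faithfully flat etale `B → C`. -/

set_option autoImplicit false
universe u
open TensorProduct

namespace AlgSpTopo.SourceRing

variable {A B C : Type u} [CommRing A] [CommRing B] [CommRing C] [Algebra A B] [Algebra B C]
  [Algebra A C] [IsScalarTower A B C]

theorem exists_amalgamation {L Ω₁ Ω₂ : Type u} [Field L] [Field Ω₁] [Field Ω₂] (φ₁ : L →+* Ω₁)
    (φ₂ : L →+* Ω₂) :
    ∃ (Ω : Type u) (_ : Field Ω) (i₁ : Ω₁ →+* Ω) (i₂ : Ω₂ →+* Ω), i₁.comp φ₁ = i₂.comp φ₂ := by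
  let _ := φ₁.toAlgebra
  let _ := φ₂.toAlgebra
  have : Nontrivial (Ω₁ ⊗[L] Ω₂) :=
    Algebra.TensorProduct.nontrivial_of_algebraMap_injective_of_isDomain L Ω₁ Ω₂
      (algebraMap L Ω₁).injective (algebraMap L Ω₂).injective
  obtain ⟨m, hm⟩ := Ideal.exists_maximal (Ω₁ ⊗[L] Ω₂)
  refine ⟨(Ω₁ ⊗[L] Ω₂) ⧸ m, Ideal.Quotient.field m,
    (Ideal.Quotient.mk m).comp Algebra.TensorProduct.includeLeftRingHom,
    (Ideal.Quotient.mk m).comp
      (Algebra.TensorProduct.includeRight (R := L) (A := Ω₁) (B := Ω₂)).toRingHom, ?_⟩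
  ext x
  change Ideal.Quotient.mk m (algebraMap L Ω₁ x ⊗ₜ[L] (1 : Ω₂)) =
    Ideal.Quotient.mk m ((1 : Ω₁) ⊗ₜ[L] algebraMap L Ω₂ x)
  rw [Algebra.TensorProduct.tmul_one_eq_one_tmul]

/-- the image of a base change of a map of spectra is the preimage of the image -/
theorem mem_range_comap_baseChange {P P' Q : Type u} [CommRing P] [CommRing P'] [CommRing Q]
    [Algebra P P'] [Algebra P Q] (q : PrimeSpectrum P')
    (h : PrimeSpectrum.comap (algebraMap P P') q ∈ Set.range (PrimeSpectrum.comap (algebraMap P Q))) :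
    q ∈ Set.range (PrimeSpectrum.comap (algebraMap P' (P' ⊗[P] Q))) := by
  obtain ⟨r, hr⟩ := h
  set p := PrimeSpectrum.comap (algebraMap P Q) r
  have hp : p.asIdeal = q.asIdeal.comap (algebraMap P P') := congrArg PrimeSpectrum.asIdeal hr
  obtain ⟨Ω, _, i₁, i₂, hi⟩ := exists_amalgamation
    (Ideal.ResidueField.map p.asIdeal q.asIdeal (algebraMap P P') hp)
    (Ideal.ResidueField.map p.asIdeal r.asIdeal (algebraMap P Q) rfl)
  let f₁ : P' →+* Ω := i₁.comp (algebraMap P' q.asIdeal.ResidueField)
  let f₂ : Q →+* Ω := i₂.comp (algebraMap Q r.asIdeal.ResidueField)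
  let _ : Algebra P Ω := (f₁.comp (algebraMap P P')).toAlgebra
  have hf : f₂.comp (algebraMap P Q) = f₁.comp (algebraMap P P') := by
    ext x
    have := congrArg (fun F : p.asIdeal.ResidueField →+* Ω => F (algebraMap P p.asIdeal.ResidueField x)) hi
    simp [Ideal.ResidueField.map_algebraMap] at this
    simp only [f₁, f₂, RingHom.comp_apply]
    exact this.symm
  let g : P' ⊗[P] Q →ₐ[P] Ω := Algebra.TensorProduct.lift { f₁ with commutes' := fun _ => rfl }
    { f₂ with commutes' := fun x => congrArg (fun F : P →+* Ω => F x) hf } fun _ _ => .all _ _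
  refine ⟨⟨RingHom.ker g.toRingHom, RingHom.ker_isPrime _⟩, PrimeSpectrum.ext ?_⟩
  ext x
  simp only [PrimeSpectrum.comap_asIdeal, Ideal.mem_comap, RingHom.mem_ker]
  change g (x ⊗ₜ 1) = 0 ↔ x ∈ q.asIdeal
  rw [Algebra.TensorProduct.lift_tmul, map_one, mul_one]
  change i₁ (algebraMap P' q.asIdeal.ResidueField x) = 0 ↔ _
  rw [map_eq_zero, Ideal.algebraMap_residueField_eq_zero]

/-- the kernel of the base change of a surjection -/
theorem ker_includeRight {P Q R : Type u} [CommRing P] [CommRing Q] [CommRing R] [Algebra P Q] [Algebra P R]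
    (hs : Function.Surjective (algebraMap P R)) :
    RingHom.ker (Algebra.TensorProduct.includeRight (R := P) (A := R) (B := Q)).toRingHom =
      (RingHom.ker (algebraMap P R)).map (algebraMap P Q) := by
  refine le_antisymm (fun x hx => ?_) (Ideal.map_le_iff_le_comap.2 fun x hx => ?_)
  · have hx' : (1 : R) ⊗ₜ[P] x = 0 := hx
    have hk := Algebra.TensorProduct.rTensor_ker (R := P) (A := P) (B := R) (C := Q) (f := Algebra.ofId P R) hs
    have hmem : (1 : P) ⊗ₜ[P] x ∈ RingHom.ker (Algebra.TensorProduct.map (Algebra.ofId P R) (AlgHom.id P Q)) := by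
      rw [RingHom.mem_ker, Algebra.TensorProduct.map_tmul]
      simpa using hx'
    rw [hk] at hmem
    have h2 := Ideal.mem_map_of_mem (Algebra.TensorProduct.lid P Q).toRingHom hmem
    have h3 : ((Algebra.TensorProduct.lid P Q).toRingHom.comp
        (Algebra.TensorProduct.includeLeft : P →ₐ[P] P ⊗[P] Q).toRingHom) = algebraMap P Q := by
      ext y
      change (Algebra.TensorProduct.lid P Q) (y ⊗ₜ[P] (1 : Q)) = _
      simp [Algebra.algebraMap_eq_smul_one]
    have h4 : Ideal.map (Algebra.TensorProduct.lid P Q).toRingEquiv.toRingHom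
        (Ideal.map (Algebra.TensorProduct.includeLeft (R := P) (S := P) (A := P) (B := Q)) (RingHom.ker (Algebra.ofId P R))) =
        Ideal.map (algebraMap P Q) (RingHom.ker (algebraMap P R)) := by
      rw [← h3]
      exact Ideal.map_map _ _
    have h5 := h4 ▸ h2
    simpa using h5
  · change (1 : R) ⊗ₜ[P] algebraMap P Q x = 0
    have : algebraMap P R x = 0 := hx
    rw [← Algebra.TensorProduct.tmul_one_eq_one_tmul, this, TensorProduct.zero_tmul]

theorem bijective_liftBaseChange {P Q : Type u} [CommRing P] [CommRing Q] [Algebra P Q] [Module.Flat P Q]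
    (I : Ideal P) (J : Ideal Q) (hJ : J = I.map (algebraMap P Q)) (l : I →ₗ[P] J)
    (hl : ∀ x, (l x : Q) = algebraMap P Q x) : Function.Bijective (l.liftBaseChange Q) := by
  have key : (J.subtype.restrictScalars P).comp ((l.liftBaseChange Q).restrictScalars P) =
      (TensorProduct.rid P Q).toLinearMap.comp ((I.subtype).lTensor Q) := by
    ext q x
    simp [LinearMap.liftBaseChange_tmul, hl, Algebra.smul_def, mul_comm]
  constructor
  · have h1 : Function.Injective ((TensorProduct.rid P Q).toLinearMap.comp ((I.subtype).lTensor Q)) :=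
      (TensorProduct.rid P Q).injective.comp
        (Module.Flat.lTensor_preserves_injective_linearMap _ Subtype.val_injective)
    rw [← key, LinearMap.coe_comp] at h1
    exact h1.of_comp
  · rintro ⟨y, hy⟩
    suffices h : y ∈ Submodule.map J.subtype (LinearMap.range (l.liftBaseChange Q)) by
      obtain ⟨z, ⟨w, hw⟩, hz⟩ := h
      exact ⟨w, hw.trans (Subtype.ext hz)⟩
    subst hJ
    refine Submodule.span_le.2 ?_ hy
    rintro _ ⟨i, hi, rfl⟩
    exact ⟨l ⟨i, hi⟩, ⟨1 ⊗ₜ ⟨i, hi⟩, by simp [LinearMap.liftBaseChange_tmul]⟩, hl _⟩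

/-- a lift of a standard etale algebra -/
theorem exists_lift [Algebra.IsStandardEtale B C] :
    ∃ (P : Type u) (_ : CommRing P) (_ : Algebra A P) (_ : Algebra P B) (_ : IsScalarTower A P B)
      (Q : Type u) (_ : CommRing Q) (_ : Algebra P Q),
      Algebra.FinitePresentation A P ∧ Algebra.FormallySmooth A P ∧ Algebra.Etale P Q ∧
      Nonempty (C ≃ₐ[B] B ⊗[P] Q) := by
  classical
  obtain ⟨π⟩ := (‹Algebra.IsStandardEtale B C› : Algebra.IsStandardEtale B C).nonempty_standardEtalePresentation
  obtain ⟨p₁, p₂, n, hc⟩ := π.cond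
  let s : Finset B := π.f.coeffs ∪ π.g.coeffs ∪ p₁.coeffs ∪ p₂.coeffs
  let P := MvPolynomial s A
  let φ : P →ₐ[A] B := MvPolynomial.aeval (fun b : s => (b : B))
  let _ : Algebra P B := φ.toRingHom.toAlgebra
  have : IsScalarTower A P B := IsScalarTower.of_algebraMap_eq fun a => (φ.commutes a).symm
  have hl : ∀ q : Polynomial B, q.coeffs ⊆ s → q ∈ Polynomial.lifts (algebraMap P B) := by
    intro q hq
    rw [Polynomial.lifts_iff_coeff_lifts]
    intro k
    by_cases hk : q.coeff k = 0
    · exact ⟨0, by rw [hk, map_zero]⟩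
    · exact ⟨MvPolynomial.X ⟨q.coeff k, hq (Polynomial.coeff_mem_coeffs hk)⟩, MvPolynomial.aeval_X _ _⟩
  obtain ⟨f', hf', hfm⟩ : ∃ f' : Polynomial P, f'.map (algebraMap P B) = π.f ∧ f'.Monic := by
    rcases subsingleton_or_nontrivial B with h | h
    · exact ⟨1, Subsingleton.elim _ _, Polynomial.monic_one⟩
    · obtain ⟨f', h1, -, h2⟩ := Polynomial.lifts_and_degree_eq_and_monic
        (hl π.f (fun x hx => by simp [s, hx])) π.monic_f
      exact ⟨f', h1, h2⟩
  obtain ⟨g', hg'⟩ := (Polynomial.mem_lifts _).1 (hl π.g (fun x hx => by simp [s, hx]))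
  obtain ⟨q₁, hq₁⟩ := (Polynomial.mem_lifts _).1 (hl p₁ (fun x hx => by simp [s, hx]))
  obtain ⟨q₂, hq₂⟩ := (Polynomial.mem_lifts _).1 (hl p₂ (fun x hx => by simp [s, hx]))
  let π₀ : StandardEtalePair P :=
    { f := f', monic_f := hfm, g := g' * (Polynomial.derivative f' * q₁ + f' * q₂),
      cond := ⟨g' * q₁, g' * q₂, 1, by ring⟩ }
  let π' : StandardEtalePair B :=
    ⟨π.f, π.monic_f, π.g * π.g ^ n, ⟨π.g * p₁, π.g * p₂, 1, by rw [pow_one, ← hc]; ring⟩⟩
  have hmap : π₀.map (algebraMap P B) = π' := by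
    rw [StandardEtalePair.mk.injEq]
    refine ⟨hf', ?_⟩
    simp only [StandardEtalePair.map_g, π₀, π', Polynomial.map_mul, Polynomial.map_add,
      ← Polynomial.derivative_map, hf', hg', hq₁, hq₂, hc]
  have hpow : ∀ {T : Type u} [CommRing T] [Algebra B T] (x : T),
      π'.HasMap x ↔ π.P.HasMap x := by
    intro T _ _ x
    simp only [StandardEtalePair.HasMap, π', map_mul, map_pow]
    refine and_congr_right fun _ => ⟨fun h => isUnit_of_mul_isUnit_left h, fun h => h.mul (h.pow n)⟩
  let e₁ : π.P.Ring ≃ₐ[B] π'.Ring :=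
    AlgEquiv.ofAlgHom (π.P.lift π'.X ((hpow _).1 π'.hasMap_X))
      (π'.lift π.P.X ((hpow _).2 π.P.hasMap_X))
      (π'.hom_ext (by simp)) (π.P.hom_ext (by simp))
  obtain ⟨π₁⟩ := (inferInstance : Algebra.IsStandardEtale P π₀.Ring).nonempty_standardEtalePresentation
  refine ⟨P, inferInstance, inferInstance, inferInstance, inferInstance, π₀.Ring, inferInstance,
    inferInstance, inferInstance, inferInstance, inferInstance, ⟨?_⟩⟩
  let ρ : StandardEtalePresentation P π₀.Ring :=
    ⟨π₀, π₀.X, π₀.hasMap_X, by simpa [StandardEtalePair.lift_X_left] using Function.bijective_id⟩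
  let σ := ρ.baseChange (T := B)
  have hσ : σ.P = π' := hmap
  exact (π.equivRing.trans e₁).trans ((hσ ▸ σ.equivRing).symm)

/-- enlarge a lift so that the base is surjective and the etale algebra faithfully flat -/
theorem exists_model [Algebra.IsStandardEtale B C]
    (hsurj : Function.Surjective (PrimeSpectrum.comap (algebraMap B C))) [Algebra.FiniteType A C] :
    ∃ (P : Type u) (_ : CommRing P) (_ : Algebra A P) (_ : Algebra P B) (_ : IsScalarTower A P B)
      (Q : Type u) (_ : CommRing Q) (_ : Algebra P Q),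
      Algebra.FinitePresentation A P ∧ Algebra.FormallySmooth A P ∧ Algebra.Etale P Q ∧
      Module.FaithfullyFlat P Q ∧ Function.Surjective (algebraMap P B) ∧
      Nonempty (C ≃ₐ[B] B ⊗[P] Q) := by
  classical
  obtain ⟨P, _, _, _, _, Q, _, _, hP, hPs, hQ, ⟨e⟩⟩ := exists_lift (A := A) (B := B) (C := C)
  let U : Set (PrimeSpectrum P) := Set.range (PrimeSpectrum.comap (algebraMap P Q))
  have hUo : IsOpen U := by
    simp only [U, ← Set.image_univ]
    exact PrimeSpectrum.isOpenMap_comap_of_hasGoingDown_of_finitePresentation _ isOpen_univ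
  have hUc : IsCompact U := isCompact_range (PrimeSpectrum.continuous_comap _)
  obtain ⟨t, ht⟩ : ∃ t : Finset P, U = ⋃ a ∈ t, (PrimeSpectrum.basicOpen a : Set (PrimeSpectrum P)) := by
    obtain ⟨t, ht⟩ := hUc.elim_finite_subcover
      (fun a : {a : P // (PrimeSpectrum.basicOpen a : Set (PrimeSpectrum P)) ⊆ U} =>
        (PrimeSpectrum.basicOpen a.1 : Set (PrimeSpectrum P)))
      (fun a => PrimeSpectrum.isOpen_basicOpen) (fun x hx => by
        obtain ⟨_, ⟨a, rfl⟩, hxa, haU⟩ :=
          PrimeSpectrum.isTopologicalBasis_basic_opens.exists_subset_of_mem_open hx hUo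
        exact Set.mem_iUnion.2 ⟨⟨a, haU⟩, hxa⟩)
    refine ⟨t.image Subtype.val, Set.Subset.antisymm (ht.trans ?_) ?_⟩
    · simp only [Finset.set_biUnion_finset_image]; exact subset_rfl
    · simp only [Finset.set_biUnion_finset_image, Set.iUnion_subset_iff]
      exact fun a _ => a.2
  -- the unit ideal
  have hone : Ideal.span ((algebraMap P B) '' (t : Set P)) = ⊤ := by
    by_contra hne
    obtain ⟨m, hm, hle⟩ := Ideal.exists_le_maximal _ hne
    obtain ⟨r, hr⟩ := hsurj ⟨m, hm.isPrime⟩
    let ψ : Q →+* C := e.symm.toAlgHom.toRingHom.comp (Algebra.TensorProduct.includeRight (R := P) (A := B)).toRingHom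
    have hψ : ψ.comp (algebraMap P Q) = (algebraMap B C).comp (algebraMap P B) := by
      ext x
      change e.symm (1 ⊗ₜ algebraMap P Q x) = _
      rw [← Algebra.TensorProduct.tmul_one_eq_one_tmul, RingHom.comp_apply, ← e.symm.commutes]
      rfl
    have : PrimeSpectrum.comap (algebraMap P B) ⟨m, hm.isPrime⟩ ∈ U := by
      refine ⟨PrimeSpectrum.comap ψ r, ?_⟩
      rw [← hr, ← PrimeSpectrum.comap_comp_apply, hψ, PrimeSpectrum.comap_comp_apply]
    rw [ht] at this
    obtain ⟨a, ha, hx⟩ := Set.mem_iUnion₂.1 this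
    exact hx (hle (Ideal.subset_span ⟨a, ha, rfl⟩))
  obtain ⟨b, hb⟩ : ∃ b : P → B, ∑ a ∈ t, b a * algebraMap P B a = 1 := by
    obtain ⟨c, hc⟩ := Submodule.mem_span_finset.1
      (show (1 : B) ∈ Submodule.span B ((t.image (algebraMap P B) : Finset B) : Set B) by
        rw [Finset.coe_image]; change (1 : B) ∈ Ideal.span _; rw [hone]; trivial)
    have : ∀ y ∈ t.image (algebraMap P B), ∃ a ∈ t, algebraMap P B a = y := fun y hy => by simpa using hy
    choose! a ha hay using this
    refine ⟨fun x => if x = a (algebraMap P B x) then c (algebraMap P B x) else 0, ?_⟩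
    rw [← hc.2]
    simp only [smul_eq_mul, ite_mul, zero_mul]
    rw [← Finset.sum_filter]
    refine Finset.sum_nbij' (algebraMap P B) a ?_ ?_ ?_ ?_ ?_
    · intro x hx; exact Finset.mem_image_of_mem _ (Finset.mem_filter.1 hx).1
    · intro y hy; exact Finset.mem_filter.2 ⟨ha y hy, by rw [hay y hy]⟩
    · intro x hx; exact (Finset.mem_filter.1 hx).2.symm
    · intro y hy; exact hay y hy
    · intro x hx; rfl
  -- generators of C
  obtain ⟨gen, hgen⟩ := (Algebra.FiniteType.out : (⊤ : Subalgebra A C).FG)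
  choose k m q hq using fun c : C => TensorProduct.exists_sum_tmul_eq (e c)
  let σ := (↥t) ⊕ (Σ c : ↥gen, Fin (k c))
  let v : σ → B := Sum.elim (fun a => b a) (fun j => m j.1 j.2)
  let d : MvPolynomial σ P := ∑ a : ↥t, MvPolynomial.X (Sum.inl a) * MvPolynomial.C (a : P)
  let P' := Localization.Away d
  let φ : MvPolynomial σ P →ₐ[P] B := MvPolynomial.aeval v
  have hd : φ d = 1 := by
    simp only [d, map_sum, map_mul, φ, MvPolynomial.aeval_X, MvPolynomial.aeval_C, v, Sum.elim_inl]
    rw [Finset.univ_eq_attach, Finset.sum_attach t (fun a => b a * algebraMap P B a)]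
    exact hb
  let φ' : P' →ₐ[P] B := IsLocalization.liftAlgHom (M := Submonoid.powers d) (f := φ) (by
    rintro ⟨_, n, rfl⟩
    simp [hd])
  let _ : Algebra P' B := φ'.toRingHom.toAlgebra
  have : IsScalarTower P P' B := IsScalarTower.of_algebraMap_eq fun x => (φ'.commutes x).symm
  have : IsScalarTower A P' B := IsScalarTower.of_algebraMap_eq fun x => by
    rw [IsScalarTower.algebraMap_apply A P B, IsScalarTower.algebraMap_apply A P P',
      ← IsScalarTower.algebraMap_apply P P' B]
  have : Algebra.FinitePresentation A (MvPolynomial σ P) := .trans A P _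
  have : Algebra.FinitePresentation (MvPolynomial σ P) P' := IsLocalization.Away.finitePresentation d
  have i1 : Algebra.FinitePresentation A P' := .trans A (MvPolynomial σ P) _
  have : Algebra.FormallySmooth (MvPolynomial σ P) P' :=
    Algebra.FormallySmooth.of_isLocalization (Submonoid.powers d)
  have : Algebra.FormallySmooth A (MvPolynomial σ P) := .comp A P _
  have i2 : Algebra.FormallySmooth A P' := .comp A (MvPolynomial σ P) _
  let e' : C ≃ₐ[B] B ⊗[P'] (P' ⊗[P] Q) :=
    e.trans (Algebra.TensorProduct.cancelBaseChange P P' B B Q).symm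
  have hsp : Function.Surjective (PrimeSpectrum.comap (algebraMap P' (P' ⊗[P] Q))) := by
    intro x
    refine mem_range_comap_baseChange x ?_
    change _ ∈ U
    rw [ht]
    by_contra hne
    simp only [Set.mem_iUnion, SetLike.mem_coe, PrimeSpectrum.mem_basicOpen, not_exists, not_not] at hne
    have hu : IsUnit (algebraMap (MvPolynomial σ P) P' d) := IsLocalization.Away.algebraMap_isUnit d
    refine x.isPrime.ne_top (Ideal.eq_top_of_isUnit_mem _ ?_ hu)
    simp only [d, map_sum, map_mul]
    refine Ideal.sum_mem _ fun a _ => Ideal.mul_mem_left _ _ ?_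
    rw [← MvPolynomial.algebraMap_eq, ← IsScalarTower.algebraMap_apply]
    exact hne a a.2
  have hff : Module.FaithfullyFlat P' (P' ⊗[P] Q) := .of_comap_surjective hsp
  -- surjectivity
  let ψ : (P' ⊗[P] Q) →ₐ[P'] B ⊗[P'] (P' ⊗[P] Q) := Algebra.TensorProduct.includeRight
  have hψ : Function.Surjective ψ := by
    have key : ∀ c : C, c ∈ gen → e' c ∈ Set.range ψ := by
      intro c hc
      refine ⟨∑ i, algebraMap (MvPolynomial σ P) P' (MvPolynomial.X (Sum.inr ⟨⟨c, hc⟩, i⟩)) ⊗ₜ q c i, ?_⟩
      simp only [e', AlgEquiv.trans_apply, hq c, map_sum]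
      refine Finset.sum_congr rfl fun i _ => ?_
      change (1 : B) ⊗ₜ[P'] _ = _
      rw [Algebra.TensorProduct.cancelBaseChange_symm_tmul]
      rw [show (algebraMap (MvPolynomial σ P) P' (MvPolynomial.X (Sum.inr ⟨⟨c, hc⟩, i⟩)) ⊗ₜ[P] q c i)
          = algebraMap (MvPolynomial σ P) P' (MvPolynomial.X (Sum.inr ⟨⟨c, hc⟩, i⟩)) • ((1 : P') ⊗ₜ[P] q c i) by
        rw [TensorProduct.smul_tmul', smul_eq_mul, mul_one]]
      rw [← TensorProduct.smul_tmul, Algebra.smul_def, mul_one]
      congr 1
      change φ' _ = _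
      simp [φ', φ, v]
    let S : Subalgebra A C :=
      { carrier := {c | e' c ∈ Set.range ψ}
        mul_mem' := fun {x y} ⟨a, ha⟩ ⟨c, hc⟩ => ⟨a * c, by rw [map_mul, map_mul, ha, hc]⟩
        add_mem' := fun {x y} ⟨a, ha⟩ ⟨c, hc⟩ => ⟨a + c, by rw [map_add, map_add, ha, hc]⟩
        algebraMap_mem' := fun a => ⟨algebraMap P' (P' ⊗[P] Q) (algebraMap A P' a), by
          rw [ψ.commutes, IsScalarTower.algebraMap_apply A B C, e'.commutes,
            IsScalarTower.algebraMap_apply A P' B, ← IsScalarTower.algebraMap_apply P' B]⟩ }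
    have hS : S = ⊤ := top_unique (hgen ▸ Algebra.adjoin_le fun c hc => key c hc)
    intro z
    have : e'.symm z ∈ S := hS ▸ trivial
    obtain ⟨w, hw⟩ := this
    exact ⟨w, by rw [hw, AlgEquiv.apply_symm_apply]⟩
  have hφ : Function.Surjective (algebraMap P' B) := by
    have h1 : Function.Surjective ((Algebra.linearMap P' B).lTensor (P' ⊗[P] Q)) := by
      intro z
      obtain ⟨w, hw⟩ := hψ (TensorProduct.comm P' _ _ z)
      refine ⟨w ⊗ₜ 1, (TensorProduct.comm P' _ _).injective ?_⟩
      simpa [ψ] using hw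
    exact (Module.FaithfullyFlat.lTensor_surjective_iff_surjective _ _ _).1 h1
  exact ⟨P', inferInstance, inferInstance, inferInstance, inferInstance, P' ⊗[P] Q, inferInstance,
    inferInstance, i1, i2, inferInstance, hff, hφ, ⟨e'⟩⟩

attribute [local instance] Algebra.TensorProduct.rightAlgebra in
/-- finite presentation descends along faithfully flat standard etale maps on the source -/
theorem finitePresentation [Algebra.IsStandardEtale B C]
    (hsurj : Function.Surjective (PrimeSpectrum.comap (algebraMap B C))) [Algebra.FinitePresentation A C] :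
    Algebra.FinitePresentation A B := by
  obtain ⟨P, _, _, _, _, Q, _, _, hP, -, hQ, hff, hs, ⟨e⟩⟩ := exists_model (A := A) hsurj
  let φ : P →ₐ[A] B := IsScalarTower.toAlgHom A P B
  refine Algebra.FinitePresentation.of_surjective (f := φ) hs
    (Ideal.FG.of_FG_map_of_faithfullyFlat (S := Q) ?_)
  let _ : Algebra A Q := ((algebraMap P Q).comp (algebraMap A P)).toAlgebra
  have : IsScalarTower A P Q := IsScalarTower.of_algebraMap_eq' rfl
  have : Algebra.FinitePresentation A Q := .trans A P Q
  let ψ : Q →ₐ[A] C := (e.symm.toAlgHom.restrictScalars A).comp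
    ((Algebra.TensorProduct.includeRight (R := P) (A := B) (B := Q)).restrictScalars A)
  have hψ : Function.Surjective ψ := by
    have h1 : Function.Surjective (Algebra.TensorProduct.includeRight (R := P) (A := B) (B := Q)) := by
      intro z
      induction z with
      | zero => exact ⟨0, map_zero _⟩
      | add x y hx hy => obtain ⟨a, rfl⟩ := hx; obtain ⟨b, rfl⟩ := hy; exact ⟨a + b, map_add _ _ _⟩
      | tmul b q =>
        obtain ⟨p, rfl⟩ := hs b
        exact ⟨p • q, by simp [Algebra.algebraMap_eq_smul_one, TensorProduct.smul_tmul]⟩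
    exact e.symm.surjective.comp h1
  have hk : RingHom.ker ψ.toRingHom =
      (RingHom.ker φ.toRingHom).map (algebraMap P Q) := by
    refine Eq.trans ?_ (ker_includeRight (P := P) (Q := Q) (R := B) hs :)
    ext x
    change e.symm _ = 0 ↔ _
    rw [map_eq_zero_iff _ e.symm.injective]
    rfl
  exact hk ▸ Algebra.FinitePresentation.ker_fG_of_surjective ψ hψ

theorem finiteType [Algebra.IsStandardEtale B C]
    (hsurj : Function.Surjective (PrimeSpectrum.comap (algebraMap B C))) [Algebra.FiniteType A C] :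
    Algebra.FiniteType A B := by
  obtain ⟨P, _, _, _, _, Q, _, _, hP, -, -, -, hs, -⟩ := exists_model (A := A) hsurj
  exact Algebra.FiniteType.of_surjective (IsScalarTower.toAlgHom A P B) hs

set_option backward.isDefEq.respectTransparency false in
theorem formallySmooth [Algebra.IsStandardEtale B C]
    (hsurj : Function.Surjective (PrimeSpectrum.comap (algebraMap B C))) [Algebra.Smooth A C] :
    Algebra.Smooth A B := by
  have hfp : Algebra.FinitePresentation A B := finitePresentation hsurj
  have hffC : Module.FaithfullyFlat B C := .of_comap_surjective hsurj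
  obtain ⟨P, _, _, _, _, Q, _, _, hP, hPs, hQ, hff, hs, ⟨e⟩⟩ := exists_model (A := A) hsurj
  let _ : Algebra A Q := ((algebraMap P Q).comp (algebraMap A P)).toAlgebra
  have : IsScalarTower A P Q := IsScalarTower.of_algebraMap_eq' rfl
  let ψ : Q →ₐ[A] C := (e.symm.toAlgHom.restrictScalars A).comp
    ((Algebra.TensorProduct.includeRight (R := P) (A := B) (B := Q)).restrictScalars A)
  have h1 : Function.Surjective (Algebra.TensorProduct.includeRight (R := P) (A := B) (B := Q)) := by
    intro z
    induction z with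
    | zero => exact ⟨0, map_zero _⟩
    | add x y hx hy => obtain ⟨a, rfl⟩ := hx; obtain ⟨b, rfl⟩ := hy; exact ⟨a + b, map_add _ _ _⟩
    | tmul b q =>
      obtain ⟨p, rfl⟩ := hs b
      exact ⟨p • q, by simp [Algebra.algebraMap_eq_smul_one, TensorProduct.smul_tmul]⟩
  let EP : Algebra.Extension A B := .ofSurjective (IsScalarTower.toAlgHom A P B) hs
  let EQ : Algebra.Extension A C := .ofSurjective ψ (e.symm.surjective.comp h1)
  let f : EP.Hom EQ :=
    { toRingHom := algebraMap P Q
      toRingHom_algebraMap := fun x => (IsScalarTower.algebraMap_apply A P Q x).symm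
      algebraMap_toRingHom := fun x => by
        change e.symm ((1 : B) ⊗ₜ[P] algebraMap P Q x) = algebraMap B C (algebraMap P B x)
        rw [← (Algebra.TensorProduct.tmul_one_eq_one_tmul (R := P) (A := B) (B := Q) (x : P)),
          ← e.symm.commutes]
        rfl }
  let _ : Algebra EP.Ring EQ.Ring := (inferInstance : Algebra P Q)
  have : Algebra.FormallyEtale P Q := inferInstance
  have : Algebra.FormallySmooth A EP.Ring := hPs
  have : Algebra.FormallySmooth A EQ.Ring := Algebra.FormallySmooth.comp A P Q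
  have hflat : Module.Flat B C := inferInstance
  have hfe : f.toRingHom.FormallyEtale := RingHom.formallyEtale_algebraMap.mpr ‹Algebra.FormallyEtale P Q›
  have H₂ : Function.Bijective ((f.mapKer rfl).liftBaseChange EQ.Ring) := by
    have : Module.Flat EP.Ring EQ.Ring := (inferInstance : Module.Flat P Q)
    refine bijective_liftBaseChange _ _ ?_ _ fun _ => rfl
    refine Eq.trans ?_ (ker_includeRight (P := P) (Q := Q) (R := B) hs :)
    ext x
    change e.symm _ = 0 ↔ _
    rw [map_eq_zero_iff _ e.symm.injective, RingHom.mem_ker]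
    rfl
  have eH := Algebra.Extension.tensorH1CotangentOfFormallyEtale f rfl hfe H₂
  refine ⟨?_, hfp⟩
  rw [Algebra.formallySmooth_iff]
  constructor
  · have : Algebra.FormallyEtale B C := inferInstance
    have eΩ := KaehlerDifferential.tensorKaehlerEquivOfFormallyEtale A B C
    have : Module.Flat C (C ⊗[B] Ω[B⁄A]) := .of_linearEquiv eΩ
    have : Module.Flat B Ω[B⁄A] := Module.Flat.of_flat_tensorProduct _ _ C
    exact Module.Flat.projective_of_finitePresentation
  · have : Subsingleton (Algebra.H1Cotangent A C) := inferInstance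
    have : Subsingleton EQ.H1Cotangent := EQ.equivH1CotangentOfFormallySmooth.subsingleton
    have : Subsingleton (C ⊗[B] EP.H1Cotangent) := eH.subsingleton
    have := Module.FaithfullyFlat.lTensor_reflects_triviality B C EP.H1Cotangent
    exact EP.equivH1CotangentOfFormallySmooth.symm.subsingleton

end AlgSpTopo.SourceRing
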