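import Mathlib
import Groth.Agent.AlgSpTopo.SourceRing
import Groth.Agent.Locus.EtaleCriterion

/-! Properties of scheme morphisms that descend along etale surjections on the source. -/

set_option autoImplicit false
universe u
open CategoryTheory AlgebraicGeometry TensorProduct

namespace AlgSpTopo

/-- the seven properties that are etale local on source and target -/
structure EtaleLocal (P : MorphismProperty Scheme.{u}) : Prop where
  bc : P.IsStableUnderBaseChange
  comp : P.IsStableUnderComposition
  of_etale : ∀ ⦃X Y : Scheme.{u}⦄ (f : X ⟶ Y), Etale f → P f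
  descend : ∀ ⦃X Y Z : Scheme.{u}⦄ (e : X ⟶ Y) (g : Y ⟶ Z), Etale e → Surjective e → P (e ≫ g) → P g

namespace EtaleLocal

variable {P : MorphismProperty Scheme.{u}}

theorem cancel (hP : EtaleLocal P) {X Y Z : Scheme.{u}} (f : X ⟶ Y) (g : Y ⟶ Z) (hg : Etale g)
    (h : P (f ≫ g)) : P f := by
  have := hP.bc
  have := hP.comp
  let Γ : X ⟶ Limits.pullback (f ≫ g) g := Limits.pullback.lift (𝟙 X) f (by simp)
  have hf : f = Γ ≫ Limits.pullback.snd _ _ := (Limits.pullback.lift_snd _ _ _).symm
  have h1 : Etale (Γ ≫ Limits.pullback.fst _ _) := by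
    rw [Limits.pullback.lift_fst]; infer_instance
  have h2 : Etale Γ := Etale.of_comp Γ (Limits.pullback.fst _ _)
  rw [hf]
  exact P.comp_mem _ _ (hP.of_etale _ h2) (MorphismProperty.pullback_snd _ _ h)

theorem and {P₁ P₂ : MorphismProperty Scheme.{u}} (h₁ : EtaleLocal P₁) (h₂ : EtaleLocal P₂) :
    EtaleLocal (P₁ ⊓ P₂) where
  bc := by
    have := h₁.bc
    have := h₂.bc
    infer_instance
  comp := by
    have := h₁.comp
    have := h₂.comp
    exact ⟨fun f g hf hg => ⟨P₁.comp_mem f g hf.1 hg.1, P₂.comp_mem f g hf.2 hg.2⟩⟩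
  of_etale _ _ f hf := ⟨h₁.of_etale f hf, h₂.of_etale f hf⟩
  descend _ _ _ e g he hs h := ⟨h₁.descend e g he hs h.1, h₂.descend e g he hs h.2⟩

theorem of_iff {Q : MorphismProperty Scheme.{u}} (hQ : EtaleLocal Q)
    (h : ∀ ⦃A B : Scheme.{u}⦄ (g : A ⟶ B), P g ↔ Q g) : EtaleLocal P := by
  obtain rfl : P = Q := MorphismProperty.ext _ _ fun _ _ g => h g
  exact hQ

end EtaleLocal

/-- descent along etale surjections on the source from the ring statement -/
theorem descend_of_ring {P : MorphismProperty Scheme.{u}}
    {Q : ∀ {R S : Type u} [CommRing R] [CommRing S], (R →+* S) → Prop} [HasRingHomProperty P Q]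
    (key : ∀ (A B C : Type u) [CommRing A] [CommRing B] [CommRing C] [Algebra A B] [Algebra B C]
      [Algebra A C] [IsScalarTower A B C] [Algebra.IsStandardEtale B C],
      Function.Surjective (PrimeSpectrum.comap (algebraMap B C)) → Q (algebraMap A C) → Q (algebraMap A B))
    {X Y Z : Scheme.{u}} (e : X ⟶ Y) (g : Y ⟶ Z) [Etale e] [Surjective e] (h : P (e ≫ g)) : P g := by
  rw [HasRingHomProperty.iff_appLE (P := P)]
  rintro ⟨U, hU⟩ ⟨V, hV⟩ hUV
  have hloc := (HasRingHomProperty.isLocal_ringHomProperty P (Q := Q))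
  algebraize [(g.appLE U V hUV).hom]
  -- a local chart at every prime
  have hch : ∀ p : PrimeSpectrum Γ(Y, V), ∃ b : Γ(Y, V), b ∉ p.asIdeal ∧
      Q (algebraMap Γ(Z, U) (Localization.Away b)) := by
    intro p
    obtain ⟨x, hx⟩ := e.surjective (hV.fromSpec p)
    have hxV : x ∈ e ⁻¹ᵁ V := by
      show e x ∈ V
      rw [hx, ← SetLike.mem_coe, ← hV.range_fromSpec]
      exact ⟨p, rfl⟩
    obtain ⟨_, ⟨W, hW, rfl⟩, hxW, hWV⟩ := X.isBasis_affineOpens.exists_subset_of_mem_open hxV (e ⁻¹ᵁ V).2
    change IsAffineOpen W at hW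
    have hAC : Q ((e ≫ g).appLE U W (hWV.trans (by
        rw [Scheme.Hom.comp_preimage]
        exact Scheme.Hom.preimage_mono e hUV))).hom :=
      HasRingHomProperty.appLE P (e ≫ g) h ⟨U, hU⟩ ⟨W, hW⟩ _
    rw [← Scheme.Hom.appLE_comp_appLE e g U V W hUV hWV, CommRingCat.hom_comp] at hAC
    have hBC : (e.appLE V W hWV).hom.Etale := HasRingHomProperty.appLE @Etale e ‹_› ⟨V, hV⟩ ⟨W, hW⟩ hWV
    algebraize [(e.appLE V W hWV).hom, (e.appLE V W hWV).hom.comp (g.appLE U V hUV).hom]
    let q := hW.primeIdealOf ⟨x, hxW⟩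
    have hq : PrimeSpectrum.comap (algebraMap Γ(Y, V) Γ(X, W)) q = p := by
      have h1 := IsAffineOpen.comap_primeIdealOf_appLE (f := e) (x := x) V hV W hW hWV hxW
      refine h1.trans (hV.fromSpec.isOpenEmbedding.injective ?_)
      rw [IsAffineOpen.fromSpec_primeIdealOf]
      exact hx
    obtain ⟨f, hfq, hf⟩ := Algebra.IsEtaleAt.exists_isStandardEtale (R := Γ(Y, V)) q.asIdeal
    let C' := Localization.Away f
    have hAC' : Q (algebraMap Γ(Z, U) C') := by
      have := hloc.StableUnderCompositionWithLocalizationAwayTarget C' f (algebraMap Γ(Z, U) Γ(X, W)) hAC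
      rwa [← IsScalarTower.algebraMap_eq] at this
    have hp : p ∈ Set.range (PrimeSpectrum.comap (algebraMap Γ(Y, V) C')) := by
      have : q ∈ Set.range (PrimeSpectrum.comap (algebraMap Γ(X, W) C')) := by
        rw [PrimeSpectrum.localization_away_comap_range C' f]
        exact hfq
      obtain ⟨r, hr⟩ := this
      exact ⟨r, by rw [IsScalarTower.algebraMap_eq Γ(Y, V) Γ(X, W) C', PrimeSpectrum.comap_comp_apply, hr, hq]⟩
    have hopen : IsOpen (Set.range (PrimeSpectrum.comap (algebraMap Γ(Y, V) C'))) := by
      simp only [← Set.image_univ]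
      exact PrimeSpectrum.isOpenMap_comap_of_hasGoingDown_of_finitePresentation _ isOpen_univ
    obtain ⟨_, ⟨b, rfl⟩, hpb, hb⟩ :=
      PrimeSpectrum.isTopologicalBasis_basic_opens.exists_subset_of_mem_open hp hopen
    refine ⟨b, hpb, ?_⟩
    let B' := Localization.Away b
    let C'' := B' ⊗[Γ(Y, V)] C'
    have hs : Function.Surjective (PrimeSpectrum.comap (algebraMap B' C'')) := by
      intro z
      refine SourceRing.mem_range_comap_baseChange z (hb ?_)
      change _ ∈ (PrimeSpectrum.basicOpen b : Set (PrimeSpectrum Γ(Y, V)))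
      rw [← PrimeSpectrum.localization_away_comap_range B' b]
      exact ⟨z, rfl⟩
    refine key Γ(Z, U) B' C'' hs ?_
    let _ : Algebra C' C'' := Algebra.TensorProduct.rightAlgebra
    have : IsLocalization.Away (algebraMap Γ(Y, V) C' b) C'' :=
      IsLocalization.Away.tensorRight (R := Γ(Y, V)) (A := B') (S := C') b
    have := hloc.StableUnderCompositionWithLocalizationAwayTarget C'' (algebraMap Γ(Y, V) C' b)
      (algebraMap Γ(Z, U) C') hAC'
    convert this using 1
    ext a
    change algebraMap B' C'' (algebraMap Γ(Z, U) B' a) =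
      (Algebra.TensorProduct.includeRight : C' →ₐ[Γ(Y, V)] C'') (algebraMap Γ(Z, U) C' a)
    rw [IsScalarTower.algebraMap_apply Γ(Z, U) Γ(Y, V) B', IsScalarTower.algebraMap_apply Γ(Z, U) Γ(Y, V) C',
      ← IsScalarTower.algebraMap_apply, AlgHom.commutes]
  choose b hb hQ using hch
  refine hloc.ofLocalizationSpanTarget _ (Set.range b) ?_ ?_
  · by_contra hne
    obtain ⟨m, hm, hle⟩ := Ideal.exists_le_maximal _ hne
    exact hb ⟨m, hm.isPrime⟩ (hle (Ideal.subset_span ⟨_, rfl⟩))
  · rintro ⟨_, p, rfl⟩
    have := hQ p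
    rwa [IsScalarTower.algebraMap_eq Γ(Z, U) Γ(Y, V)] at this

theorem etaleLocal_locallyOfFiniteType : EtaleLocal @LocallyOfFiniteType.{u} where
  bc := inferInstance
  comp := inferInstance
  of_etale _ _ f hf := inferInstance
  descend _ _ _ e g he hs h := descend_of_ring (P := @LocallyOfFiniteType) (fun A B C _ _ _ _ _ _ _ _ hs h => by
    have : Algebra.FiniteType A C := RingHom.finiteType_algebraMap.mp h
    exact RingHom.finiteType_algebraMap.mpr (SourceRing.finiteType (C := C) hs)) e g h

theorem etaleLocal_locallyOfFinitePresentation : EtaleLocal @LocallyOfFinitePresentation.{u} where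
  bc := inferInstance
  comp := inferInstance
  of_etale _ _ f hf := inferInstance
  descend _ _ _ e g he hs h := descend_of_ring (P := @LocallyOfFinitePresentation) (fun A B C _ _ _ _ _ _ _ _ hs h => by
    have : Algebra.FinitePresentation A C := RingHom.finitePresentation_algebraMap.mp h
    exact RingHom.finitePresentation_algebraMap.mpr (SourceRing.finitePresentation (C := C) hs)) e g h

theorem etaleLocal_smooth : EtaleLocal @Smooth.{u} where
  bc := inferInstance
  comp := inferInstance
  of_etale _ _ f hf := inferInstance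
  descend _ _ _ e g he hs h := descend_of_ring (P := @Smooth) (fun A B C _ _ _ _ _ _ _ _ hs h => by
    have : Algebra.Smooth A C := RingHom.smooth_algebraMap.mp h
    exact RingHom.smooth_algebraMap.mpr (SourceRing.formallySmooth (C := C) hs)) e g h

theorem etaleLocal_flat : EtaleLocal @Flat.{u} where
  bc := inferInstance
  comp := inferInstance
  of_etale _ _ f hf := inferInstance
  descend _ _ _ e g he hs h := descend_of_ring (P := @Flat) (fun A B C _ _ _ _ _ _ _ _ hs h => by
    have : Module.Flat A C := RingHom.flat_algebraMap_iff.mp h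
    have : Module.FaithfullyFlat B C := .of_comap_surjective hs
    exact RingHom.flat_algebraMap_iff.mpr (Groth.Agent.Locus.EtaleCriterion.flat_of_comp_faithfullyFlat A B C)) e g h

theorem etaleLocal_formallyUnramified : EtaleLocal @FormallyUnramified.{u} where
  bc := inferInstance
  comp := inferInstance
  of_etale _ _ f hf := inferInstance
  descend _ _ _ e g he hs h := descend_of_ring (P := @FormallyUnramified) (fun A B C _ _ _ _ _ _ _ _ hs h => by
    have : Algebra.FormallyUnramified A C := RingHom.formallyUnramified_algebraMap.mp h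
    have : Module.FaithfullyFlat B C := .of_comap_surjective hs
    have : Algebra.FormallyEtale B C := inferInstance
    have : Subsingleton Ω[C⁄A] := inferInstance
    have : Subsingleton (C ⊗[B] Ω[B⁄A]) :=
      (KaehlerDifferential.tensorKaehlerEquivOfFormallyEtale A B C).toEquiv.subsingleton
    have := Module.FaithfullyFlat.lTensor_reflects_triviality B C Ω[B⁄A]
    exact RingHom.formallyUnramified_algebraMap.mpr ⟨this⟩) e g h

theorem etaleLocal_locallyQuasiFinite : EtaleLocal @LocallyQuasiFinite.{u} where
  bc := inferInstance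
  comp := inferInstance
  of_etale _ _ f hf := by
    rw [HasRingHomProperty.iff_appLE (P := @LocallyQuasiFinite)]
    intro U V e
    have := HasRingHomProperty.appLE @Etale f hf U V e
    algebraize [(f.appLE U V e).hom]
    exact RingHom.quasiFinite_algebraMap.mpr ⟨fun P _ =>
      Algebra.FormallyUnramified.finite_of_free P.ResidueField (P.Fiber _)⟩
  descend _ _ _ e g he hs h := descend_of_ring (P := @LocallyQuasiFinite) (fun A B C _ _ _ _ _ _ _ _ hs h => by
    have : Algebra.QuasiFinite A C := RingHom.quasiFinite_algebraMap.mp h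
    have : Module.FaithfullyFlat B C := .of_comap_surjective hs
    refine RingHom.quasiFinite_algebraMap.mpr ⟨fun P _ => ?_⟩
    let φ : P.Fiber B →ₐ[P.ResidueField] P.Fiber C :=
      Algebra.TensorProduct.map (AlgHom.id P.ResidueField P.ResidueField) (IsScalarTower.toAlgHom A B C)
    refine Module.Finite.of_injective φ.toLinearMap ?_
    let j := Algebra.TensorProduct.commRight A B P.ResidueField
    have h0 : Function.Injective
        ((Algebra.TensorProduct.includeRight : (B ⊗[A] P.ResidueField) →ₐ[B] C ⊗[B] (B ⊗[A] P.ResidueField))) :=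
      Module.FaithfullyFlat.tensorProduct_mk_injective _
    let k : C ⊗[B] (B ⊗[A] P.ResidueField) ≃ₗ[C] C ⊗[A] P.ResidueField :=
      TensorProduct.AlgebraTensorModule.cancelBaseChange A B C C P.ResidueField
    have : ∀ z : P.ResidueField ⊗[A] B, φ z = (TensorProduct.comm A C P.ResidueField) (k
        ((Algebra.TensorProduct.includeRight : (B ⊗[A] P.ResidueField) →ₐ[B] C ⊗[B] (B ⊗[A] P.ResidueField))
        (TensorProduct.comm A P.ResidueField B z))) := by
      intro z
      induction z with
      | zero => simp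
      | add x y hx hy => simp only [map_add, hx, hy]
      | tmul a b => simp [φ, k, Algebra.algebraMap_eq_smul_one]
    intro x y hxy
    change φ x = φ y at hxy
    rw [this x, this y] at hxy
    exact (TensorProduct.comm A _ _).injective (h0 (k.injective ((TensorProduct.comm A _ _).injective hxy)))) e g h


theorem etaleLocal_etale : EtaleLocal @Etale.{u} where
  bc := inferInstance
  comp := inferInstance
  of_etale _ _ f hf := hf
  descend _ _ _ e g he hs h := by
    have h1 : Smooth g := etaleLocal_smooth.descend e g he hs inferInstance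
    have h2 : FormallyUnramified g := etaleLocal_formallyUnramified.descend e g he hs inferInstance
    exact Etale.iff_flat_and_formallyUnramified.mpr ⟨inferInstance, h2, inferInstance⟩

theorem etaleLocal_cases {P : MorphismProperty Scheme.{u}}
    (hP : P = @LocallyOfFiniteType ∨ P = @LocallyOfFinitePresentation ∨ P = @Flat ∨ P = @Smooth ∨ P = @Etale ∨
      (∀ ⦃A B : Scheme.{u}⦄ (g : A ⟶ B), P g ↔ (LocallyQuasiFinite g ∧ LocallyOfFiniteType g)) ∨
      (∀ ⦃A B : Scheme.{u}⦄ (g : A ⟶ B), P g ↔ (LocallyOfFiniteType g ∧ FormallyUnramified g))) :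
    EtaleLocal P := by
  rcases hP with rfl | rfl | rfl | rfl | rfl | h | h
  · exact etaleLocal_locallyOfFiniteType
  · exact etaleLocal_locallyOfFinitePresentation
  · exact etaleLocal_flat
  · exact etaleLocal_smooth
  · exact etaleLocal_etale
  · exact (etaleLocal_locallyQuasiFinite.and etaleLocal_locallyOfFiniteType).of_iff h
  · exact (etaleLocal_locallyOfFiniteType.and etaleLocal_formallyUnramified).of_iff h

end AlgSpTopo
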