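import Mathlib
import Groth.Agent.AlgSpTopo.SourceScheme
import Groth.Agent.AlgSpTopo.Chart
import Groth.Agent.AlgSpTopo.Qc
import Groth.Agent.AlgSpTopo.Pullback

/-! `LocP P` for properties etale local on source and target: charts, composition, base change, locality. -/

set_option autoImplicit false
set_option backward.isDefEq.respectTransparency false
universe u
open CategoryTheory CategoryTheory.Limits AlgebraicGeometry Opposite

namespace AlgSpTopo

theorem prop_of_etale_family {P : MorphismProperty Scheme.{u}} (hP : EtaleLocal P) [IsZariskiLocalAtSource P]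
    {ι : Type u} {X : ι → Scheme.{u}} {Y Z : Scheme.{u}} (e : ∀ i, X i ⟶ Y) (g : Y ⟶ Z)
    (he : ∀ i, Etale (e i)) (hs : ∀ y : Y, ∃ i, y ∈ Set.range (e i)) (h : ∀ i, P (e i ≫ g)) : P g := by
  refine hP.descend (Sigma.desc e) g (IsZariskiLocalAtSource.sigmaDesc he) ⟨fun y => ?_⟩ ?_
  · obtain ⟨i, x, hx⟩ := hs y
    exact ⟨Sigma.ι X i x, by rw [← Scheme.Hom.comp_apply, Sigma.ι_desc, hx]⟩
  · rw [show Sigma.desc e ≫ g = Sigma.desc (fun i => e i ≫ g) from by ext; simp]
    exact IsZariskiLocalAtSource.sigmaDesc h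

theorem prop_of_flat_cover {P : MorphismProperty Scheme.{u}} [IsZariskiLocalAtTarget P]
    [P.DescendsAlong (@Surjective ⊓ @Flat ⊓ @QuasiCompact)]
    {M V : Scheme.{u}} (h : M ⟶ V) [IsAffine V] {m : ℕ} (W : Fin m → Scheme.{u}) (c : ∀ j, W j ⟶ V)
    (hW : ∀ j, IsAffine (W j)) (hc : ∀ j, Flat (c j)) (hs : ∀ z : V, ∃ j, z ∈ Set.range (c j))
    (hP : ∀ j, P (pullback.snd h (c j))) : P h := by
  have : IsAffine (∐ W) := inferInstance
  have h1 : Surjective (Sigma.desc c) := ⟨fun y => by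
    obtain ⟨i, x, hx⟩ := hs y
    exact ⟨Sigma.ι W i x, by rw [← Scheme.Hom.comp_apply, Sigma.ι_desc, hx]⟩⟩
  have h2 : Flat (Sigma.desc c) := IsZariskiLocalAtSource.sigmaDesc hc
  have h3 : QuasiCompact (Sigma.desc c) := inferInstance
  refine MorphismProperty.of_isPullback_of_descendsAlong
    (Q := (@Surjective ⊓ @Flat ⊓ @QuasiCompact : MorphismProperty Scheme.{u}))
    (IsPullback.of_hasPullback (Sigma.desc c) h)
    ⟨⟨h1, h2⟩, h3⟩ ?_
  refine IsZariskiLocalAtTarget.of_openCover (sigmaOpenCover W) fun j => ?_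
  have H := ((IsPullback.of_hasPullback (pullback.fst (Sigma.desc c) h) ((sigmaOpenCover W).f j)).paste_horiz
    (IsPullback.of_hasPullback (Sigma.desc c) h).flip)
  have e : (sigmaOpenCover W).f j ≫ Sigma.desc c = c j := Sigma.ι_desc _ _
  rw [e] at H
  change P (pullback.snd (pullback.fst (Sigma.desc c) h) ((sigmaOpenCover W).f j))
  have hj : P (pullback.snd h (c j)) := hP j
  rw [← (IsPullback.of_hasPullback h (c j)).isoIsPullback_hom_snd _ _ H] at hj
  exact (P.cancel_left_of_respectsIso _ _).1 hj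

open AlgSp

variable {S : Scheme.{u}} {P Q : MorphismProperty Scheme.{u}} {X Y Z : Sp S}

/-- an etale factorisation through an etale map is etale -/
theorem etale_of_comp_yon {U E : Over S} {X : Sp S} {k : (yon S).obj E ⟶ X} (hk : RepWith @Etale k)
    {σ : U ⟶ E} (ha : RepWith @Etale ((yon S).map σ ≫ k)) : Etale σ.left := by
  obtain ⟨G, p, q, sq, hq⟩ := exists_square ha k
  obtain ⟨p, rfl⟩ := (yon S).map_surjective p
  obtain ⟨τ, hτ1, hτ2⟩ := sq.exists_lift (𝟙 _) ((yon S).map σ) (by rw [Category.id_comp])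
  obtain ⟨τ, rfl⟩ := (yon S).map_surjective τ
  have e1 : τ ≫ p = 𝟙 _ := (yon S).map_injective (by simpa using hτ1)
  have e2 : τ ≫ q = σ := (yon S).map_injective (by simpa using hτ2)
  have : Etale p.left := hk.property _ _ _ sq.flip
  have : Etale q.left := hq
  have : Etale (τ.left ≫ p.left) := by
    rw [← Over.comp_left, e1]; dsimp; infer_instance
  have : Etale τ.left := etale_cancel τ.left p.left
  rw [← e2, Over.comp_left]
  infer_instance

/-- one chart suffices -/
theorem one_chart (hP : EtaleLocal P) (f : X ⟶ Y) {U V : Over S} (a : (yon S).obj U ⟶ X)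
    (b : (yon S).obj V ⟶ Y) (h : U ⟶ V) (ha : RepWith @Etale a) (has : RepWith @Surjective a)
    (hb : RepWith @Etale b) (comm : a ≫ f = (yon S).map h ≫ b) (hh : P h.left) : LocP P f := by
  intro U0 V0 a0 b0 h0 ha0 hb0 c0
  have := hP.comp
  obtain ⟨U'', w, e0, squ, he0⟩ := exists_square ha a0
  obtain ⟨w, rfl⟩ := (yon S).map_surjective w
  have hes : Surjective e0.left := has.property _ _ _ squ
  have hw : Etale w.left := ha0.property _ _ _ squ.flip
  obtain ⟨V'', vb, v0, sqv, hv0⟩ := exists_square hb b0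
  obtain ⟨vb, rfl⟩ := (yon S).map_surjective vb
  have hvb : Etale vb.left := hb0.property _ _ _ sqv.flip
  obtain ⟨m, hm1, hm2⟩ := sqv.exists_lift ((yon S).map (w ≫ h)) ((yon S).map (e0 ≫ h0)) (by
    rw [Functor.map_comp, Category.assoc, ← comm, ← Category.assoc, squ.w, Category.assoc, c0,
      Functor.map_comp, Category.assoc])
  obtain ⟨m, rfl⟩ := (yon S).map_surjective m
  have e1 : m ≫ vb = w ≫ h := (yon S).map_injective (by simpa using hm1)
  have e2 : m ≫ v0 = e0 ≫ h0 := (yon S).map_injective (by simpa using hm2)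
  have hm : P m.left := by
    refine hP.cancel m.left vb.left hvb ?_
    rw [← Over.comp_left, e1, Over.comp_left]
    exact P.comp_mem _ _ (hP.of_etale _ hw) hh
  refine hP.descend e0.left h0.left he0 hes ?_
  rw [← Over.comp_left, ← e2, Over.comp_left]
  exact P.comp_mem _ _ hm (hP.of_etale _ hv0)

/-- a chart of `f` over an etale chart `k` of the target -/
theorem exists_atlas_chart [Q.IsStableUnderBaseChange] (hX : IsAlgSpace X) (hY : IsAlgSpace Y) (f : X ⟶ Y)
    (hf : LocP Q f) {T : Over S} {k : (yon S).obj T ⟶ Y} (hk : RepWith @Etale k)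
    (hks : RepWith @Surjective k) :
    ∃ (M T' : Over S) (m : M ⟶ T') (e : T' ⟶ T) (a : (yon S).obj M ⟶ X),
      Q m.left ∧ Etale e.left ∧ RepWith @Etale a ∧ RepWith @Surjective a ∧
      a ≫ f = (yon S).map (m ≫ e) ≫ k := by
  have H := IsPullback.of_hasPullback f k
  obtain ⟨M, T', m, e, v, hm, he, -, hv, hvs, hv2⟩ := exists_chart hX hY f hf H
  have hfst : RepWith @Etale (pullback.fst f k) := MorphismProperty.of_isPullback (P := RepWith @Etale) H.flip hk
  have ha : RepWith @Etale (v ≫ pullback.fst f k) := MorphismProperty.comp_mem _ _ _ hv hfst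
  refine ⟨M, T', m, e, _, hm, he, ha, repWith_surjective_of_points ha.rep fun x => ?_, ?_⟩
  · obtain ⟨y, hy⟩ := surjective_snd H.flip (surjective_of_repWith hks) x
    obtain ⟨z, hz⟩ := hvs y
    exact ⟨z, by rw [Points.map_comp, hz, hy]⟩
  · rw [Category.assoc, H.w, ← Category.assoc, hv2]

theorem locP_top (f : X ⟶ Y) : LocP (⊤ : MorphismProperty Scheme.{u}) f := fun _ _ _ _ _ _ _ _ => trivial

theorem locP_bc (hP : EtaleLocal P) {X' Y' : Sp S} (hX : IsAlgSpace X) (hY : IsAlgSpace Y) (hY' : IsAlgSpace Y')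
    {f : X ⟶ Y} {g : Y' ⟶ Y} {q : X' ⟶ X} {p : X' ⟶ Y'} (sq : IsPullback q p f g) (h : LocP P f) :
    LocP P p := by
  have := hP.bc
  have := hP.comp
  obtain ⟨T, b, hb, hbs⟩ := hY'.atlas
  have H := IsPullback.of_hasPullback p b
  obtain ⟨M, T', m, e, v, hm, he, -, hv, hvs, hv2⟩ := exists_chart hX hY f h (H.paste_horiz sq)
  have hfst : RepWith @Etale (pullback.fst p b) := MorphismProperty.of_isPullback (P := RepWith @Etale) H.flip hb
  have ha : RepWith @Etale (v ≫ pullback.fst p b) := MorphismProperty.comp_mem _ _ _ hv hfst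
  refine one_chart hP p _ b (m ≫ e) ha (repWith_surjective_of_points ha.rep fun x => ?_) hb
    (by rw [Category.assoc, H.w, ← Category.assoc, hv2]) (P.comp_mem _ _ hm (hP.of_etale _ he))
  obtain ⟨y, hy⟩ := surjective_snd H.flip (surjective_of_repWith hbs) x
  obtain ⟨z, hz⟩ := hvs y
  exact ⟨z, by rw [Points.map_comp, hz, hy]⟩

theorem locP_comp (hP : EtaleLocal P) (hX : IsAlgSpace X) (hY : IsAlgSpace Y) (hZ : IsAlgSpace Z)
    (f : X ⟶ Y) (g : Y ⟶ Z) (hf : LocP P f) (hg : LocP P g) : LocP P (f ≫ g) := by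
  have := hP.bc
  have := hP.comp
  obtain ⟨W, c, hc, hcs⟩ := hZ.atlas
  obtain ⟨M2, T2, m2, e2, a2, hm2, he2, ha2, ha2s, comm2⟩ := exists_atlas_chart hY hZ g hg hc hcs
  obtain ⟨M1, T1, m1, e1, a1, hm1, he1, ha1, ha1s, comm1⟩ := exists_atlas_chart hX hY f hf ha2 ha2s
  refine one_chart hP (f ≫ g) a1 c ((m1 ≫ e1) ≫ m2 ≫ e2) ha1 ha1s hc
    (by rw [← Category.assoc, comm1, Category.assoc, comm2, ← Category.assoc, ← Functor.map_comp]) ?_
  exact P.comp_mem _ _ (P.comp_mem _ _ hm1 (hP.of_etale _ he1)) (P.comp_mem _ _ hm2 (hP.of_etale _ he2))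

theorem locP_of_comp (hP : EtaleLocal P)
    (hc : ∀ ⦃A B C : Scheme.{u}⦄ (f : A ⟶ B) (g : B ⟶ C), P (f ≫ g) → P f)
    (hX : IsAlgSpace X) (hY : IsAlgSpace Y) (hZ : IsAlgSpace Z) (f : X ⟶ Y) (g : Y ⟶ Z)
    (h : LocP P (f ≫ g)) : LocP P f := by
  obtain ⟨W, c, hcW, hcs⟩ := hZ.atlas
  obtain ⟨M2, T2, m2, e2, a2, -, -, ha2, ha2s, comm2⟩ := exists_atlas_chart hY hZ g (locP_top g) hcW hcs
  obtain ⟨M1, T1, m1, e1, a1, -, -, ha1, ha1s, comm1⟩ := exists_atlas_chart hX hY f (locP_top f) ha2 ha2s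
  refine one_chart hP f a1 a2 (m1 ≫ e1) ha1 ha1s ha2 comm1 (hc _ (m2 ≫ e2).left ?_)
  rw [← Over.comp_left]
  exact h a1 c _ ha1 hcW (by rw [← Category.assoc, comm1, Category.assoc, comm2, ← Category.assoc, ← Functor.map_comp])

theorem locP_of_source_cover (hP : EtaleLocal P) (hY : IsAlgSpace Y) (f : X ⟶ Y) {U : Over S}
    (φ : (yon S).obj U ⟶ X) (hφ : RepWith @Etale φ) (hφs : RepWith @Surjective φ) (h : LocP P (φ ≫ f)) :
    LocP P f := by
  obtain ⟨V, b, hb, hbs⟩ := hY.atlas
  obtain ⟨M, T', m, e, a, -, -, ha, has, comm⟩ :=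
    exists_atlas_chart (IsAlgSpace.yon_obj U) hY (φ ≫ f) (locP_top _) hb hbs
  exact one_chart hP f (a ≫ φ) b (m ≫ e) (MorphismProperty.comp_mem _ _ _ ha hφ)
    (MorphismProperty.comp_mem _ _ _ has hφs) hb (by rw [Category.assoc, comm]) (h a b _ ha hb comm)

theorem locP_of_target_cover (hP : EtaleLocal P) (hX : IsAlgSpace X) (hY : IsAlgSpace Y) (f : X ⟶ Y)
    {V : Over S} {p : (yon S).obj V ⟶ Y} (hp : RepWith @Etale p) (hps : RepWith @Surjective p)
    {P' : Sp S} {fst : P' ⟶ X} {snd : P' ⟶ (yon S).obj V} (sq : IsPullback fst snd f p) (h : LocP P snd) :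
    LocP P f := by
  obtain ⟨M, T', m, e, v, -, -, -, hv, hvs, hv2⟩ := exists_chart hX hY f (locP_top f) sq
  have hfst : RepWith @Etale fst := MorphismProperty.of_isPullback (P := RepWith @Etale) sq.flip hp
  have ha : RepWith @Etale (v ≫ fst) := MorphismProperty.comp_mem _ _ _ hv hfst
  refine one_chart hP f _ p (m ≫ e) ha (repWith_surjective_of_points ha.rep fun x => ?_) hp
    (by rw [Category.assoc, sq.w, ← Category.assoc, hv2])
    (h v (𝟙 _) _ hv (repWith_id _ V) (by rw [hv2, Category.comp_id]))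
  obtain ⟨y, hy⟩ := surjective_snd sq.flip (surjective_of_repWith hps) x
  obtain ⟨z, hz⟩ := hvs y
  exact ⟨z, by rw [Points.map_comp, hz, hy]⟩

theorem locP_iff_repWith (hP : EtaleLocal P) (hX : IsAlgSpace X) (hY : IsAlgSpace Y) (f : X ⟶ Y)
    (hf : Representable f) : LocP P f ↔ RepWith P f := by
  have := hP.comp
  constructor
  · intro h
    refine ⟨hf, fun U V g fst snd sq => ?_⟩
    exact (locP_bc hP hX hY (IsAlgSpace.yon_obj U) sq h) (𝟙 _) (𝟙 _) snd (repWith_id _ V) (repWith_id _ U)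
      (by rw [Category.id_comp, Category.comp_id])
  · intro h U V a b k ha hb comm
    obtain ⟨E, fst, snd, sq, hs⟩ := exists_square h b
    obtain ⟨σ, hσ1, hσ2⟩ := sq.exists_lift a ((yon S).map k) comm
    obtain ⟨σ, rfl⟩ := (yon S).map_surjective σ
    have e2 : σ ≫ snd = k := (yon S).map_injective (by simpa using hσ2)
    have hfst : RepWith @Etale fst := MorphismProperty.of_isPullback (P := RepWith @Etale) sq.flip hb
    rw [← hσ1] at ha
    rw [← e2, Over.comp_left]
    exact P.comp_mem _ _ (hP.of_etale _ (etale_of_comp_yon hfst ha)) hs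

theorem isEtaleMor_iff_locP (hX : IsAlgSpace X) (hY : IsAlgSpace Y) (f : X ⟶ Y) :
    IsEtaleMor f ↔ LocP @Etale f := by
  refine ⟨locP_etale_of_isEtaleMor f, fun h U φ hφ => ?_⟩
  have hU := IsAlgSpace.yon_obj (S := S) U
  refine (locP_iff_repWith etaleLocal_etale hU hY _ (hY.representable_from_yon _)).1 ?_
  exact locP_comp etaleLocal_etale hU hX hY φ f
    ((locP_iff_repWith etaleLocal_etale hU hX φ hφ.rep).2 hφ) h

theorem isLocalOnBase_fpqc (hP : EtaleLocal P) [IsZariskiLocalAtTarget P]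
    [P.DescendsAlong (@Surjective ⊓ @Flat ⊓ @QuasiCompact)] :
    IsLocalOnBase (IsFpqcCover (S := S)) (LocP P) := by
  intro ι Y Yi g hY hYi hcov X f hX Xi p q hXi sqs
  refine ⟨fun h i => locP_bc hP hX hY (hYi i) (sqs i) h, fun h => ?_⟩
  have := hP.bc
  obtain ⟨V0, b, hb, hbs⟩ := hY.atlas
  have H := IsPullback.of_hasPullback f b
  obtain ⟨M, T', m, e, v, -, -, -, hv, hvs, hv2⟩ := exists_chart hX hY f (locP_top f) H
  have hfst : RepWith @Etale (pullback.fst f b) := MorphismProperty.of_isPullback (P := RepWith @Etale) H.flip hb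
  have ha : RepWith @Etale (v ≫ pullback.fst f b) := MorphismProperty.comp_mem _ _ _ hv hfst
  refine one_chart hP f _ b (m ≫ e) ha (repWith_surjective_of_points ha.rep fun x => ?_) hb
    (by rw [Category.assoc, H.w, ← Category.assoc, hv2]) ?_
  · obtain ⟨y, hy⟩ := surjective_snd H.flip (surjective_of_repWith hbs) x
    obtain ⟨z, hz⟩ := hvs y
    exact ⟨z, by rw [Points.map_comp, hz, hy]⟩
  refine IsZariskiLocalAtTarget.of_openCover V0.left.affineCover fun k => ?_
  let Zo : Over S := Over.mk (V0.left.affineCover.f k ≫ V0.hom)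
  let zm : Zo ⟶ V0 := Over.homMk (V0.left.affineCover.f k)
  have : IsAffine Zo.left := inferInstanceAs (IsAffine (V0.left.affineCover.X k))
  obtain ⟨n, W, c, hW, hc, hs, hl⟩ := hcov.2 Zo this ((yon S).map zm ≫ b)
  refine prop_of_flat_cover _ (fun j => (W j).left) (fun j => (c j).left) hW hc hs fun j => ?_
  obtain ⟨i, l, hl⟩ := hl j
  have sqP := IsPullback.of_hasPullback (p i) l
  have hπ : LocP P (pullback.snd (p i) l) := locP_bc hP (hXi i) (hYi i) (IsAlgSpace.yon_obj (W j)) sqP (h i)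
  have big := sqP.paste_horiz (sqs i)
  rw [hl, ← Category.assoc, ← Functor.map_comp] at big
  obtain ⟨t, ht1, ht2⟩ := H.exists_lift (pullback.fst (p i) l ≫ q i)
    (pullback.snd (p i) l ≫ (yon S).map (c j ≫ zm)) (by rw [big.w, Category.assoc])
  rw [← ht1] at big
  have sqt := IsPullback.of_right big ht2 H
  have sqM := (IsPullback.of_hasPullback (m ≫ e) (c j ≫ zm)).map (yon S)
  rw [← hv2] at sqM
  obtain ⟨aj, haj1, haj2⟩ := sqt.exists_lift ((yon S).map (pullback.fst (m ≫ e) (c j ≫ zm)) ≫ v)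
    ((yon S).map (pullback.snd (m ≫ e) (c j ≫ zm))) (by rw [Category.assoc]; exact sqM.w)
  rw [← haj2] at sqM
  have sqv := IsPullback.of_bot sqM haj1.symm sqt
  have haje : RepWith @Etale aj := MorphismProperty.of_isPullback (P := RepWith @Etale) sqv hv
  have key : P (pullback.snd (m ≫ e) (c j ≫ zm)).left :=
    hπ aj (𝟙 _) _ haje (repWith_id _ (W j)) (by rw [haj2, Category.comp_id])
  have sqA : IsPullback (pullback.fst (m ≫ e) (c j ≫ zm)).left (pullback.snd (m ≫ e) (c j ≫ zm)).left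
      (m ≫ e).left ((c j).left ≫ V0.left.affineCover.f k) :=
    (IsPullback.of_hasPullback (m ≫ e) (c j ≫ zm)).map (Over.forget S)
  have sqB := (IsPullback.of_hasPullback (pullback.snd (m ≫ e).left (V0.left.affineCover.f k)) (c j).left).paste_horiz
    (IsPullback.of_hasPullback (m ≫ e).left (V0.left.affineCover.f k))
  rw [← sqA.isoIsPullback_hom_snd _ _ sqB] at key
  exact (P.cancel_left_of_respectsIso _ _).1 key

theorem isLocalOnSource_etale (hP : EtaleLocal P) [IsZariskiLocalAtSource P] :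
    IsLocalOnSource (IsEtCover (S := S)) (LocP P) := by
  intro ι X Xi g hX hXi hcov Y f hY
  have := hP.bc
  constructor
  · intro h i
    exact locP_comp hP (hXi i) hX hY (g i) f
      (locP_mono hP.of_etale (locP_etale_of_isEtaleMor (g i) (hcov.1 i))) h
  intro h
  obtain ⟨V, b, hb, hbs⟩ := hY.atlas
  obtain ⟨M, T', m, e, a, -, -, ha, has, comm⟩ := exists_atlas_chart hX hY f (locP_top f) hb hbs
  refine one_chart hP f a b (m ≫ e) ha has hb comm ?_
  have hch : ∀ i, ∃ (Mi : Over S) (em : Mi ⟶ M), Etale em.left ∧ P (em ≫ m ≫ e).left ∧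
      ∀ (y : Points (Xi i)) (x : Points ((yon S).obj M)), Points.map (g i) y = Points.map a x →
        x ∈ Set.range (Points.map ((yon S).map em)) := by
    intro i
    have H := IsPullback.of_hasPullback (g i) a
    obtain ⟨Mi, Ti, mi, ei, v, hmi, hei, -, hv, hvs, hv2⟩ :=
      exists_chart (hXi i) hX (g i) (locP_etale_of_isEtaleMor (g i) (hcov.1 i)) H
    have hai : RepWith @Etale (v ≫ pullback.fst (g i) a) :=
      MorphismProperty.comp_mem _ _ _ hv (MorphismProperty.of_isPullback (P := RepWith @Etale) H.flip ha)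
    have : Etale mi.left := hmi
    have : Etale ei.left := hei
    refine ⟨Mi, mi ≫ ei, by rw [Over.comp_left]; infer_instance, h i _ b _ hai hb ?_, fun y x hyx => ?_⟩
    · rw [Category.assoc, ← Category.assoc (pullback.fst (g i) a), H.w, Category.assoc, comm, ← Category.assoc,
        hv2, ← Category.assoc, ← Functor.map_comp]
    · obtain ⟨w, -, hw⟩ := points_surj H y x hyx
      obtain ⟨z, hz⟩ := hvs w
      exact ⟨z, by rw [← hv2, Points.map_comp, hz, hw]⟩
  choose Mi em hem hPem hsurj using hch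
  refine prop_of_etale_family hP (fun i => (em i).left) _ hem (fun x => ?_) hPem
  obtain ⟨i, y, hy⟩ := hcov.2 (Points.map a (Points.ofScheme M x))
  obtain ⟨z, hz⟩ := hsurj i y (Points.ofScheme M x) hy
  obtain ⟨w, rfl⟩ := ofScheme_surjective (Mi i) z
  rw [map_ofScheme] at hz
  exact ⟨i, w, (Points.schemeHomeo M).injective hz⟩

end AlgSpTopo
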