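import Mathlib
import Groth.Agent.AlgSpTopo.LocChart
import Groth.Agent.Fpqc.Descent

/-! fpqc descent instances used with `LocChart`. -/

set_option autoImplicit false
universe u
open CategoryTheory AlgebraicGeometry TensorProduct

namespace AlgSpTopo

theorem flat_codescendsAlong :
    RingHom.CodescendsAlong RingHom.Flat RingHom.FaithfullyFlat := by
  refine RingHom.CodescendsAlong.mk _ RingHom.Flat.respectsIso fun R S T _ _ _ _ _ h h' => ?_
  rw [RingHom.faithfullyFlat_algebraMap_iff] at h
  rw [RingHom.flat_algebraMap_iff] at h' ⊢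
  exact Module.Flat.of_flat_tensorProduct R T S

instance descendsAlong_flat :
    MorphismProperty.DescendsAlong (@Flat : MorphismProperty Scheme.{u}) (@Surjective ⊓ @Flat ⊓ @QuasiCompact) :=
  HasRingHomProperty.descendsAlong_flat flat_codescendsAlong

instance descendsAlong_lqf :
    MorphismProperty.DescendsAlong ((@LocallyQuasiFinite : MorphismProperty Scheme.{u}) ⊓ @LocallyOfFiniteType)
      (@Surjective ⊓ @Flat ⊓ @QuasiCompact) :=
  Groth.Agent.Fpqc.Descent.locallyQuasiFinite_inf_locallyOfFiniteType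

theorem etaleLocal_lqf : EtaleLocal ((@LocallyQuasiFinite : MorphismProperty Scheme.{u}) ⊓ @LocallyOfFiniteType) :=
  etaleLocal_locallyQuasiFinite.and etaleLocal_locallyOfFiniteType

theorem etaleLocal_unramified : EtaleLocal ((@LocallyOfFiniteType : MorphismProperty Scheme.{u}) ⊓ @FormallyUnramified) :=
  etaleLocal_locallyOfFiniteType.and etaleLocal_formallyUnramified

theorem cancel_unramified ⦃A B C : Scheme.{u}⦄ (f : A ⟶ B) (g : B ⟶ C)
    (h : ((@LocallyOfFiniteType : MorphismProperty Scheme.{u}) ⊓ @FormallyUnramified) (f ≫ g)) :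
    ((@LocallyOfFiniteType : MorphismProperty Scheme.{u}) ⊓ @FormallyUnramified) f :=
  have := h.1
  have := h.2
  ⟨locallyOfFiniteType_of_comp f g, FormallyUnramified.of_comp f g⟩

theorem cancel_lqf ⦃A B C : Scheme.{u}⦄ (f : A ⟶ B) (g : B ⟶ C)
    (h : ((@LocallyQuasiFinite : MorphismProperty Scheme.{u}) ⊓ @LocallyOfFiniteType) (f ≫ g)) :
    ((@LocallyQuasiFinite : MorphismProperty Scheme.{u}) ⊓ @LocallyOfFiniteType) f :=
  have := h.1
  have := h.2
  ⟨LocallyQuasiFinite.of_comp f g, locallyOfFiniteType_of_comp f g⟩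

open AlgSp in
theorem isLocalOnBase_isEtaleMor {S : Scheme.{u}} :
    IsLocalOnBase (IsFpqcCover (S := S)) IsEtaleMor := by
  intro ι Y Yi g hY hYi hcov X f hX Xi p q hXi sqs
  rw [isEtaleMor_iff_locP hX hY, forall_congr' fun i => isEtaleMor_iff_locP (hXi i) (hYi i) (p i)]
  exact isLocalOnBase_fpqc etaleLocal_etale Yi g hY hYi hcov f hX Xi p q hXi sqs

open AlgSp in
theorem isLocalOnSource_isEtaleMor {S : Scheme.{u}} :
    IsLocalOnSource (IsEtCover (S := S)) IsEtaleMor := by
  intro ι X Xi g hX hXi hcov Y f hY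
  rw [isEtaleMor_iff_locP hX hY, forall_congr' fun i => isEtaleMor_iff_locP (hXi i) hY (g i ≫ f)]
  exact isLocalOnSource_etale etaleLocal_etale Xi g hX hXi hcov f hY

end AlgSpTopo
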