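import Mathlib
import Groth.Agent.AlgSpTopo.Iso

set_option autoImplicit false
set_option backward.isDefEq.respectTransparency false
universe u
open CategoryTheory CategoryTheory.Limits AlgebraicGeometry Opposite Topology

namespace AlgSpTopo
open AlgSp

variable {S : Scheme.{u}} {X Y : Sp S}

/-- an etale surjection onto an affine scheme is refined by finitely many affines -/
theorem exists_affine_refinement {M T : Over S} (μ : M ⟶ T) [IsAffine T.left] [Etale μ.left]
    [Surjective μ.left] :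
    ∃ (m : ℕ) (W : Fin m → Over S) (c : ∀ j, W j ⟶ T),
      (∀ j, IsAffine (W j).left) ∧ (∀ j, Flat (c j).left) ∧
      (∀ t : ↥T.left, ∃ j, t ∈ Set.range (c j).left) ∧
      ∀ j, ∃ d : W j ⟶ M, d ≫ μ = c j := by
  obtain ⟨t, ht⟩ := (isCompact_univ : IsCompact (Set.univ : Set ↥T.left)).elim_finite_subcover
    (fun W : M.left.affineOpens => μ.left '' (W.1 : Set ↥M.left))
    (fun W => μ.left.isOpenMap _ W.1.2) (by
      intro x _
      obtain ⟨u, rfl⟩ := μ.left.surjective x
      obtain ⟨W, hW, huW, -⟩ := exists_isAffineOpen_mem_and_subset (U := (⊤ : M.left.Opens)) (x := u) trivial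
      exact Set.mem_iUnion.2 ⟨⟨W, hW⟩, u, huW, rfl⟩)
  let w : Fin t.card → M.left.affineOpens := fun j => (t.equivFin.symm j).1
  let ι : ∀ j, Over.mk ((w j).1.ι ≫ M.hom) ⟶ M := fun j => Over.homMk (w j).1.ι rfl
  refine ⟨t.card, _, fun j => ι j ≫ μ, fun j => (w j).2, fun j => ?_, fun x => ?_, fun j => ⟨ι j, rfl⟩⟩
  · change Flat ((w j).1.ι ≫ μ.left); infer_instance
  · obtain ⟨W, hW, u, hu, hux⟩ := Set.mem_iUnion₂.1 (ht (Set.mem_univ x))
    refine ⟨t.equivFin ⟨W, hW⟩, ?_⟩
    have key : ∀ W₁ : M.left.affineOpens, W₁ = W → x ∈ Set.range (W₁.1.ι ≫ μ.left) := by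
      rintro _ rfl
      exact ⟨⟨u, hu⟩, hux⟩
    exact key _ (by simp [w])

/-- the chart of the base change of an etale morphism -/
theorem exists_etale_chart (hX : IsAlgSpace X) (f : X ⟶ Y) (hf : IsEtaleMor f) {T : Over S}
    {k : (yon S).obj T ⟶ Y} {P : Sp S} {π₁ : P ⟶ X} {π₂ : P ⟶ (yon S).obj T}
    (H : IsPullback π₁ π₂ f k) :
    ∃ (M : Over S) (e : M ⟶ T) (v : (yon S).obj M ⟶ P), Etale e.left ∧ RepWith @Etale v ∧
      Function.Surjective (Points.map v) ∧ v ≫ π₂ = (yon S).map e := by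
  obtain ⟨U, p, hp, hp'⟩ := hX.atlas
  obtain ⟨M, mf, e, sqM, he⟩ := exists_square (hf p hp) k
  obtain ⟨v, hv1, hv2⟩ := H.exists_lift (mf ≫ p) ((yon S).map e) (by rw [Category.assoc]; exact sqM.w)
  rw [← hv2] at sqM
  have sqv : IsPullback v mf π₁ p := IsPullback.of_right sqM.flip hv1 H.flip
  exact ⟨M, e, v, he, MorphismProperty.of_isPullback (P := RepWith @Etale) sqv.flip hp,
    surjective_snd sqv.flip (surjective_of_repWith hp'), hv2⟩

theorem mono_of_etale_univInjective (hX : IsAlgSpace X) (hY : IsAlgSpace Y) (f : X ⟶ Y)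
    (hf : IsEtaleMor f) (hinj : IsUnivInjectiveMor f) : Mono f := by
  refine (mono_iff_diagP hX f).2 fun T a b hab E e0 he0 => ?_
  have H := IsPullback.of_hasPullback f (a ≫ f)
  obtain ⟨M, e, v, he, hv, hvs, hve⟩ := exists_etale_chart hX f hf H
  obtain ⟨R, r₁, r₂, sqR, hr₂⟩ := exists_square hv v
  obtain ⟨r₁, rfl⟩ := (yon S).map_surjective r₁
  have hr₁ : Etale r₁.left := hv.property _ _ _ sqR.flip
  have hre : r₁ ≫ e = r₂ ≫ e := (yon S).map_injective (by
    rw [Functor.map_comp, Functor.map_comp, ← hve, reassoc_of% sqR.w])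
  let j : R ⟶ pullback e e := pullback.lift r₁ r₂ hre
  have hj1 : j ≫ pullback.fst e e = r₁ := pullback.lift_fst _ _ _
  have hj2 : j ≫ pullback.snd e e = r₂ := pullback.lift_snd _ _ _
  have hjm : Mono j := ⟨fun {W} x y hxy => (yon S).map_injective (sqR.hom_ext
    (by rw [← Functor.map_comp, ← Functor.map_comp, ← hj1, reassoc_of% hxy])
    (by rw [← Functor.map_comp, ← Functor.map_comp, ← hj2, reassoc_of% hxy]))⟩
  have : Mono j.left := inferInstanceAs (Mono ((Over.forget S).map j))
  have : Etale j.left := by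
    have : Etale (pullback.fst e e).left :=
      MorphismProperty.of_isPullback (P := @Etale) ((IsPullback.of_hasPullback e e).map (Over.forget S)).flip he
    have : Etale (j.left ≫ (pullback.fst e e).left) := by rw [← Over.comp_left, hj1]; exact hr₁
    exact etale_cancel j.left (pullback.fst e e).left
  have : Surjective j.left := by
    refine ⟨fun w => ?_⟩
    let K := (pullback e e).left.residueField w
    let str := (pullback e e).left.fromSpecResidueField w ≫ (pullback e e).hom
    let σ : Over.mk str ⟶ pullback e e := Over.homMk ((pullback e e).left.fromSpecResidueField w) rfl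
    have he1 : (yon S).map (σ ≫ pullback.fst e e) ≫ v = (yon S).map (σ ≫ pullback.snd e e) ≫ v := by
      apply H.hom_ext
      · apply injective_field_of_points hX f hinj str
        simp only [Category.assoc, H.w, reassoc_of% hve]
        rw [← (yon S).map_comp_assoc, ← (yon S).map_comp_assoc, Category.assoc, Category.assoc, pullback.condition]
      · rw [Category.assoc, Category.assoc, hve, ← Functor.map_comp, ← Functor.map_comp, Category.assoc,
          Category.assoc, pullback.condition]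
    obtain ⟨l, hl1, hl2⟩ := sqR.exists_lift _ _ he1
    obtain ⟨l, rfl⟩ := (yon S).map_surjective l
    have hlj : l ≫ j = σ := by
      apply pullback.hom_ext
      · rw [Category.assoc, hj1]; exact (yon S).map_injective (by rw [Functor.map_comp, hl1])
      · rw [Category.assoc, hj2]; exact (yon S).map_injective (by rw [Functor.map_comp, hl2])
    refine ⟨l.left (IsLocalRing.closedPoint K), ?_⟩
    rw [← Scheme.Hom.comp_apply, ← Over.comp_left, hlj]
    exact Scheme.fromSpecResidueField_apply _ _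
  have : IsIso j := by
    have := IsOpenImmersion.of_flat_of_mono j.left
    have : IsIso j.left := (isIso_iff_isOpenImmersion_and_surjective _).2 ⟨inferInstance, inferInstance⟩
    have : IsIso ((Over.forget S).map j) := this
    exact isIso_of_reflects_iso _ (Over.forget S)
  have hvv : (yon S).map (pullback.fst e e) ≫ v = (yon S).map (pullback.snd e e) ≫ v := by
    apply (cancel_epi ((yon S).map j)).1
    rw [← (yon S).map_comp_assoc, ← (yon S).map_comp_assoc, hj1, hj2, sqR.w]
  -- the two sections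
  obtain ⟨α, hα1, hα2⟩ := H.exists_lift a (𝟙 _) (Category.id_comp _).symm
  obtain ⟨β, hβ1, hβ2⟩ := H.exists_lift b (𝟙 _) (by rw [Category.id_comp, hab])
  obtain ⟨T₁, γ, t₁, sq₁, ht₁⟩ := exists_square hv α
  obtain ⟨T₂, δ, t₂, sq₂, ht₂⟩ := exists_square hv β
  obtain ⟨γ, rfl⟩ := (yon S).map_surjective γ
  obtain ⟨δ, rfl⟩ := (yon S).map_surjective δ
  have hs₁ : Surjective t₁.left := (repWith_surjective_of_points hv.rep hvs).property _ _ _ sq₁
  have hs₂ : Surjective t₂.left := (repWith_surjective_of_points hv.rep hvs).property _ _ _ sq₂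
  let t : pullback t₁ t₂ ⟶ T := pullback.fst t₁ t₂ ≫ t₁
  have hγ : γ ≫ e = t₁ := (yon S).map_injective (by
    rw [Functor.map_comp, ← hve, reassoc_of% sq₁.w, hα2, Category.comp_id])
  have hδ : δ ≫ e = t₂ := (yon S).map_injective (by
    rw [Functor.map_comp, ← hve, reassoc_of% sq₂.w, hβ2, Category.comp_id])
  obtain ⟨μ, hμ1, hμ2⟩ : ∃ μ, μ ≫ pullback.fst e e = pullback.fst t₁ t₂ ≫ γ ∧
      μ ≫ pullback.snd e e = pullback.snd t₁ t₂ ≫ δ :=
    ⟨pullback.lift (pullback.fst t₁ t₂ ≫ γ) (pullback.snd t₁ t₂ ≫ δ) (by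
      rw [Category.assoc, Category.assoc, hγ, hδ, pullback.condition]), pullback.lift_fst _ _ _,
      pullback.lift_snd _ _ _⟩
  have key : (yon S).map t ≫ a = (yon S).map t ≫ b := by
    have h1 := congrArg ((yon S).map μ ≫ ·) hvv
    simp only [← (yon S).map_comp_assoc, hμ1, hμ2] at h1
    simp only [Functor.map_comp, Category.assoc, sq₁.w, sq₂.w] at h1
    have h2 := congrArg (· ≫ pullback.fst f (a ≫ f)) h1
    simp only [Category.assoc, hα1, hβ1] at h2
    simp only [t, Functor.map_comp, Category.assoc, h2]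
    rw [← (yon S).map_comp_assoc, ← (yon S).map_comp_assoc, pullback.condition]
  have := (he0.baseChange t).isIso_of_eq key
  have hsq := (IsPullback.of_hasPullback t₁ t₂).map (Over.forget S)
  have i1 : Etale (pullback.fst t₁ t₂).left := MorphismProperty.of_isPullback (P := @Etale) hsq.flip ht₂
  have i2 : Surjective (pullback.fst t₁ t₂).left := MorphismProperty.of_isPullback (P := @Surjective) hsq.flip hs₂
  have := ht₁
  refine MorphismProperty.of_isPullback_of_descendsAlong (Q := @Surjective ⊓ @Flat ⊓ @LocallyOfFinitePresentation)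
    ((IsPullback.of_hasPullback e0 t).map (Over.forget S)).flip ?_ (inferInstanceAs (IsIso ((Over.forget S).map (pullback.snd e0 t))))
  change ((_ : MorphismProperty _) (pullback.fst t₁ t₂ ≫ t₁).left)
  rw [Over.comp_left]
  exact ⟨⟨inferInstance, inferInstance⟩, inferInstance⟩

theorem repWith_isOpenImmersion_of_etale_mono (hX : IsAlgSpace X) (hY : IsAlgSpace Y) (f : X ⟶ Y)
    (hf : IsEtaleMor f) [Mono f] : RepWith @IsOpenImmersion f := by
  refine MorphismProperty.relative.of_exists fun T g => ?_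
  have H := IsPullback.of_hasPullback f g
  obtain ⟨M, e, v, he, hv, hvs, hve⟩ := exists_etale_chart hX f hf H
  let V : T.left.Opens := ⟨Set.range e.left, e.left.isOpenMap.isOpen_range⟩
  let T0 : Over S := Over.mk (V.ι ≫ T.hom)
  let ι : T0 ⟶ T := Over.homMk V.ι rfl
  have : IsOpenImmersion ι.left := inferInstanceAs (IsOpenImmersion V.ι)
  have : Mono ι := (Over.forget S).mono_of_mono_map (inferInstanceAs (Mono V.ι))
  have hmemV : ∀ (T' : Over S) (k : (yon S).obj T' ⟶ pullback f g) (φ : T' ⟶ T),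
      k ≫ pullback.snd f g = (yon S).map φ → Set.range φ.left ⊆ (V : Set ↥T.left) := by
    rintro T' k φ hk _ ⟨x, rfl⟩
    obtain ⟨m, hm⟩ := surjective_ofPt hvs (Points.ofPt k x)
    refine ⟨m, (Points.schemeEquiv T).injective ?_⟩
    change Points.ofScheme T _ = Points.ofScheme T _
    rw [← ofPt_map, ← ofPt_map, ← hve, ← hk, ← Points.map_ofPt, hm, Points.map_ofPt]
  have hP : IsAlgSpace (pullback f g) := isAlgSpace_pullback hX hY (IsAlgSpace.yon_obj T) f g
  have sqQ := IsPullback.of_hasPullback (pullback.snd f g) ((yon S).map ι)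
  have hQ : IsAlgSpace (pullback (pullback.snd f g) ((yon S).map ι)) :=
    isAlgSpace_pullback hP (IsAlgSpace.yon_obj _) (IsAlgSpace.yon_obj _) _ _
  have i1 : IsIso (pullback.fst (pullback.snd f g) ((yon S).map ι)) := by
    refine isIso_of_mono_of_fpqc_lift hQ hP _ fun T' hT' k => ?_
    obtain ⟨φ, hφ⟩ := (yon S).map_surjective (k ≫ pullback.snd f g)
    have hr : Set.range φ.left ⊆ Set.range V.ι := by
      rw [Scheme.Opens.range_ι]; exact hmemV T' k φ hφ.symm
    let φ' : T' ⟶ T0 := Over.homMk (IsOpenImmersion.lift V.ι φ.left hr) (by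
      change IsOpenImmersion.lift V.ι φ.left hr ≫ V.ι ≫ T.hom = _
      rw [IsOpenImmersion.lift_fac_assoc, Over.w φ])
    have hφ' : φ' ≫ ι = φ := by ext; exact IsOpenImmersion.lift_fac V.ι φ.left hr
    obtain ⟨l, hl, -⟩ := sqQ.exists_lift k ((yon S).map φ') (by rw [← Functor.map_comp, hφ', hφ])
    exact ⟨1, fun _ => T', fun _ => 𝟙 _, fun _ => hT', fun _ => inferInstanceAs (Flat (𝟙 _)),
      fun t => ⟨0, t, rfl⟩, fun _ => ⟨l, by simpa using hl⟩⟩
  have i2 : IsIso (pullback.snd (pullback.snd f g) ((yon S).map ι)) := by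
    refine isIso_of_mono_of_fpqc_lift hQ (IsAlgSpace.yon_obj _) _ fun T' hT' k => ?_
    obtain ⟨φ, rfl⟩ := (yon S).map_surjective k
    have := hT'
    have hsq := (IsPullback.of_hasPullback (φ ≫ ι) e).map (Over.forget S)
    have : Etale (pullback.fst (φ ≫ ι) e).left := MorphismProperty.of_isPullback (P := @Etale) hsq.flip he
    have : Surjective (pullback.fst (φ ≫ ι) e).left := by
      refine ⟨fun x => ?_⟩
      obtain ⟨m, hm⟩ := (φ.left x).2
      obtain ⟨z, hz, -⟩ := Scheme.Pullback.exists_preimage_pullback (f := (φ ≫ ι).left) (g := e.left) x m hm.symm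
      refine ⟨(hsq.isoPullback).inv z, ?_⟩
      rw [← hz]
      exact congrArg (fun q : pullback (φ ≫ ι).left e.left ⟶ T'.left => q z) hsq.isoPullback_inv_fst
    obtain ⟨n, W, c, hW, hc, hs, hd⟩ := exists_affine_refinement (pullback.fst (φ ≫ ι) e)
    refine ⟨n, W, c, hW, hc, hs, fun i => ?_⟩
    obtain ⟨d, hd⟩ := hd i
    obtain ⟨l, hl1, hl2⟩ := sqQ.exists_lift ((yon S).map (d ≫ pullback.snd (φ ≫ ι) e) ≫ v)
      ((yon S).map (c i ≫ φ)) (by
        rw [Category.assoc, hve, ← Functor.map_comp, ← Functor.map_comp]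
        congr 1
        rw [Category.assoc, ← pullback.condition, reassoc_of% hd, Category.assoc])
    exact ⟨l, by rw [hl2, Functor.map_comp]⟩
  refine ⟨T0, inv (pullback.snd (pullback.snd f g) ((yon S).map ι)) ≫
      pullback.fst (pullback.snd f g) ((yon S).map ι) ≫ pullback.fst f g, ι, ?_, inferInstanceAs (IsOpenImmersion V.ι)⟩
  refine IsPullback.of_iso H ((asIso (pullback.fst (pullback.snd f g) ((yon S).map ι))).symm ≪≫
    asIso (pullback.snd (pullback.snd f g) ((yon S).map ι))) (Iso.refl _) (Iso.refl _) (Iso.refl _)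
    (by simp) ?_ (by simp) (by simp)
  simp [← sqQ.w]

theorem repWith_isOpenImmersion_of_etale_univInjective (hX : IsAlgSpace X) (hY : IsAlgSpace Y) (f : X ⟶ Y)
    (hf : IsEtaleMor f) (hinj : IsUnivInjectiveMor f) : RepWith @IsOpenImmersion f :=
  have := mono_of_etale_univInjective hX hY f hf hinj
  repWith_isOpenImmersion_of_etale_mono hX hY f hf

/-- representable monomorphisms are monomorphisms of sheaves -/
theorem mono_of_repWith (f : X ⟶ Y) {P : MorphismProperty Scheme.{u}} (hf : RepWith P f)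
    (hP : ∀ ⦃A B : Scheme.{u}⦄ (g : A ⟶ B), P g → Mono g) : Mono f := by
  refine ⟨fun {Z} a b hab => ?_⟩
  ext ⟨T⟩ x
  obtain ⟨c, rfl⟩ := (GrothendieckTopology.uliftYonedaEquiv.{u+1} (J S)).surjective x
  obtain ⟨E, fst, snd, sq, hs⟩ := exists_square hf (c ≫ a ≫ f)
  obtain ⟨σ, hσ1, hσ2⟩ := sq.exists_lift (c ≫ a) (𝟙 _) (by rw [Category.assoc, Category.id_comp])
  obtain ⟨τ, hτ1, hτ2⟩ := sq.exists_lift (c ≫ b) (𝟙 _) (by rw [Category.assoc, Category.id_comp, hab])
  obtain ⟨σ, rfl⟩ := (yon S).map_surjective σ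
  obtain ⟨τ, rfl⟩ := (yon S).map_surjective τ
  have : Mono snd := (Over.forget S).mono_of_mono_map (hP _ hs)
  have e : σ = τ := (cancel_mono snd).1 ((yon S).map_injective (by simp only [Functor.map_comp, hσ2, hτ2]))
  have e1 : c ≫ a = c ≫ b := by rw [← hσ1, ← hτ1, e]
  have h2 := congrArg (GrothendieckTopology.uliftYonedaEquiv.{u+1} (J S)) e1
  rwa [GrothendieckTopology.uliftYonedaEquiv_comp, GrothendieckTopology.uliftYonedaEquiv_comp] at h2

end AlgSpTopo
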