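import Mathlib
import Groth.Agent.AlgSpTopo.OpenImm

/-! The open subspace of an algebraic space attached to an open set of points. -/

set_option autoImplicit false
set_option backward.isDefEq.respectTransparency false
universe u
open CategoryTheory CategoryTheory.Limits AlgebraicGeometry Opposite

namespace AlgSpTopo
open AlgSp

variable {S : Scheme.{u}} {X Y Z : Sp S}

/-- covering sieves of the fppf topology are jointly surjective -/
theorem surjective_of_mem_J {T : Over S} {R : Sieve T} (hR : R ∈ J S T) (t : ↥T.left) :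
    ∃ (V : Over S) (g : V ⟶ T), R g ∧ t ∈ Set.range g.left := by
  rw [J_eq, GrothendieckTopology.mem_over_iff] at hR
  have : ((@Flat ⊓ @LocallyOfFinitePresentation : MorphismProperty Scheme.{u})).ContainsIdentities :=
    ⟨fun _ => ⟨inferInstance, inferInstance⟩⟩
  have : Scheme.fppfPrecoverage.{u}.HasIsos := by unfold Scheme.fppfPrecoverage; infer_instance
  obtain ⟨R', hR', hle⟩ := Precoverage.mem_toGrothendieck_iff_of_isStableUnderComposition.1 hR
  obtain ⟨ι, V, g, rfl⟩ := Presieve.exists_eq_ofArrows R'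
  obtain ⟨i, hi⟩ := ((Scheme.ofArrows_mem_precoverage_iff _).1 hR').1 t
  have hk := (Sieve.overEquiv_iff _ _).1 (hle _ _ (Presieve.ofArrows.mk i))
  exact ⟨_, _, hk, hi⟩

/-- a morphism of sheaves bijective on maps from representables is an isomorphism -/
theorem isIso_of_bijective_yon {A B : Sp S} (φ : A ⟶ B)
    (inj : ∀ (U : Over S) (a b : (yon S).obj U ⟶ A), a ≫ φ = b ≫ φ → a = b)
    (surj : ∀ (U : Over S) (k : (yon S).obj U ⟶ B), ∃ l, l ≫ φ = k) : IsIso φ := by
  have : ∀ U, IsIso (φ.hom.app U) := fun ⟨U⟩ => by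
    rw [isIso_iff_bijective]
    constructor
    · intro x y hxy
      obtain ⟨a, rfl⟩ := (GrothendieckTopology.uliftYonedaEquiv.{u+1} (J S)).surjective x
      obtain ⟨b, rfl⟩ := (GrothendieckTopology.uliftYonedaEquiv.{u+1} (J S)).surjective y
      refine congrArg _ (inj U a b ((GrothendieckTopology.uliftYonedaEquiv.{u+1} (J S)).injective ?_))
      rw [GrothendieckTopology.uliftYonedaEquiv_comp, GrothendieckTopology.uliftYonedaEquiv_comp]
      exact hxy
    · intro y
      obtain ⟨k, rfl⟩ := (GrothendieckTopology.uliftYonedaEquiv.{u+1} (J S)).surjective y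
      obtain ⟨l, rfl⟩ := surj U k
      exact ⟨_, (GrothendieckTopology.uliftYonedaEquiv_comp.{u+1} (J S) l φ).symm⟩
  have : IsIso φ.hom := NatIso.isIso_of_isIso_app _
  have : IsIso ((sheafToPresheaf (J S) (Type (u+1))).map φ) := this
  exact isIso_of_reflects_iso φ (sheafToPresheaf _ _)

/-- maps landing in an open subscheme factor -/
theorem exists_lift_opens {U T : Over S} (φ : U ⟶ T) (V : T.left.Opens) (h : ∀ x, φ.left x ∈ V) :
    ∃ φ' : U ⟶ Over.mk (V.ι ≫ T.hom), φ' ≫ (Over.homMk V.ι rfl : Over.mk (V.ι ≫ T.hom) ⟶ T) = φ := by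
  have hr : Set.range φ.left ⊆ Set.range V.ι := by
    rw [Scheme.Opens.range_ι]; rintro _ ⟨x, rfl⟩; exact h x
  refine ⟨Over.homMk (IsOpenImmersion.lift V.ι φ.left hr) ?_, ?_⟩
  · change IsOpenImmersion.lift V.ι φ.left hr ≫ V.ι ≫ T.hom = _
    rw [IsOpenImmersion.lift_fac_assoc, Over.w φ]
  · ext; exact IsOpenImmersion.lift_fac V.ι φ.left hr

/-- the presheaf of sections whose points lie in `W` -/
def openPresheaf (X : Sp S) (W : Set (Points X)) : Subfunctor X.obj where
  obj T := {x | ∀ t : ↥T.unop.left, Points.ofPt ((GrothendieckTopology.uliftYonedaEquiv.{u+1} (J S)).symm x) t ∈ W}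
  map {T T'} g x hx t := by
    have e : (GrothendieckTopology.uliftYonedaEquiv.{u+1} (J S)).symm (X.obj.map g x) =
        (yon S).map g.unop ≫ (GrothendieckTopology.uliftYonedaEquiv.{u+1} (J S)).symm x := by
      apply (GrothendieckTopology.uliftYonedaEquiv.{u+1} (J S)).injective
      rw [Equiv.apply_symm_apply, ← GrothendieckTopology.uliftYonedaEquiv_naturality, Equiv.apply_symm_apply]
      rfl
    rw [e, ofPt_comp]
    exact hx _

theorem openPresheaf_isSheaf (X : Sp S) (W : Set (Points X)) :
    Presieve.IsSheaf (J S) (openPresheaf X W).toFunctor := by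
  refine (Subfunctor.isSheaf_iff _ ((isSheaf_iff_isSheaf_of_type _ _).1 X.property)).2 fun U s hs t => ?_
  obtain ⟨V, g, hg, z, rfl⟩ := surjective_of_mem_J hs t
  have h := hg z
  have e : (GrothendieckTopology.uliftYonedaEquiv.{u+1} (J S)).symm (X.obj.map g.op s) =
      (yon S).map g ≫ (GrothendieckTopology.uliftYonedaEquiv.{u+1} (J S)).symm s := by
    apply (GrothendieckTopology.uliftYonedaEquiv.{u+1} (J S)).injective
    rw [Equiv.apply_symm_apply, ← GrothendieckTopology.uliftYonedaEquiv_naturality, Equiv.apply_symm_apply]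
  rw [e, ofPt_comp] at h
  exact h

/-- the open subspace -/
def openSub (X : Sp S) (W : Set (Points X)) : Sp S :=
  ⟨(openPresheaf X W).toFunctor, (isSheaf_iff_isSheaf_of_type _ _).2 (openPresheaf_isSheaf X W)⟩

/-- its inclusion -/
def openSubι (X : Sp S) (W : Set (Points X)) : openSub X W ⟶ X := ⟨(openPresheaf X W).ι⟩

instance (X : Sp S) (W : Set (Points X)) : Mono (openSubι X W) := by
  have : Mono ((sheafToPresheaf _ _).map (openSubι X W)) := inferInstanceAs (Mono (openPresheaf X W).ι)
  exact (sheafToPresheaf _ _).mono_of_mono_map this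

theorem ofPt_openSubι_mem (W : Set (Points X)) {T : Over S} (l : (yon S).obj T ⟶ openSub X W) (t : ↥T.left) :
    Points.ofPt (l ≫ openSubι X W) t ∈ W := by
  have h := ((GrothendieckTopology.uliftYonedaEquiv.{u+1} (J S)) l).2 t
  have e : ((GrothendieckTopology.uliftYonedaEquiv.{u+1} (J S)) l).1 =
      (GrothendieckTopology.uliftYonedaEquiv.{u+1} (J S)) (l ≫ openSubι X W) := by
    rw [GrothendieckTopology.uliftYonedaEquiv_comp]; rfl
  rwa [e, Equiv.symm_apply_apply] at h

theorem exists_lift_openSub {W : Set (Points X)} {T : Over S} (k : (yon S).obj T ⟶ X)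
    (h : ∀ t, Points.ofPt k t ∈ W) : ∃ l, l ≫ openSubι X W = k := by
  refine ⟨(GrothendieckTopology.uliftYonedaEquiv.{u+1} (J S)).symm
    (⟨(GrothendieckTopology.uliftYonedaEquiv.{u+1} (J S)) k, fun t => by
      rw [Equiv.symm_apply_apply]; exact h t⟩ : (openPresheaf X W).toFunctor.obj (op T)), ?_⟩
  apply (GrothendieckTopology.uliftYonedaEquiv.{u+1} (J S)).injective
  rw [GrothendieckTopology.uliftYonedaEquiv_comp]
  erw [Equiv.apply_symm_apply]
  rfl

theorem repWith_openSubι {W : Set (Points X)} (hW : IsOpen W) :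
    RepWith @IsOpenImmersion (openSubι X W) := by
  refine MorphismProperty.relative.of_exists fun T g => ?_
  let V : T.left.Opens := ⟨_, Points.isOpen_iff.1 hW T g⟩
  let ι : Over.mk (V.ι ≫ T.hom) ⟶ T := Over.homMk V.ι rfl
  have : IsOpenImmersion ι.left := inferInstanceAs (IsOpenImmersion V.ι)
  have : Mono ι := (Over.forget S).mono_of_mono_map (inferInstanceAs (Mono V.ι))
  obtain ⟨fst, hfst⟩ := exists_lift_openSub ((yon S).map ι ≫ g) (W := W) fun t => by
    rw [ofPt_comp]; exact t.2
  have H := IsPullback.of_hasPullback (openSubι X W) g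
  obtain ⟨φ, hφ1, hφ2⟩ := H.exists_lift fst ((yon S).map ι) hfst
  have : IsIso φ := by
    refine isIso_of_bijective_yon φ (fun U a b hab => ?_) fun U k => ?_
    · have := congrArg (· ≫ pullback.snd (openSubι X W) g) hab
      simp only [Category.assoc, hφ2] at this
      exact (cancel_mono _).1 this
    · obtain ⟨ψ, hψ⟩ := (yon S).map_surjective (k ≫ pullback.snd (openSubι X W) g)
      obtain ⟨ψ', hψ'⟩ := exists_lift_opens ψ V fun x => by
        change Points.ofPt g (ψ.left x) ∈ W
        rw [← ofPt_comp, hψ, Category.assoc, ← H.w, ← Category.assoc]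
        exact ofPt_openSubι_mem W _ x
      refine ⟨(yon S).map ψ', H.hom_ext ?_ ?_⟩
      · rw [← cancel_mono (openSubι X W)]
        simp only [Category.assoc, H.w]
        rw [reassoc_of% hφ2, ← Functor.map_comp_assoc, hψ', hψ, Category.assoc]
      · rw [Category.assoc, hφ2, ← Functor.map_comp, hψ', hψ]
  refine ⟨Over.mk (V.ι ≫ T.hom), fst, ι, ?_, inferInstanceAs (IsOpenImmersion V.ι)⟩
  exact IsPullback.of_iso H (asIso φ).symm (Iso.refl _) (Iso.refl _) (Iso.refl _)
    (by simp [← hφ1]) (by simp [← hφ2]) (by simp) (by simp)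

theorem range_openSubι (W : Set (Points X)) : Set.range (Points.map (openSubι X W)) = W := by
  refine Set.Subset.antisymm ?_ fun x hx => ?_
  · rintro _ ⟨y, rfl⟩
    obtain ⟨T, _, h, t, rfl⟩ := exists_ofPt y
    rw [Points.map_ofPt]
    exact ofPt_openSubι_mem W h t
  · obtain ⟨T, _, h, t, rfl⟩ := exists_ofPt x
    let Ω : Over S := Over.mk (T.left.fromSpecResidueField t ≫ T.hom)
    let φ : Ω ⟶ T := Over.homMk (T.left.fromSpecResidueField t) rfl
    have hpt : ∀ z, φ.left z = t := fun z => by
      have : φ.left z ∈ Set.range (T.left.fromSpecResidueField t) := ⟨z, rfl⟩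
      rwa [Scheme.range_fromSpecResidueField, Set.mem_singleton_iff] at this
    obtain ⟨l, hl⟩ := exists_lift_openSub ((yon S).map φ ≫ h) (W := W) fun z => by
      rw [ofPt_comp, hpt]; exact hx
    refine ⟨Points.ofPt l (IsLocalRing.closedPoint (T.left.residueField t)), ?_⟩
    rw [Points.map_ofPt, hl, ofPt_comp, hpt]

/-- a representable mono into an algebraic space has algebraic space source -/
theorem isAlgSpace_of_mono (hX : IsAlgSpace X) (j : Z ⟶ X) [Mono j] (hj : Representable j) :
    IsAlgSpace Z where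
  diag := by
    intro T h
    obtain ⟨E, e, _, he, hl⟩ := exists_equalizer hX (h ≫ prod.fst ≫ j) (h ≫ prod.snd ≫ j)
    have he' : (yon S).map e ≫ h ≫ prod.fst = (yon S).map e ≫ h ≫ prod.snd := by
      rw [← cancel_mono j]; simpa using he
    have w : ((yon S).map e ≫ h ≫ prod.fst) ≫ Limits.diag Z = (yon S).map e ≫ h := by
      apply prod.hom_ext
      · simp
      · simpa using he'
    refine ⟨E, e, (yon S).map e ≫ h ≫ prod.fst, IsPullback.of_isLimit' ⟨w⟩ ?_⟩
    have key : ∀ s : PullbackCone (Limits.diag Z) h,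
        ∃ l, l ≫ (yon S).map e = s.snd ∧ l ≫ (yon S).map e ≫ h ≫ prod.fst = s.fst := by
      intro s
      have hf : s.fst = s.snd ≫ h ≫ prod.fst := by
        have := congrArg (· ≫ prod.fst) s.condition
        simpa using this
      have hs : s.fst = s.snd ≫ h ≫ prod.snd := by
        have := congrArg (· ≫ prod.snd) s.condition
        simpa using this
      obtain ⟨l, hl'⟩ := hl s.snd (by
        calc _ = (s.snd ≫ h ≫ prod.fst) ≫ j := by simp
          _ = _ := by rw [← hf, hs]; simp)
      exact ⟨l, hl', by rw [reassoc_of% hl', hf]⟩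
    choose l hl1 hl2 using key
    exact PullbackCone.IsLimit.mk _ l hl2 hl1 fun s m _ hm =>
      (cancel_mono ((yon S).map e)).1 (hm.trans (hl1 s).symm)
  atlas := by
    obtain ⟨U, p, hp, hps⟩ := hX.atlas
    have sq := hj.isPullback p
    exact ⟨_, _, MorphismProperty.of_isPullback (P := RepWith @Etale) sq.flip hp,
      MorphismProperty.of_isPullback (P := RepWith @Surjective) sq.flip hps⟩

theorem isAlgSpace_openSub (hX : IsAlgSpace X) {W : Set (Points X)} (hW : IsOpen W) :
    IsAlgSpace (openSub X W) :=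
  isAlgSpace_of_mono hX (openSubι X W) (repWith_openSubι hW).rep

/-- factorisation through an open immersion -/
theorem exists_lift_of_range_subset {j : Z ⟶ X} (hj : RepWith @IsOpenImmersion j) (f : Y ⟶ X)
    (h : Set.range (Points.map f) ⊆ Set.range (Points.map j)) : ∃ g, g ≫ j = f := by
  have := mono_of_repWith j hj fun _ _ g hg => inferInstance
  have H := IsPullback.of_hasPullback j f
  have : IsIso (pullback.snd j f) := by
    refine isIso_of_bijective_yon _ (fun U a b hab => (cancel_mono _).1 hab) fun U k => ?_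
    obtain ⟨E, efst, e, sqE, he⟩ := exists_square hj (k ≫ f)
    have : IsOpenImmersion e.left := he
    have hs : Surjective e.left := ⟨fun x => by
      obtain ⟨z, hz⟩ := h ⟨Points.ofPt k x, rfl⟩
      obtain ⟨w, -, hw⟩ := points_surj sqE z (Points.ofScheme U x) (by
        rw [hz, ← Points.ofPt_eq_map_ofScheme]; rfl)
      obtain ⟨v, rfl⟩ := ofScheme_surjective E w
      rw [map_ofScheme] at hw
      exact ⟨v, (Points.schemeHomeo U).injective hw⟩⟩
    have : IsIso ((Over.forget S).map e) :=
      (isIso_iff_isOpenImmersion_and_epi_base e.left).2 ⟨inferInstance, (TopCat.epi_iff_surjective _).2 hs.surj⟩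
    have : IsIso e := isIso_of_reflects_iso _ (Over.forget S)
    obtain ⟨l, hl1, hl2⟩ := H.exists_lift (inv ((yon S).map e) ≫ efst) k (by
      rw [Category.assoc, sqE.w, IsIso.inv_hom_id_assoc])
    exact ⟨l, hl2⟩
  exact ⟨inv (pullback.snd j f) ≫ pullback.fst j f, by rw [Category.assoc, H.w, IsIso.inv_hom_id_assoc]⟩

end AlgSpTopo
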