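import Mathlib
import Groth.Agent.AlgSpTopo.OpenSub
import Groth.Agent.AlgSpTopo.LocInst
import Groth.Prelude.Def_AlgSpDec

/-! `LocP P` near a point and open subspaces. -/

set_option autoImplicit false
set_option backward.isDefEq.respectTransparency false
universe u
open CategoryTheory CategoryTheory.Limits AlgebraicGeometry Opposite

namespace AlgSpTopo
open AlgSp

variable {S : Scheme.{u}} {P : MorphismProperty Scheme.{u}} {X Y Z : Sp S}

theorem repWith_etale_of_openImm {j : Z ⟶ X} (hj : RepWith @IsOpenImmersion j) : RepWith @Etale j :=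
  ⟨hj.rep, fun _ _ k fst snd sq => by
    have : IsOpenImmersion snd.left := hj.property k fst snd sq
    change Etale snd.left
    infer_instance⟩

theorem isEtaleMor_of_openImm {j : Z ⟶ X} (hj : RepWith @IsOpenImmersion j) : IsEtaleMor j :=
  fun _ φ hφ => MorphismProperty.comp_mem _ φ j hφ (repWith_etale_of_openImm hj)

/-- near a point where one chart has `P` there is an open subspace on which `f` has `P` -/
theorem exists_openSub_locP (hP : EtaleLocal P) (hX : IsAlgSpace X) (f : X ⟶ Y) (x : Points X)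
    (h : HasAtMor (fun U _ h u => ∃ W : U.Opens, u ∈ W ∧ P (W.ι ≫ h)) f x) :
    ∃ O : Set (Points X), IsOpen O ∧ x ∈ O ∧ LocP P (openSubι X O ≫ f) := by
  obtain ⟨U, V, a, b, h, u, ha, hb, comm, rfl, W, huW, hW⟩ := h
  let U' : Over S := Over.mk (W.ι ≫ U.hom)
  let i : U' ⟶ U := Over.homMk W.ι rfl
  have hi : Etale i.left := inferInstanceAs (Etale W.ι)
  let a' : (yon S).obj U' ⟶ X := (yon S).map i ≫ a
  have ha' : RepWith @Etale a' := MorphismProperty.comp_mem _ _ _ ((repWith_yon_map_iff _ _).2 hi) ha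
  let O : Set (Points X) := Set.range (Points.ofPt a')
  have hO : IsOpen O := (isOpenMap_ofPt ha').isOpen_range
  refine ⟨O, hO, ⟨⟨u, huW⟩, by rw [ofPt_comp]; rfl⟩, ?_⟩
  obtain ⟨a'', ha''⟩ := exists_lift_openSub a' (W := O) fun t => ⟨t, rfl⟩
  have kp : IsPullback (𝟙 (openSub X O)) (𝟙 _) (openSubι X O) (openSubι X O) := IsKernelPair.id_of_mono _
  have sq : IsPullback (𝟙 _) a'' a' (openSubι X O) := by
    simpa [ha''] using (IsPullback.of_id_fst (f := a'')).paste_vert kp
  have hae : RepWith @Etale a'' := MorphismProperty.of_isPullback (P := RepWith @Etale) sq ha'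
  have has : RepWith @Surjective a'' := repWith_surjective_of_points hae.rep fun y => by
    have hy : Points.map (openSubι X O) y ∈ O := (range_openSubι O).le ⟨y, rfl⟩
    obtain ⟨t, ht⟩ := hy
    obtain ⟨w, hw1, hw2⟩ := points_surj kp y (Points.ofPt a'' t) (by rw [Points.map_ofPt, ha'', ht])
    exact ⟨Points.ofScheme U' t, by rw [← Points.ofPt_eq_map_ofScheme, ← hw2, hw1]⟩
  exact one_chart hP (openSubι X O ≫ f) a'' b (i ≫ h) hae has hb
    (by rw [← Category.assoc, ha'', Category.assoc, comm, Functor.map_comp, Category.assoc]) hW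

/-- `P` on an open subspace through `x` gives a chart near `x` -/
theorem hasAtMor_of_openImm [P.RespectsIso] (hX' : IsAlgSpace Z) (hY : IsAlgSpace Y) (f : X ⟶ Y) {j : Z ⟶ X}
    (hj : RepWith @IsOpenImmersion j) (x : Points X) (hx : x ∈ Set.range (Points.map j)) (h : LocP P (j ≫ f)) :
    HasAtMor (fun U _ h u => ∃ W : U.Opens, u ∈ W ∧ P (W.ι ≫ h)) f x := by
  obtain ⟨V, b, hb, hbs⟩ := hY.atlas
  obtain ⟨M, T', m, e, a, -, -, ha, has, comm⟩ := exists_atlas_chart hX' hY (j ≫ f) (locP_top _) hb hbs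
  obtain ⟨y, rfl⟩ := hx
  obtain ⟨u, rfl⟩ := surjective_ofPt (surjective_of_repWith has) y
  refine ⟨M, V, a ≫ j, b, m ≫ e, u, MorphismProperty.comp_mem _ _ _ ha (repWith_etale_of_openImm hj), hb,
    by rw [Category.assoc, comm], by rw [Points.map_ofPt], ⊤, trivial, ?_⟩
  rw [← Scheme.topIso_hom]
  exact (P.cancel_left_of_respectsIso _ _).2 (h a b _ ha hb comm)

theorem locP_of_forall_hasAtMor (hP : EtaleLocal P) [IsZariskiLocalAtSource P] (hX : IsAlgSpace X)
    (hY : IsAlgSpace Y) (f : X ⟶ Y)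
    (h : ∀ x, HasAtMor (fun U _ h u => ∃ W : U.Opens, u ∈ W ∧ P (W.ι ≫ h)) f x) : LocP P f := by
  obtain ⟨U, p, hp, hps⟩ := hX.atlas
  choose O hO hxO hOP using fun u : ↥U.left => exists_openSub_locP hP hX f _ (h (Points.ofPt p u))
  refine (isLocalOnSource_etale hP (fun u => openSub X (O u)) (fun u => openSubι X (O u)) hX
    (fun u => isAlgSpace_openSub hX (hO u))
    ⟨fun u => isEtaleMor_of_openImm (repWith_openSubι (hO u)), fun x => ?_⟩ f hY).2 hOP
  obtain ⟨u, rfl⟩ := surjective_ofPt (surjective_of_repWith hps) x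
  exact ⟨u, by rw [range_openSubι]; exact hxO u⟩

theorem hasAtMor_of_locP (hX : IsAlgSpace X) (hY : IsAlgSpace Y) [P.RespectsIso] (f : X ⟶ Y) (h : LocP P f)
    (x : Points X) : HasAtMor (fun U _ h u => ∃ W : U.Opens, u ∈ W ∧ P (W.ι ≫ h)) f x := by
  obtain ⟨V, b, hb, hbs⟩ := hY.atlas
  obtain ⟨M, T', m, e, a, -, -, ha, has, comm⟩ := exists_atlas_chart hX hY f (locP_top _) hb hbs
  obtain ⟨u, rfl⟩ := surjective_ofPt (surjective_of_repWith has) x
  refine ⟨M, V, a, b, m ≫ e, u, ha, hb, comm, rfl, ⊤, trivial, ?_⟩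
  rw [← Scheme.topIso_hom]
  exact (P.cancel_left_of_respectsIso _ _).2 (h a b _ ha hb comm)

theorem zlas_of_iff {P Q : MorphismProperty Scheme.{u}} (hQ : IsZariskiLocalAtSource Q)
    (h : ∀ ⦃A B : Scheme.{u}⦄ (g : A ⟶ B), P g ↔ Q g) : IsZariskiLocalAtSource P := by
  obtain rfl : P = Q := MorphismProperty.ext _ _ fun _ _ g => h g
  exact hQ

theorem zlas_cases (P : MorphismProperty Scheme.{u})
    (hP : P = @LocallyOfFiniteType ∨ P = @LocallyOfFinitePresentation ∨ P = @Flat ∨ P = @Smooth ∨ P = @Etale ∨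
      (∀ ⦃A B : Scheme.{u}⦄ (g : A ⟶ B), P g ↔ (LocallyQuasiFinite g ∧ LocallyOfFiniteType g)) ∨
      (∀ ⦃A B : Scheme.{u}⦄ (g : A ⟶ B), P g ↔ (LocallyOfFiniteType g ∧ FormallyUnramified g))) :
    IsZariskiLocalAtSource P := by
  rcases hP with rfl | rfl | rfl | rfl | rfl | h | h
  · infer_instance
  · infer_instance
  · infer_instance
  · infer_instance
  · infer_instance
  · exact zlas_of_iff
      (inferInstance : IsZariskiLocalAtSource ((@LocallyQuasiFinite : MorphismProperty Scheme.{u}) ⊓ @LocallyOfFiniteType)) h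
  · exact zlas_of_iff
      (inferInstance : IsZariskiLocalAtSource ((@LocallyOfFiniteType : MorphismProperty Scheme.{u}) ⊓ @FormallyUnramified)) h

end AlgSpTopo
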