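import Mathlib
import Groth.Agent.AlgSpTopo.OpenSubLoc
import Groth.Prelude.Def_AlgSpCov

/-! Smooth and etale-smooth local properties of morphisms of algebraic spaces. -/

set_option autoImplicit false
set_option backward.isDefEq.respectTransparency false
universe u
open CategoryTheory CategoryTheory.Limits AlgebraicGeometry Opposite

namespace AlgSpTopo
open AlgSp

variable {S : Scheme.{u}} {P : MorphismProperty (Sp S)} {X Y Z : Sp S}

theorem locP_cancel_etale {R : MorphismProperty Scheme.{u}} (hR : EtaleLocal R) (hX : IsAlgSpace X)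
    (hY : IsAlgSpace Y) (hZ : IsAlgSpace Z) (f : X ⟶ Y) (g : Y ⟶ Z) (hg : LocP @Etale g)
    (h : LocP R (f ≫ g)) : LocP R f := by
  obtain ⟨W, c, hcW, hcs⟩ := hZ.atlas
  obtain ⟨M2, T2, m2, e2, a2, hm2, he2, ha2, ha2s, comm2⟩ := exists_atlas_chart hY hZ g hg hcW hcs
  obtain ⟨M1, T1, m1, e1, a1, -, -, ha1, ha1s, comm1⟩ := exists_atlas_chart hX hY f (locP_top f) ha2 ha2s
  have : Etale m2.left := hm2
  have : Etale e2.left := he2
  refine one_chart hR f a1 a2 (m1 ≫ e1) ha1 ha1s ha2 comm1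
    (hR.cancel _ (m2 ≫ e2).left (by rw [Over.comp_left]; infer_instance) ?_)
  rw [← Over.comp_left]
  exact h a1 c _ ha1 hcW (by rw [← Category.assoc, comm1, Category.assoc, comm2, ← Category.assoc, ← Functor.map_comp])

theorem isEtaleMor_id : IsEtaleMor (𝟙 X) := fun _ φ hφ => by simpa using hφ

theorem locP_id {R : MorphismProperty Scheme.{u}} (hR : EtaleLocal R) : LocP R (𝟙 X) :=
  locP_mono hR.of_etale (locP_etale_of_isEtaleMor _ isEtaleMor_id)

theorem smooth_of_isEtaleMor {f : X ⟶ Y} (hf : IsEtaleMor f) : LocP @Smooth f :=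
  locP_mono etaleLocal_smooth.of_etale (locP_etale_of_isEtaleMor f hf)

theorem surjective_id : IsSurjectiveMor (𝟙 X) := fun x => ⟨x, Points.map_id x⟩

/-- a square of pullback along the identity -/
theorem isPullback_id (f : X ⟶ Y) : IsPullback (𝟙 X) f f (𝟙 Y) := IsPullback.of_id_fst

namespace SmoothST

variable (hP : IsSmoothLocalST P)
include hP

theorem postcomp (hX : IsAlgSpace X) (hY : IsAlgSpace Y) (hZ : IsAlgSpace Z) (f : X ⟶ Y) (g : Y ⟶ Z)
    (hf : P f) (hg : LocP @Smooth g) : P (f ≫ g) :=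
  (hP.locality hX hZ (f ≫ g)).2 fun x =>
    ⟨X, Y, 𝟙 X, g, f, x, hX, hY, locP_id etaleLocal_smooth, hg, Category.id_comp _, Points.map_id x, hf⟩

theorem localSource : IsLocalOnSource (IsSmCover (S := S)) P := by
  intro ι X Xi g hX hXi hcov Y f hY
  refine ⟨fun h i => hP.precomp (hXi i) hX hY (g i) f (hcov.1 i) h, fun h => (hP.locality hX hY f).2 fun x => ?_⟩
  obtain ⟨i, y, hy⟩ := hcov.2 x
  exact ⟨Xi i, Y, g i, 𝟙 Y, g i ≫ f, y, hXi i, hY, hcov.1 i, locP_id etaleLocal_smooth,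
    (Category.comp_id _).symm, hy, h i⟩

theorem localBase : IsLocalOnBase (IsSmCover (S := S)) P := by
  intro ι Y Yi g hY hYi hcov X f hX Xi p q hXi sqs
  refine ⟨fun h i => hP.baseChange hX hY (hXi i) (hYi i) f (g i) (p i) (q i) (sqs i) (hcov.1 i) h,
    fun h => (hP.locality hX hY f).2 fun x => ?_⟩
  obtain ⟨i, z, hz⟩ := hcov.2 (Points.map f x)
  obtain ⟨w, hw, -⟩ := points_surj (sqs i) x z hz.symm
  exact ⟨Xi i, Yi i, q i, g i, p i, w, hXi i, hYi i,
    locP_bc etaleLocal_smooth (hYi i) hY hX (sqs i).flip (hcov.1 i), hcov.1 i, (sqs i).w, hw, h i⟩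

end SmoothST

/-- converse: source, base, post composition -/
theorem isSmoothLocalST_of_local (h1 : IsLocalOnSource (IsSmCover (S := S)) P)
    (h2 : IsLocalOnBase (IsSmCover (S := S)) P)
    (h3 : ∀ ⦃X Y Z : Sp S⦄, IsAlgSpace X → IsAlgSpace Y → IsAlgSpace Z → ∀ (f : X ⟶ Y) (g : Y ⟶ Z),
      P f → LocP @Smooth g → P (f ≫ g)) : IsSmoothLocalST P where
  precomp X Y Z hX hY hZ f g hf hg := by
    let Xi : ULift.{u} Bool → Sp S := fun b => bif b.down then X else Y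
    let gi : ∀ b, Xi b ⟶ Y := fun b => match b with | ⟨true⟩ => f | ⟨false⟩ => 𝟙 Y
    have := (h1 Xi gi hY (by rintro ⟨_ | _⟩ <;> assumption) ⟨by
      rintro ⟨_ | _⟩
      · exact locP_id etaleLocal_smooth
      · exact hf, fun y => ⟨⟨false⟩, y, Points.map_id y⟩⟩ g hZ).1 hg ⟨true⟩
    exact this
  baseChange X Y X' Y' hX hY hX' hY' f g f' g' sq hg hf := by
    let Yi : ULift.{u} Bool → Sp S := fun b => bif b.down then Y' else Y
    let Xi : ULift.{u} Bool → Sp S := fun b => bif b.down then X' else X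
    let gi : ∀ b, Yi b ⟶ Y := fun b => match b with | ⟨true⟩ => g | ⟨false⟩ => 𝟙 Y
    let pi : ∀ b, Xi b ⟶ Yi b := fun b => match b with | ⟨true⟩ => f' | ⟨false⟩ => f
    let qi : ∀ b, Xi b ⟶ X := fun b => match b with | ⟨true⟩ => g' | ⟨false⟩ => 𝟙 X
    have := (h2 Yi gi hY (by rintro ⟨_ | _⟩ <;> assumption) ⟨by
      rintro ⟨_ | _⟩
      · exact locP_id etaleLocal_smooth
      · exact hg, fun y => ⟨⟨false⟩, y, Points.map_id y⟩⟩ f hX Xi pi qi (by rintro ⟨_ | _⟩ <;> assumption)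
      (by rintro ⟨_ | _⟩
          · exact isPullback_id f
          · exact sq)).1 hf ⟨true⟩
    exact this
  locality X Y hX hY f := by
    refine ⟨fun hf x => ⟨X, Y, 𝟙 X, 𝟙 Y, f, x, hX, hY, locP_id etaleLocal_smooth, locP_id etaleLocal_smooth,
      by simp, Points.map_id x, hf⟩, fun h => ?_⟩
    obtain ⟨U0, p, hp, hps⟩ := hX.atlas
    choose U V a b k v hU hV ha hb comm hv hk using fun u : ↥U0.left => h (Points.ofPt p u)
    refine (h1 U a hX hU ⟨ha, fun x => ?_⟩ f hY).2 fun u => ?_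
    · obtain ⟨u, rfl⟩ := surjective_ofPt (surjective_of_repWith hps) x
      exact ⟨u, v u, hv u⟩
    · rw [comm u]
      exact h3 (hU u) (hV u) hY _ _ (hk u) (hb u)

theorem smoothST_iff (hP : IsSmoothLocalST P) (hX : IsAlgSpace X) (hY : IsAlgSpace Y) (f : X ⟶ Y)
    {U V W : Sp S} (hU : IsAlgSpace U) (hV : IsAlgSpace V) (hW : IsAlgSpace W) {b : V ⟶ Y} {p : W ⟶ X}
    {q : W ⟶ V} {e : U ⟶ W} (sq : IsPullback p q f b) (hb : LocP @Smooth b) (he : LocP @Smooth e) (h : P f) :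
    P (e ≫ q) :=
  hP.precomp hU hW hV e q he (hP.baseChange hX hY hW hV f b q p sq hb h)

namespace EtaleST

variable (hP : IsEtaleSmoothLocalST P)
include hP

theorem exists_graph (hX : IsAlgSpace X) (hY : IsAlgSpace Y) (hZ : IsAlgSpace Z) (f : X ⟶ Y) (g : Y ⟶ Z)
    (hg : IsEtaleMor g) :
    ∃ (W : Sp S) (p : W ⟶ X) (q : W ⟶ Y) (e : X ⟶ W), IsAlgSpace W ∧ IsPullback p q (f ≫ g) g ∧
      IsEtaleMor e ∧ e ≫ p = 𝟙 X ∧ e ≫ q = f := by
  have sq := IsPullback.of_hasPullback (f ≫ g) g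
  have hW := isAlgSpace_pullback hX hZ hY (f ≫ g) g
  obtain ⟨e, he1, he2⟩ := sq.exists_lift (𝟙 X) f (Category.id_comp _)
  refine ⟨_, _, _, e, hW, sq, (isEtaleMor_iff_locP hX hW e).2 ?_, he1, he2⟩
  refine locP_cancel_etale etaleLocal_etale hX hW hX e _
    (locP_bc etaleLocal_etale hY hZ hX sq.flip (locP_etale_of_isEtaleMor g hg)) ?_
  rw [he1]; exact locP_id etaleLocal_etale

theorem postcomp (hX : IsAlgSpace X) (hY : IsAlgSpace Y) (hZ : IsAlgSpace Z) (f : X ⟶ Y) (g : Y ⟶ Z)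
    (hf : P f) (hg : IsEtaleMor g) : P (f ≫ g) := by
  obtain ⟨W, p, q, e, hW, sq, he, he1, he2⟩ := exists_graph hP hX hY hZ f g hg
  refine (hP.locality hX hZ (f ≫ g)).2 fun x =>
    ⟨Y, W, X, g, p, q, e, x, hY, hW, hX, smooth_of_isEtaleMor hg, sq, he, ?_, by rwa [he2]⟩
  rw [he1, Points.map_id]

theorem cancel (hX : IsAlgSpace X) (hY : IsAlgSpace Y) (hZ : IsAlgSpace Z) (f : X ⟶ Y) (g : Y ⟶ Z)
    (hg : IsEtaleMor g) (h : P (f ≫ g)) : P f := by
  obtain ⟨W, p, q, e, hW, sq, he, he1, he2⟩ := exists_graph hP hX hY hZ f g hg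
  rw [← he2]
  exact hP.precomp hX hW hY e q he (hP.baseChange hX hZ hW hY _ g q p sq (smooth_of_isEtaleMor hg) h)

theorem localSource : IsLocalOnSource (IsEtCover (S := S)) P := by
  intro ι X Xi g hX hXi hcov Y f hY
  refine ⟨fun h i => hP.precomp (hXi i) hX hY (g i) f (hcov.1 i) h, fun h => (hP.locality hX hY f).2 fun x => ?_⟩
  obtain ⟨i, y, hy⟩ := hcov.2 x
  exact ⟨Y, X, Xi i, 𝟙 Y, 𝟙 X, f, g i, y, hY, hX, hXi i, locP_id etaleLocal_smooth, isPullback_id f, hcov.1 i,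
    by rwa [Category.comp_id], h i⟩

theorem localBase : IsLocalOnBase (IsSmCover (S := S)) P := by
  intro ι Y Yi g hY hYi hcov X f hX Xi p q hXi sqs
  refine ⟨fun h i => hP.baseChange hX hY (hXi i) (hYi i) f (g i) (p i) (q i) (sqs i) (hcov.1 i) h,
    fun h => (hP.locality hX hY f).2 fun x => ?_⟩
  obtain ⟨i, z, hz⟩ := hcov.2 (Points.map f x)
  obtain ⟨w, hw, -⟩ := points_surj (sqs i) x z hz.symm
  exact ⟨Yi i, Xi i, Xi i, g i, q i, p i, 𝟙 _, w, hYi i, hXi i, hXi i, hcov.1 i, sqs i, isEtaleMor_id,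
    by rwa [Category.id_comp], by rw [Category.id_comp]; exact h i⟩

end EtaleST

end AlgSpTopo
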