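import Mathlib
import Groth.Prelude.Def_AlgSp

/-! Spectra of algebras as objects over `S`. -/

set_option autoImplicit false
set_option backward.isDefEq.respectTransparency false
universe u
open CategoryTheory CategoryTheory.Limits AlgebraicGeometry TensorProduct

noncomputable section

namespace AlgSpTopo

variable {S : Scheme.{u}} {A : Type u} [CommRing A] (q₀ : Spec (CommRingCat.of A) ⟶ S)

/-- `Spec R` over `S` for an `A`-algebra `R` -/
abbrev specOver (R : Type u) [CommRing R] [Algebra A R] : Over S :=
  Over.mk (Spec.map (CommRingCat.ofHom (algebraMap A R)) ≫ q₀)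

/-- its structure map to `Spec A` -/
abbrev specπ (R : Type u) [CommRing R] [Algebra A R] : specOver q₀ R ⟶ Over.mk q₀ :=
  Over.homMk (Spec.map (CommRingCat.ofHom (algebraMap A R))) rfl

variable {R R' : Type u} [CommRing R] [CommRing R'] [Algebra A R] [Algebra A R']

/-- functoriality -/
abbrev specHom (φ : R →ₐ[A] R') : specOver q₀ R' ⟶ specOver q₀ R :=
  Over.homMk (Spec.map (CommRingCat.ofHom φ.toRingHom)) (by
    change _ ≫ Spec.map (CommRingCat.ofHom (algebraMap A R)) ≫ q₀ = _
    rw [← Spec.map_comp_assoc, ← CommRingCat.ofHom_comp,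
      show φ.toRingHom.comp (algebraMap A R) = algebraMap A R' from φ.comp_algebraMap]
    rfl)

theorem specHom_π (φ : R →ₐ[A] R') : specHom q₀ φ ≫ specπ q₀ R = specπ q₀ R' := by
  ext
  change Spec.map (CommRingCat.ofHom φ.toRingHom) ≫ Spec.map (CommRingCat.ofHom (algebraMap A R)) =
    Spec.map (CommRingCat.ofHom (algebraMap A R'))
  rw [← Spec.map_comp, ← CommRingCat.ofHom_comp,
      show φ.toRingHom.comp (algebraMap A R) = algebraMap A R' from φ.comp_algebraMap]

theorem exists_algHom (φ : specOver q₀ R' ⟶ specOver q₀ R) (h : φ ≫ specπ q₀ R = specπ q₀ R') :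
    ∃ ψ : R →ₐ[A] R', φ = specHom q₀ ψ := by
  refine ⟨{ (Spec.preimage φ.left).hom with commutes' := fun a => ?_ }, ?_⟩
  · have h' := congrArg (fun k => k.left) h
    simp only [Over.comp_left, Over.homMk_left] at h'
    rw [← Spec.map_preimage φ.left, ← Spec.map_comp] at h'
    exact congrArg (fun r : CommRingCat.of A ⟶ CommRingCat.of R' => r.hom a) (Spec.map_injective h')
  · ext
    exact (Spec.map_preimage φ.left).symm

variable (A' : Type u) [CommRing A'] [Algebra A A'] (R)

/-- projection of the base change to the new base -/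
abbrev specFst : specOver q₀ (A' ⊗[A] R) ⟶ specOver q₀ A' :=
  specHom q₀ (IsScalarTower.toAlgHom A A' (A' ⊗[A] R))

/-- projection of the base change -/
abbrev specSnd : specOver q₀ (A' ⊗[A] R) ⟶ specOver q₀ R :=
  specHom q₀ Algebra.TensorProduct.includeRight

theorem isPullback_spec :
    IsPullback (specFst q₀ R A') (specSnd q₀ R A') (specπ q₀ A') (specπ q₀ R) :=
  IsPullback.of_map (Over.forget S) (by rw [specHom_π, specHom_π])
    (isPullback_SpecMap_of_isPushout _ _ _ _ (CommRingCat.isPushout_tensorProduct A A' R))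

end AlgSpTopo
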