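import Mathlib
import Groth.Agent.AlgSpTopo.LocalST
import Groth.Agent.AlgSpTopo.EpiDescend
import Groth.Agent.AlgSpTopo.SpecOver
import Groth.Agent.AlgSpTopo.AffineDescentSpec

/-! An algebraic space over an affine scheme that is fpqc locally affine is affine. -/

set_option autoImplicit false
set_option backward.isDefEq.respectTransparency false
universe u
open CategoryTheory CategoryTheory.Limits AlgebraicGeometry Opposite TensorProduct

namespace AlgSpTopo
open AlgSp AffineDescent

variable {S : Scheme.{u}}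

theorem exists_affine_etale_cover (U : Scheme.{u}) [CompactSpace ↥U] :
    ∃ (V : Scheme.{u}) (_ : IsAffine V) (p : V ⟶ U), Etale p ∧ Surjective p := by
  obtain ⟨t, ht⟩ := (isCompact_univ : IsCompact (Set.univ : Set ↥U)).elim_finite_subcover
    (fun W : U.affineOpens => (W.1 : Set ↥U)) (fun W => W.1.2) (by
      intro x _
      obtain ⟨W, hW, hxW, -⟩ := exists_isAffineOpen_mem_and_subset (U := (⊤ : U.Opens)) (x := x) trivial
      exact Set.mem_iUnion.2 ⟨⟨W, hW⟩, hxW⟩)
  let J := ULift.{u} (Fin t.card)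
  let w : J → U.affineOpens := fun j => (t.equivFin.symm j.down).1
  have : ∀ j, IsAffine ((w j).1.toScheme) := fun j => (w j).2
  refine ⟨∐ (fun j => (w j).1.toScheme), inferInstance, Sigma.desc fun j => (w j).1.ι,
    IsZariskiLocalAtSource.sigmaDesc fun j => inferInstance, ⟨fun x => ?_⟩⟩
  obtain ⟨W, hW, hxW⟩ := Set.mem_iUnion₂.1 (ht (Set.mem_univ x))
  have hw : w ⟨t.equivFin ⟨W, hW⟩⟩ = W := by simp [w]
  refine ⟨Sigma.ι (fun j => (w j).1.toScheme) ⟨t.equivFin ⟨W, hW⟩⟩ ⟨x, by rw [hw]; exact hxW⟩, ?_⟩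
  rw [← Scheme.Hom.comp_apply, Sigma.ι_desc]
  rfl

theorem compactSpace_points_of_cover {X T : Sp S} {ι : Type*} [Finite ι] (f : X ⟶ T) {W : ι → Sp S}
    (c : ∀ j, W j ⟶ T) (hs : ∀ t : Points T, ∃ j, t ∈ Set.range (Points.map (c j)))
    (h : ∀ j, CompactSpace (Points (pullback f (c j)))) : CompactSpace (Points X) := by
  refine ⟨?_⟩
  have e : (Set.univ : Set (Points X)) = ⋃ j, Set.range (Points.map (pullback.fst f (c j))) := by
    refine (Set.eq_univ_of_forall fun x => Set.mem_iUnion.2 ?_).symm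
    obtain ⟨j, z, hz⟩ := hs (Points.map f x)
    obtain ⟨w, hw, -⟩ := points_surj (IsPullback.of_hasPullback f (c j)) x z hz.symm
    exact ⟨j, w, hw⟩
  rw [e]
  exact isCompact_iUnion fun j => isCompact_range (Points.continuous_map _)

/-- kernel pairs commute with base change -/
theorem isPullback_kernelPair_baseChange {C : Type*} [Category C] {R U X U' X' K : C} {u : U ⟶ X}
    {r₁ r₂ : R ⟶ U} (sqR : IsPullback r₁ r₂ u u) {prU : U' ⟶ U} {q : U' ⟶ X'} {π : X' ⟶ X}
    (sqU : IsPullback prU q u π) {k₁ k₂ : K ⟶ U'} (sqK : IsPullback k₁ k₂ q q) {κ : K ⟶ R}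
    (h₁ : κ ≫ r₁ = k₁ ≫ prU) (h₂ : κ ≫ r₂ = k₂ ≫ prU) : IsPullback κ k₁ r₁ prU := by
  refine IsPullback.of_right ?_ h₁ sqR.flip
  rw [h₂, sqU.w]
  exact sqK.flip.paste_horiz sqU

/-- an algebraic space over `Spec A`, fpqc locally affine, is affine -/
theorem exists_isIso_spec {A : Type u} [CommRing A] (q₀ : Spec (CommRingCat.of A) ⟶ S) {X : Sp S}
    (hX : IsAlgSpace X) (f : X ⟶ (yon S).obj (Over.mk q₀)) {m : ℕ} (A' : Fin m → Type u)
    [∀ j, CommRing (A' j)] [∀ j, Algebra A (A' j)] [∀ j, Module.Flat A (A' j)]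
    (hs : ∀ t : ↥(Spec (CommRingCat.of A)), ∃ j, t ∈ Set.range (specπ q₀ (A' j)).left)
    (h : ∀ j, ∃ (B : Over S), IsAffine B.left ∧
      Nonempty ((yon S).obj B ≅ pullback f ((yon S).map (specπ q₀ (A' j))))) :
    ∃ (E : Type u) (_ : CommRing E) (_ : Algebra A E) (φ : X ⟶ (yon S).obj (specOver q₀ E)),
      IsIso φ ∧ φ ≫ (yon S).map (specπ q₀ E) = f := by
  choose B0 hB0 hB using h
  have hpts : ∀ t : Points ((yon S).obj (Over.mk q₀)), ∃ j,
      t ∈ Set.range (Points.map ((yon S).map (specπ q₀ (A' j)))) := by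
    intro t
    obtain ⟨t, rfl⟩ := ofScheme_surjective (Over.mk q₀) t
    obtain ⟨j, z, hz⟩ := hs t
    exact ⟨j, Points.ofScheme _ z, by rw [map_ofScheme, hz]⟩
  -- `X` is quasi-compact
  have hXc : CompactSpace (Points X) := by
    refine compactSpace_points_of_cover f _ hpts fun j => ?_
    have := hB0 j
    have := compactSpace_points (isQuasiCompactSp_yon (B0 j))
    have hsurj : Function.Surjective (Points.map (hB j).some.hom) := fun x =>
      ⟨Points.map (hB j).some.inv x, by rw [← Points.map_comp, Iso.inv_hom_id, Points.map_id]⟩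
    refine ⟨?_⟩
    rw [← hsurj.range_eq]
    exact isCompact_range (Points.continuous_map _)
  -- an affine chart
  obtain ⟨U0, u0, hu0, hu0s, hU0⟩ : IsQuasiCompactSp X := by
    obtain ⟨M, v, hv, hvs⟩ := hX.atlas
    exact isQuasiCompactSp_of_compact hv (surjective_of_repWith hvs) hXc
  obtain ⟨V, hV, pV, hpV, hpVs⟩ := exists_affine_etale_cover U0.left
  obtain ⟨t0, ht0⟩ := (yon S).map_surjective (u0 ≫ f)
  let C : Type u := Γ(V, ⊤)
  let _ : Algebra A C := (Spec.preimage (V.isoSpec.inv ≫ pV ≫ t0.left)).hom.toAlgebra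
  have hC : Spec.map (CommRingCat.ofHom (algebraMap A C)) = V.isoSpec.inv ≫ pV ≫ t0.left :=
    Spec.map_preimage _
  let cU : specOver q₀ C ⟶ U0 := Over.homMk (V.isoSpec.inv ≫ pV) (by
    change _ = Spec.map (CommRingCat.ofHom (algebraMap A C)) ≫ q₀
    rw [hC, Category.assoc, Category.assoc, Category.assoc, ← Over.w t0]
    rfl)
  have hcU : Etale cU.left ∧ Surjective cU.left := by
    have := hpV
    have := hpVs
    exact ⟨inferInstanceAs (Etale (V.isoSpec.inv ≫ pV)), inferInstanceAs (Surjective (V.isoSpec.inv ≫ pV))⟩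
  let u : (yon S).obj (specOver q₀ C) ⟶ X := (yon S).map cU ≫ u0
  have hu : RepWith @Etale u := MorphismProperty.comp_mem _ _ _ ((repWith_yon_map_iff _ _).2 hcU.1) hu0
  have hus : RepWith @Surjective u := MorphismProperty.comp_mem _ _ _ ((repWith_yon_map_iff _ _).2 hcU.2) hu0s
  have huf : u ≫ f = (yon S).map (specπ q₀ C) := by
    rw [Category.assoc, ← ht0, ← Functor.map_comp]
    congr 1
    ext
    change (V.isoSpec.inv ≫ pV) ≫ t0.left = Spec.map (CommRingCat.ofHom (algebraMap A C))
    rw [hC, Category.assoc]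
  -- the relation
  obtain ⟨R, rb, r₂, sqR, hr₂⟩ := exists_square hu u
  obtain ⟨r₁, rfl⟩ := (yon S).map_surjective rb
  have hr : r₁ ≫ specπ q₀ C = r₂ ≫ specπ q₀ C := (yon S).map_injective (by
    rw [Functor.map_comp, Functor.map_comp, ← huf, reassoc_of% sqR.w])
  -- the pieces
  have hpiece : ∀ j, ∃ (B' : Type u) (_ : CommRing B') (_ : Algebra A B') (_ : Algebra (A' j) B')
      (_ : IsScalarTower A (A' j) B') (iso : (yon S).obj (specOver q₀ B') ≅ pullback f ((yon S).map (specπ q₀ (A' j))))
      (α : B' →ₐ[A' j] (A' j) ⊗[A] C) (K : Over S) (k₁ k₂ : K ⟶ specOver q₀ ((A' j) ⊗[A] C)) (κ : K ⟶ R),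
      iso.hom ≫ pullback.snd f _ = (yon S).map (specHom q₀ (IsScalarTower.toAlgHom A (A' j) B')) ∧
      (yon S).map (specHom q₀ (α.restrictScalars A)) ≫ iso.hom ≫ pullback.fst f _ =
        (yon S).map (specSnd q₀ C (A' j)) ≫ u ∧
      Etale (specHom q₀ (α.restrictScalars A)).left ∧ Surjective (specHom q₀ (α.restrictScalars A)).left ∧
      IsPullback k₁ k₂ (specHom q₀ (α.restrictScalars A)) (specHom q₀ (α.restrictScalars A)) ∧
      κ ≫ r₁ = k₁ ≫ specSnd q₀ C (A' j) ∧ κ ≫ r₂ = k₂ ≫ specSnd q₀ C (A' j) ∧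
      CompactSpace ↥K.left ∧
      IsPullback κ (k₁ ≫ specFst q₀ C (A' j)) (r₁ ≫ specπ q₀ C) (specπ q₀ (A' j)) := by
    intro j
    have := hB0 j
    obtain ⟨ν0, hν0⟩ := (yon S).map_surjective ((hB j).some.hom ≫ pullback.snd f ((yon S).map (specπ q₀ (A' j))))
    let B' : Type u := Γ((B0 j).left, ⊤)
    let _ : Algebra (A' j) B' := (Spec.preimage ((B0 j).left.isoSpec.inv ≫ ν0.left)).hom.toAlgebra
    let _ : Algebra A B' := ((algebraMap (A' j) B').comp (algebraMap A (A' j))).toAlgebra
    have : IsScalarTower A (A' j) B' := IsScalarTower.of_algebraMap_eq' rfl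
    have hB'w : Spec.map (CommRingCat.ofHom (algebraMap A B')) ≫ q₀ = (B0 j).left.isoSpec.inv ≫ (B0 j).hom := by
      change Spec.map (CommRingCat.ofHom ((algebraMap (A' j) B').comp (algebraMap A (A' j)))) ≫ q₀ = _
      rw [CommRingCat.ofHom_comp, Spec.map_comp, Category.assoc]
      change Spec.map (Spec.preimage ((B0 j).left.isoSpec.inv ≫ ν0.left)) ≫ _ = _
      rw [Spec.map_preimage, Category.assoc]
      exact congrArg ((B0 j).left.isoSpec.inv ≫ ·) (Over.w ν0)
    let iB : specOver q₀ B' ≅ B0 j := Over.isoMk (B0 j).left.isoSpec.symm hB'w.symm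
    let iso := (yon S).mapIso iB ≪≫ (hB j).some
    have hiso : iso.hom ≫ pullback.snd f _ = (yon S).map (specHom q₀ (IsScalarTower.toAlgHom A (A' j) B')) := by
      rw [Iso.trans_hom, Category.assoc, Functor.mapIso_hom, ← hν0, ← Functor.map_comp]
      congr 1
      ext
      exact (Spec.map_preimage ((B0 j).left.isoSpec.inv ≫ ν0.left)).symm
    -- the base change of `u`
    have sqS := (isPullback_spec q₀ C (A' j)).flip.map (yon S)
    rw [← huf] at sqS
    obtain ⟨q, hq1, hq2⟩ := (IsPullback.of_hasPullback f ((yon S).map (specπ q₀ (A' j)))).exists_lift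
      ((yon S).map (specSnd q₀ C (A' j)) ≫ u) ((yon S).map (specFst q₀ C (A' j)))
      (by rw [Category.assoc]; exact sqS.w)
    rw [← hq2] at sqS
    have sqq := IsPullback.of_bot sqS hq1.symm (IsPullback.of_hasPullback f ((yon S).map (specπ q₀ (A' j))))
    have hqe : RepWith @Etale q := MorphismProperty.of_isPullback (P := RepWith @Etale) sqq hu
    have hqs : RepWith @Surjective q := MorphismProperty.of_isPullback (P := RepWith @Surjective) sqq hus
    obtain ⟨qs, hqs'⟩ := (yon S).map_surjective (q ≫ iso.inv)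
    have hqs1 : qs ≫ specHom q₀ (IsScalarTower.toAlgHom A (A' j) B') = specFst q₀ C (A' j) :=
      (yon S).map_injective (by rw [Functor.map_comp, hqs', ← hiso, Category.assoc, Iso.inv_hom_id_assoc, hq2])
    obtain ⟨α₀, hα₀⟩ := exists_algHom q₀ qs (by
      rw [← specHom_π q₀ (IsScalarTower.toAlgHom A (A' j) B'), ← Category.assoc, hqs1, specHom_π])
    subst hα₀
    have hcomm : ∀ a : A' j, α₀ (algebraMap (A' j) B' a) = algebraMap (A' j) ((A' j) ⊗[A] C) a := by
      intro a
      have := congrArg (fun k => k.left) hqs1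
      simp only [Over.comp_left, Over.homMk_left, ← Spec.map_comp] at this
      exact congrArg (fun r : CommRingCat.of (A' j) ⟶ CommRingCat.of ((A' j) ⊗[A] C) => r.hom a)
        (Spec.map_injective this)
    let α : B' →ₐ[A' j] (A' j) ⊗[A] C := { α₀.toRingHom with commutes' := hcomm }
    have hα : α.restrictScalars A = α₀ := AlgHom.ext fun _ => rfl
    have hie : RepWith @Etale iso.inv :=
      MorphismProperty.of_isIso (P := RepWith @Etale) _
    have h1 : Etale (specHom q₀ α₀).left :=
      (repWith_yon_map_iff _ _).1 (by rw [hqs']; exact MorphismProperty.comp_mem _ _ _ hqe hie)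
    have h2 : Surjective (specHom q₀ α₀).left :=
      (repWith_yon_map_iff _ _).1 (by
        rw [hqs']; exact MorphismProperty.comp_mem _ _ _ hqs (MorphismProperty.of_isIso (P := RepWith @Surjective) _))
    have sqK := IsPullback.of_hasPullback (specHom q₀ α₀) (specHom q₀ α₀)
    have hqu : (yon S).map (specHom q₀ α₀) ≫ iso.hom ≫ pullback.fst f _ = (yon S).map (specSnd q₀ C (A' j)) ≫ u := by
      rw [hqs', Category.assoc, Iso.inv_hom_id_assoc, hq1]
    obtain ⟨κb, hκ1, hκ2⟩ := sqR.exists_lift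
      ((yon S).map (pullback.fst (specHom q₀ α₀) (specHom q₀ α₀) ≫ specSnd q₀ C (A' j)))
      ((yon S).map (pullback.snd (specHom q₀ α₀) (specHom q₀ α₀) ≫ specSnd q₀ C (A' j)))
      (by rw [Functor.map_comp, Functor.map_comp, Category.assoc, Category.assoc, ← hqu,
        ← Functor.map_comp_assoc, pullback.condition, Functor.map_comp_assoc])
    obtain ⟨κ, rfl⟩ := (yon S).map_surjective κb
    have e1 : κ ≫ r₁ = pullback.fst _ _ ≫ specSnd q₀ C (A' j) := (yon S).map_injective (by simpa using hκ1)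
    have e2 : κ ≫ r₂ = pullback.snd _ _ ≫ specSnd q₀ C (A' j) := (yon S).map_injective (by simpa using hκ2)
    have sqq' : IsPullback ((yon S).map (specSnd q₀ C (A' j))) ((yon S).map (specHom q₀ α₀)) u
        (iso.hom ≫ pullback.fst f _) :=
      IsPullback.of_iso sqq (Iso.refl _) (Iso.refl _) iso.symm (Iso.refl _) (by simp) (by simp [hqs'])
        (by simp) (by simp)
    have sqRU : IsPullback ((yon S).map κ) ((yon S).map (pullback.fst (specHom q₀ α₀) (specHom q₀ α₀)))
        ((yon S).map r₁) ((yon S).map (specSnd q₀ C (A' j))) :=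
      isPullback_kernelPair_baseChange sqR sqq' (sqK.map (yon S)) hκ1 hκ2
    have sqRW := (IsPullback.of_map (yon S) e1 sqRU).paste_vert (isPullback_spec q₀ C (A' j)).flip
    have hK : CompactSpace ↥(pullback (specHom q₀ α₀) (specHom q₀ α₀)).left := by
      have : CompactSpace ↥(pullback (Spec.map (CommRingCat.ofHom α₀.toRingHom))
          (Spec.map (CommRingCat.ofHom α₀.toRingHom))) := inferInstance
      exact @Homeomorph.compactSpace _ _ _ _ this (Scheme.homeoOfIso (sqK.map (Over.forget S)).isoPullback).symm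
    exact ⟨B', inferInstance, inferInstance, inferInstance, inferInstance, iso, α, _, _, _, κ, hiso,
      by rw [hα]; exact hqu, by rw [hα]; exact h1, by rw [hα]; exact h2, by rw [hα]; exact sqK, e1, e2, hK, sqRW⟩
  choose B' _ _ _ _ iso α K k₁ k₂ κ hiso hαu hαe hαs sqK hκ₁ hκ₂ hK sqRW using hpiece
  -- `R` is compact
  have hRc : CompactSpace ↥R.left := by
    refine ⟨?_⟩
    have e : (Set.univ : Set ↥R.left) = ⋃ j, Set.range (κ j).left := by
      refine (Set.eq_univ_of_forall fun x => Set.mem_iUnion.2 ?_).symm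
      obtain ⟨j, w, hw⟩ := hs ((r₁ ≫ specπ q₀ C).left x)
      obtain ⟨z, hz, -⟩ := Scheme.Pullback.exists_preimage_pullback
        (f := (r₁ ≫ specπ q₀ C).left) (g := (specπ q₀ (A' j)).left) x w hw.symm
      refine ⟨j, (((sqRW j).map (Over.forget S)).isoPullback).inv z, ?_⟩
      rw [← hz]
      exact congrArg (fun q : pullback (r₁ ≫ specπ q₀ C).left (specπ q₀ (A' j)).left ⟶ R.left => q z)
        ((sqRW j).map (Over.forget S)).isoPullback_inv_fst
    rw [e]
    exact isCompact_iUnion fun j => isCompact_range (κ j).left.continuous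
  obtain ⟨VR, hVR, pR, hpR, hpRs⟩ := exists_affine_etale_cover R.left
  let D : Type u := Γ(VR, ⊤)
  let _ : Algebra A D := (Spec.preimage (VR.isoSpec.inv ≫ pR ≫ (r₁ ≫ specπ q₀ C).left)).hom.toAlgebra
  have hD : Spec.map (CommRingCat.ofHom (algebraMap A D)) = VR.isoSpec.inv ≫ pR ≫ (r₁ ≫ specπ q₀ C).left :=
    Spec.map_preimage _
  let cR : specOver q₀ D ⟶ R := Over.homMk (VR.isoSpec.inv ≫ pR) (by
    change _ = Spec.map (CommRingCat.ofHom (algebraMap A D)) ≫ q₀
    rw [hD, Category.assoc, Category.assoc, Category.assoc, ← Over.w (r₁ ≫ specπ q₀ C)]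
    rfl)
  have hcR : Etale cR.left ∧ Surjective cR.left := by
    have := hpR
    have := hpRs
    exact ⟨inferInstanceAs (Etale (VR.isoSpec.inv ≫ pR)), inferInstanceAs (Surjective (VR.isoSpec.inv ≫ pR))⟩
  have hcRπ : cR ≫ r₁ ≫ specπ q₀ C = specπ q₀ D := by
    ext
    change (VR.isoSpec.inv ≫ pR) ≫ (r₁ ≫ specπ q₀ C).left = Spec.map (CommRingCat.ofHom (algebraMap A D))
    rw [hD, Category.assoc]
  obtain ⟨fC, hfC⟩ := exists_algHom q₀ (cR ≫ r₁) (by rw [Category.assoc, hcRπ])
  obtain ⟨gC, hgC⟩ := exists_algHom q₀ (cR ≫ r₂) (by rw [Category.assoc, ← hr, hcRπ])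
  -- the affine quotient
  let EE := AlgHom.equalizer fC gC
  let πU : specOver q₀ C ⟶ specOver q₀ EE := specHom q₀ EE.val
  have hpiU : r₁ ≫ πU = r₂ ≫ πU := by
    have := isLocallySurjective_of_repWith ((repWith_yon_map_iff _ cR).2 hcR.1) ((repWith_yon_map_iff _ cR).2 hcR.2)
    have hep : Epi ((yon S).map cR) := inferInstance
    refine (yon S).map_injective ((cancel_epi ((yon S).map cR)).1 ?_)
    rw [← Functor.map_comp, ← Functor.map_comp]
    congr 1
    rw [← Category.assoc, ← Category.assoc, hfC, hgC]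
    ext
    change Spec.map _ ≫ Spec.map _ = Spec.map _ ≫ Spec.map _
    rw [← Spec.map_comp, ← Spec.map_comp]
    congr 1
    ext x
    exact x.2
  have := isLocallySurjective_of_repWith hu hus
  obtain ⟨φ, hφ⟩ := exists_desc (u := u) ((yon S).map πU) sqR (by rw [← Functor.map_comp, hpiU, Functor.map_comp])
  have hφf : φ ≫ (yon S).map (specπ q₀ EE) = f := by
    have : Epi u := inferInstance
    rw [← cancel_epi u, ← Category.assoc, hφ, huf, ← Functor.map_comp, specHom_π]
  -- the base changes are isomorphisms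
  have hbc : ∀ j, ∃ (p : pullback f ((yon S).map (specπ q₀ (A' j))) ⟶ (yon S).obj (specOver q₀ ((A' j) ⊗[A] EE))),
      IsIso p ∧ IsPullback (pullback.fst f _) p φ ((yon S).map (specSnd q₀ EE (A' j))) := by
    intro j
    obtain ⟨μ, hμ⟩ := (yon S).map_surjective ((iso j).hom ≫ pullback.fst f _ ≫ φ)
    have hμπ : μ ≫ specπ q₀ EE = specπ q₀ (B' j) := (yon S).map_injective (by
      rw [Functor.map_comp, hμ, Category.assoc, Category.assoc, hφf, pullback.condition, ← Category.assoc, hiso j,
        ← Functor.map_comp, specHom_π])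
    obtain ⟨μ', rfl⟩ := exists_algHom q₀ μ hμπ
    let β : (A' j) ⊗[A] EE →ₐ[A' j] B' j :=
      Algebra.TensorProduct.lift (Algebra.ofId (A' j) (B' j)) μ' fun _ _ => .all _ _
    have hβR : specHom q₀ (β.restrictScalars A) ≫ specSnd q₀ EE (A' j) = specHom q₀ μ' := by
      ext
      change Spec.map _ ≫ Spec.map _ = Spec.map _
      rw [← Spec.map_comp]
      congr 1
      ext x
      change β (1 ⊗ₜ x) = μ' x
      simp [β]
    have hβL : specHom q₀ (β.restrictScalars A) ≫ specFst q₀ EE (A' j) =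
        specHom q₀ (IsScalarTower.toAlgHom A (A' j) (B' j)) := by
      ext
      change Spec.map _ ≫ Spec.map _ = Spec.map _
      rw [← Spec.map_comp]
      congr 1
      ext x
      change β (x ⊗ₜ 1) = algebraMap (A' j) (B' j) x
      simp [β]
    have hκD : ∃ γ : specOver q₀ ((A' j) ⊗[A] D) ⟶ K j,
        γ ≫ k₁ j = specHom q₀ ((Algebra.TensorProduct.map (AlgHom.id (A' j) (A' j)) fC).restrictScalars A) ∧
        γ ≫ k₂ j = specHom q₀ ((Algebra.TensorProduct.map (AlgHom.id (A' j) (A' j)) gC).restrictScalars A) ∧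
        Etale γ.left ∧ Surjective γ.left := by
      obtain ⟨γ, hγ1, hγ2⟩ := (sqRW j).exists_lift (specSnd q₀ D (A' j) ≫ cR) (specFst q₀ D (A' j)) (by
        rw [Category.assoc, hcRπ]; exact (isPullback_spec q₀ D (A' j)).w.symm)
      have sqD := (isPullback_spec q₀ D (A' j)).flip
      rw [← hcRπ, ← hγ2] at sqD
      have sqγ := IsPullback.of_bot sqD hγ1.symm (sqRW j)
      have sqγ' := sqγ.map (Over.forget S)
      have i1 : Etale γ.left := MorphismProperty.of_isPullback (P := @Etale) sqγ' hcR.1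
      have i2 : Surjective γ.left := MorphismProperty.of_isPullback (P := @Surjective) sqγ' hcR.2
      have hL : ∀ h : C →ₐ[A] D,
          specHom q₀ ((Algebra.TensorProduct.map (AlgHom.id (A' j) (A' j)) h).restrictScalars A) ≫
            specFst q₀ C (A' j) = specFst q₀ D (A' j) ∧
          specHom q₀ ((Algebra.TensorProduct.map (AlgHom.id (A' j) (A' j)) h).restrictScalars A) ≫
            specSnd q₀ C (A' j) = specSnd q₀ D (A' j) ≫ specHom q₀ h := by
        intro h
        constructor
        · ext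
          change Spec.map _ ≫ Spec.map _ = Spec.map _
          rw [← Spec.map_comp]
          congr 1
          ext x
          change Algebra.TensorProduct.map (AlgHom.id (A' j) (A' j)) h (x ⊗ₜ 1) = x ⊗ₜ 1
          simp
        · ext
          change Spec.map _ ≫ Spec.map _ = Spec.map _ ≫ Spec.map _
          rw [← Spec.map_comp, ← Spec.map_comp]
          congr 1
      have hkk : k₁ j ≫ specFst q₀ C (A' j) = k₂ j ≫ specFst q₀ C (A' j) := by
        have e : specHom q₀ ((α j).restrictScalars A) ≫ specHom q₀ (IsScalarTower.toAlgHom A (A' j) (B' j)) =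
            specFst q₀ C (A' j) := by
          ext
          change Spec.map _ ≫ Spec.map _ = Spec.map _
          rw [← Spec.map_comp]
          congr 1
          ext x
          exact (α j).commutes x
        rw [← e, reassoc_of% (sqK j).w]
      refine ⟨γ, (isPullback_spec q₀ C (A' j)).hom_ext ?_ ?_, (isPullback_spec q₀ C (A' j)).hom_ext ?_ ?_, i1, i2⟩
      · rw [Category.assoc, hγ2, (hL fC).1]
      · rw [Category.assoc, ← hκ₁, ← Category.assoc, hγ1, Category.assoc, hfC, (hL fC).2]
      · rw [Category.assoc, ← hkk, hγ2, (hL gC).1]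
      · rw [Category.assoc, ← hκ₂, ← Category.assoc, hγ1, Category.assoc, hgC, (hL gC).2]
    obtain ⟨γ, hγ₁, hγ₂, hγe, hγs⟩ := hκD
    have : Etale (Spec.map (CommRingCat.ofHom (α j).toRingHom)) := hαe j
    have : Surjective (Spec.map (CommRingCat.ofHom (α j).toRingHom)) := hαs j
    have hβ : (α j).comp β = Algebra.TensorProduct.map (AlgHom.id (A' j) (A' j)) EE.val := by
      have e : specHom q₀ ((α j).restrictScalars A) ≫ specHom q₀ μ' = specSnd q₀ C (A' j) ≫ πU := by
        refine (yon S).map_injective ?_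
        rw [Functor.map_comp, Functor.map_comp, hμ, ← hφ, ← reassoc_of% (hαu j)]
      refine Algebra.TensorProduct.ext (by ext) ?_
      ext x
      change α j (β (1 ⊗ₜ x)) = Algebra.TensorProduct.map (AlgHom.id (A' j) (A' j)) EE.val (1 ⊗ₜ x)
      have h' := congrArg (fun k => k.left) e
      simp only [Over.comp_left, Over.homMk_left, ← Spec.map_comp, πU] at h'
      have := congrArg (fun r : CommRingCat.of EE ⟶ CommRingCat.of ((A' j) ⊗[A] C) => r.hom x) (Spec.map_injective h')
      simpa [β] using this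
    have := AffineDescent.isIso_of_cover fC gC (α j) ((sqK j).map (Over.forget S)) γ.left
      (congrArg (fun k => k.left) hγ₁) (congrArg (fun k => k.left) hγ₂) β hβ
    have : IsIso ((Over.forget S).map (specHom q₀ (β.restrictScalars A))) := this
    have : IsIso (specHom q₀ (β.restrictScalars A)) := isIso_of_reflects_iso _ (Over.forget S)
    refine ⟨(iso j).inv ≫ (yon S).map (specHom q₀ (β.restrictScalars A)), inferInstance, ?_⟩
    refine IsPullback.of_bot ?_ ?_ ((isPullback_spec q₀ EE (A' j)).flip.map (yon S))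
    · rw [Category.assoc, ← Functor.map_comp, hβL, ← hiso j, Iso.inv_hom_id_assoc, hφf]
      exact IsPullback.of_hasPullback f _
    · rw [Category.assoc, ← Functor.map_comp, hβR, hμ, Iso.inv_hom_id_assoc]
  choose p hp sqp using hbc
  refine ⟨EE, inferInstance, inferInstance, φ, ?_, hφf⟩
  refine iso_fpqc (ι := ULift.{u} (Fin m)) (IsAlgSpace.yon_obj _)
    (g := fun j => (yon S).map (specSnd q₀ EE (A' j.down))) ⟨fun j => ?_, fun Z hZ k => ?_⟩ hX
    (fun j => isAlgSpace_pullback hX (IsAlgSpace.yon_obj _) (IsAlgSpace.yon_obj _) f _)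
    (fun j => sqp j.down) fun j => hp j.down
  · refine (locP_iff_repWith etaleLocal_flat (IsAlgSpace.yon_obj _) (IsAlgSpace.yon_obj _) _
      (representable_yon_map _)).2 ((repWith_yon_map_iff _ _).2 ?_)
    have hfl : Flat (specπ q₀ (A' j.down)).left := by
      change Flat (Spec.map _)
      rw [HasRingHomProperty.Spec_iff (P := @Flat)]
      exact RingHom.flat_algebraMap_iff.mpr inferInstance
    exact MorphismProperty.of_isPullback (P := @Flat) ((isPullback_spec q₀ EE (A' j.down)).map (Over.forget S)) hfl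
  · obtain ⟨k, rfl⟩ := (yon S).map_surjective k
    refine ⟨m, fun j => pullback k (specSnd q₀ EE (A' j)), fun j => pullback.fst _ _, fun j => ?_, fun j => ?_,
      fun z => ?_, fun j => ⟨⟨j⟩, (yon S).map (pullback.snd _ _), ?_⟩⟩
    · have := hZ
      have hsq := (IsPullback.of_hasPullback k (specSnd q₀ EE (A' j))).map (Over.forget S)
      have hX2 : IsAffine (specOver q₀ ((A' j) ⊗[A] EE)).left := inferInstanceAs (IsAffine (Spec _))
      have : IsAffine (specOver q₀ EE).left := inferInstanceAs (IsAffine (Spec _))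
      have : IsAffine (pullback k.left (specSnd q₀ EE (A' j)).left) := inferInstance
      have : IsAffine (pullback ((Over.forget S).map k) ((Over.forget S).map (specSnd q₀ EE (A' j)))) := this
      exact IsAffine.of_isIso hsq.isoPullback.hom
    · have hfl : Flat (specπ q₀ (A' j)).left := by
        change Flat (Spec.map _)
        rw [HasRingHomProperty.Spec_iff (P := @Flat)]
        exact RingHom.flat_algebraMap_iff.mpr inferInstance
      exact MorphismProperty.of_isPullback (P := @Flat)
        ((IsPullback.of_hasPullback k (specSnd q₀ EE (A' j))).map (Over.forget S)).flip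
        (MorphismProperty.of_isPullback (P := @Flat) ((isPullback_spec q₀ EE (A' j)).map (Over.forget S)) hfl)
    · obtain ⟨j, w, hw⟩ := hs ((k ≫ specπ q₀ EE).left z)
      have hsq := (((IsPullback.of_hasPullback k (specSnd q₀ EE (A' j))).flip.paste_horiz
        (isPullback_spec q₀ EE (A' j))).map (Over.forget S)).flip
      obtain ⟨y, hy, -⟩ := Scheme.Pullback.exists_preimage_pullback
        (f := (k ≫ specπ q₀ EE).left) (g := (specπ q₀ (A' j)).left) z w hw.symm
      refine ⟨j, hsq.isoPullback.inv y, ?_⟩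
      rw [← hy]
      exact congrArg (fun q : pullback (k ≫ specπ q₀ EE).left (specπ q₀ (A' j)).left ⟶ Z.left => q y)
        hsq.isoPullback_inv_fst
    · rw [← Functor.map_comp, ← Functor.map_comp, pullback.condition]

/-- an algebraic space over an affine scheme that is fpqc locally affine is affine -/
theorem exists_affine_of_cover {X : Sp S} (hX : IsAlgSpace X) {T : Over S} [IsAffine T.left]
    (f : X ⟶ (yon S).obj T) {m : ℕ} (W : Fin m → Over S) (c : ∀ j, W j ⟶ T)
    (hW : ∀ j, IsAffine (W j).left) (hc : ∀ j, Flat (c j).left)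
    (hs : ∀ t : ↥T.left, ∃ j, t ∈ Set.range (c j).left)
    (h : ∀ j, ∃ (B : Over S), IsAffine B.left ∧ Nonempty ((yon S).obj B ≅ pullback f ((yon S).map (c j)))) :
    ∃ (B : Over S) (b : B ⟶ T) (fst : (yon S).obj B ⟶ X),
      IsAffine B.left ∧ IsIso fst ∧ fst ≫ f = (yon S).map b := by
  let A : Type u := Γ(T.left, ⊤)
  let q₀ : Spec (CommRingCat.of A) ⟶ S := T.left.isoSpec.inv ≫ T.hom
  let iT : Over.mk q₀ ≅ T := Over.isoMk T.left.isoSpec.symm rfl
  let A' : Fin m → Type u := fun j => Γ((W j).left, ⊤)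
  let _ : ∀ j, Algebra A (A' j) := fun j => (c j).left.appTop.hom.toAlgebra
  have : ∀ j, Module.Flat A (A' j) := fun j => by
    have := hW j
    exact RingHom.flat_algebraMap_iff.mp
      ((HasRingHomProperty.iff_of_isAffine (P := @Flat) (f := (c j).left)).1 (hc j))
  have hnat : ∀ j, Spec.map (CommRingCat.ofHom (algebraMap A (A' j))) =
      Spec.map (c j).left.appTop := fun j => rfl
  have : ∀ j, IsAffine (W j).left := hW
  have hisoW : ∀ j, ∃ e : specOver q₀ (A' j) ≅ W j, e.hom ≫ c j = specπ q₀ (A' j) ≫ iT.hom := by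
    intro j
    have hn : (W j).left.isoSpec.inv ≫ (c j).left = Spec.map (c j).left.appTop ≫ T.left.isoSpec.inv :=
      (Scheme.isoSpec_inv_naturality (c j).left).symm
    refine ⟨Over.isoMk (W j).left.isoSpec.symm ?_, ?_⟩
    · change (W j).left.isoSpec.inv ≫ (W j).hom = Spec.map (CommRingCat.ofHom (algebraMap A (A' j))) ≫ q₀
      rw [← Over.w (c j), ← Category.assoc, hn, Category.assoc, hnat]
    · ext
      exact hn
  choose eW heW using hisoW
  obtain ⟨E, _, _, φ, hφ, hφf⟩ := exists_isIso_spec q₀ hX (f ≫ (yon S).map iT.inv) A' (fun t => by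
      obtain ⟨j, w, hw⟩ := hs (iT.hom.left t)
      refine ⟨j, (eW j).inv.left w, ?_⟩
      have e : (eW j).inv ≫ specπ q₀ (A' j) = c j ≫ iT.inv := by
        rw [Iso.inv_comp_eq, ← Category.assoc, heW, Category.assoc, Iso.hom_inv_id, Category.comp_id]
      change ((eW j).inv ≫ specπ q₀ (A' j)).left w = t
      rw [e, Over.comp_left, Scheme.Hom.comp_apply, hw, ← Scheme.Hom.comp_apply, ← Over.comp_left, Iso.hom_inv_id]
      rfl)
    fun j => by
      obtain ⟨B, hB, ⟨e⟩⟩ := h j
      refine ⟨B, hB, ⟨e ≪≫ pullback.congrHom rfl rfl ≪≫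
        (IsPullback.isoPullback (IsPullback.of_iso (IsPullback.of_hasPullback f ((yon S).map (c j)))
          (Iso.refl _) (Iso.refl _) ((yon S).mapIso (eW j).symm) ((yon S).mapIso iT.symm)
          (fst' := pullback.fst f ((yon S).map (c j)))
          (snd' := pullback.snd f ((yon S).map (c j)) ≫ (yon S).map (eW j).inv) (by simp) (by simp)
          (by simp) ?_))⟩⟩
      simp only [Functor.mapIso_hom, Iso.symm_hom, ← Functor.map_comp]
      congr 1
      rw [eq_comm, Iso.inv_comp_eq, ← Category.assoc, heW, Category.assoc, Iso.hom_inv_id, Category.comp_id]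
  refine ⟨specOver q₀ E, specπ q₀ E ≫ iT.hom, inv φ, inferInstanceAs (IsAffine (Spec _)), inferInstance, ?_⟩
  rw [IsIso.inv_comp_eq, Functor.map_comp, ← Category.assoc, hφf, Category.assoc, ← Functor.map_comp, Iso.inv_hom_id,
    CategoryTheory.Functor.map_id, Category.comp_id]

end AlgSpTopo
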