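import Mathlib
import Groth.Agent.AlgSpTopo.AffineDescent

/-! Affine, integral and finite morphisms of algebraic spaces are fpqc local on the base. -/

set_option autoImplicit false
set_option backward.isDefEq.respectTransparency false
universe u
open CategoryTheory CategoryTheory.Limits AlgebraicGeometry Opposite

namespace AlgSpTopo
open AlgSp

variable {S : Scheme.{u}} {X Y : Sp S}

/-- affine with `Q` over every affine scheme -/
def AffWith (Q : MorphismProperty Scheme.{u}) (f : X ⟶ Y) : Prop :=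
  ∀ ⦃Z : Over S⦄, IsAffine Z.left → ∀ (g : (yon S).obj Z ⟶ Y),
    ∃ (W : Over S) (i : W ⟶ Z) (fst : (yon S).obj W ⟶ X),
      IsPullback fst ((yon S).map i) f g ∧ IsAffine W.left ∧ Q i.left

theorem affWith_top_iff (f : X ⟶ Y) : AffWith ⊤ f ↔ IsAffineMor f :=
  ⟨fun h Z hZ g => let ⟨W, i, fst, sq, hW, _⟩ := h hZ g; ⟨W, i, fst, sq, hW⟩,
    fun h Z hZ g => let ⟨W, i, fst, sq, hW⟩ := h hZ g; ⟨W, i, fst, sq, hW, trivial⟩⟩

theorem affWith_bc {Q : MorphismProperty Scheme.{u}} {f : X ⟶ Y} (h : AffWith Q f) {X' Y' : Sp S} {q : X' ⟶ X}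
    {p : X' ⟶ Y'} {g : Y' ⟶ Y} (sq : IsPullback q p f g) : AffWith Q p := by
  intro Z hZ k
  obtain ⟨W, i, fst, sq', hW, hi⟩ := h hZ (k ≫ g)
  obtain ⟨l, hl1, hl2⟩ := sq.exists_lift fst ((yon S).map i ≫ k) (by rw [sq'.w, Category.assoc])
  refine ⟨W, i, l, IsPullback.of_right ?_ hl2 sq, hW, hi⟩
  rwa [hl1]

/-- affineness with `Q` is tested on fpqc covers of affine schemes -/
theorem affWith_of_local {Q : MorphismProperty Scheme.{u}} [IsZariskiLocalAtTarget Q]
    [Q.DescendsAlong (@Surjective ⊓ @Flat ⊓ @QuasiCompact)] (hX : IsAlgSpace X) (hY : IsAlgSpace Y) (f : X ⟶ Y)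
    (h : ∀ (Z : Over S), IsAffine Z.left → ∀ (g : (yon S).obj Z ⟶ Y),
      ∃ (m : ℕ) (W : Fin m → Over S) (c : ∀ j, W j ⟶ Z),
        (∀ j, IsAffine (W j).left) ∧ (∀ j, Flat (c j).left) ∧
        (∀ z : ↥Z.left, ∃ j, z ∈ Set.range (c j).left) ∧
        ∀ j, ∃ (W' : Over S) (i : W' ⟶ W j) (fst : (yon S).obj W' ⟶ X),
          IsPullback fst ((yon S).map i) f ((yon S).map (c j) ≫ g) ∧ IsAffine W'.left ∧ Q i.left) :
    AffWith Q f := by
  intro Z hZ g
  obtain ⟨m, W, c, hW, hc, hs, hl⟩ := h Z hZ g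
  choose W' i fst sq hW' hQ using hl
  have H := IsPullback.of_hasPullback f g
  have hP : ∀ j, ∃ t : (yon S).obj (W' j) ⟶ pullback f g,
      IsPullback t ((yon S).map (i j)) (pullback.snd f g) ((yon S).map (c j)) := by
    intro j
    obtain ⟨t, ht1, ht2⟩ := H.exists_lift (fst j) ((yon S).map (i j) ≫ (yon S).map (c j))
      (by rw [(sq j).w, Category.assoc])
    refine ⟨t, IsPullback.of_right ?_ ht2 H⟩
    rw [ht1]; exact sq j
  choose t ht using hP
  obtain ⟨B, b, e, hB, he, heb⟩ := exists_affine_of_cover (isAlgSpace_pullback hX hY (IsAlgSpace.yon_obj Z) f g)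
    (pullback.snd f g) W c hW hc hs fun j => ⟨W' j, hW' j, ⟨(ht j).isoPullback⟩⟩
  have sqB : IsPullback (e ≫ pullback.fst f g) ((yon S).map b) f g :=
    IsPullback.of_iso H (asIso e).symm (Iso.refl _) (Iso.refl _) (Iso.refl _) (by simp) (by simp [← heb])
      (by simp) (by simp)
  refine ⟨B, b, _, sqB, hB, ?_⟩
  have := hZ
  refine prop_of_flat_cover b.left (fun j => (W j).left) (fun j => (c j).left) hW hc hs fun j => ?_
  obtain ⟨s, hs1, hs2⟩ := sqB.exists_lift (fst j) ((yon S).map (i j) ≫ (yon S).map (c j))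
    (by rw [(sq j).w, Category.assoc])
  have sqs : IsPullback s ((yon S).map (i j)) ((yon S).map b) ((yon S).map (c j)) := by
    refine IsPullback.of_right ?_ hs2 sqB
    rw [hs1]; exact sq j
  obtain ⟨s', rfl⟩ := (yon S).map_surjective s
  have sq' : IsPullback s' (i j) b (c j) := IsPullback.of_map (yon S)
    ((yon S).map_injective (by simpa using sqs.w)) sqs
  have : Q ((Over.forget S).map (i j)) := hQ j
  rw [← (sq'.map (Over.forget S)).isoPullback_hom_snd] at this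
  exact (Q.cancel_left_of_respectsIso _ _).1 this

theorem affWith_fpqc {Q : MorphismProperty Scheme.{u}} [IsZariskiLocalAtTarget Q]
    [Q.DescendsAlong (@Surjective ⊓ @Flat ⊓ @QuasiCompact)] :
    IsLocalOnBase (IsFpqcCover (S := S)) (fun _ _ f => AffWith Q f) := by
  intro ι Y Yi g hY hYi hcov X f hX Xi p q hXi sqs
  refine ⟨fun h i => affWith_bc h (sqs i), fun h => affWith_of_local hX hY f fun Z hZ k => ?_⟩
  obtain ⟨m, W, c, hW, hc, hs, hl⟩ := hcov.2 Z hZ k
  refine ⟨m, W, c, hW, hc, hs, fun j => ?_⟩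
  obtain ⟨i, l, hl⟩ := hl j
  obtain ⟨W', i', fst, sq, hW', hQ⟩ := h i (hW j) l
  refine ⟨W', i', fst ≫ q i, ?_, hW', hQ⟩
  rw [← hl]
  exact sq.paste_horiz (sqs i)

/-- finitely many affines refine a jointly surjective etale family -/
theorem exists_affine_refinement_family {T : Over S} [IsAffine T.left] {κ : Type*} (M : κ → Over S)
    (μ : ∀ a, M a ⟶ T) (hμ : ∀ a, Etale (μ a).left) (hs : ∀ t : ↥T.left, ∃ a, t ∈ Set.range (μ a).left) :
    ∃ (m : ℕ) (W : Fin m → Over S) (c : ∀ j, W j ⟶ T),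
      (∀ j, IsAffine (W j).left) ∧ (∀ j, Flat (c j).left) ∧
      (∀ t : ↥T.left, ∃ j, t ∈ Set.range (c j).left) ∧
      ∀ j, ∃ (a : κ) (d : W j ⟶ M a), d ≫ μ a = c j := by
  obtain ⟨t, ht⟩ := (isCompact_univ : IsCompact (Set.univ : Set ↥T.left)).elim_finite_subcover
    (fun W : Σ a, (M a).left.affineOpens => (μ W.1).left '' (W.2.1 : Set ↥(M W.1).left))
    (fun W => have := hμ W.1; (μ W.1).left.isOpenMap _ W.2.1.2) (by
      intro x _
      obtain ⟨a, u, rfl⟩ := hs x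
      obtain ⟨W, hW, huW, -⟩ := exists_isAffineOpen_mem_and_subset (U := (⊤ : (M a).left.Opens)) (x := u) trivial
      exact Set.mem_iUnion.2 ⟨⟨a, W, hW⟩, u, huW, rfl⟩)
  let w : Fin t.card → Σ a, (M a).left.affineOpens := fun j => (t.equivFin.symm j).1
  let d : ∀ j, Over.mk ((w j).2.1.ι ≫ (M (w j).1).hom) ⟶ M (w j).1 := fun j => Over.homMk (w j).2.1.ι rfl
  refine ⟨t.card, _, fun j => d j ≫ μ (w j).1, fun j => (w j).2.2, fun j => ?_, fun x => ?_,
    fun j => ⟨(w j).1, d j, rfl⟩⟩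
  · have := hμ (w j).1
    change Flat ((w j).2.1.ι ≫ (μ (w j).1).left)
    infer_instance
  · obtain ⟨W, hW, u, hu, rfl⟩ := Set.mem_iUnion₂.1 (ht (Set.mem_univ x))
    refine ⟨t.equivFin ⟨W, hW⟩, ?_⟩
    have key : ∀ W₁ : Σ a, (M a).left.affineOpens, W₁ = W →
        (μ W.1).left u ∈ Set.range (W₁.2.1.ι ≫ (μ W₁.1).left) := by
      rintro _ rfl
      exact ⟨⟨u, hu⟩, rfl⟩
    exact key _ (by simp [w])

theorem affWith_of_etale_family {Q : MorphismProperty Scheme.{u}} [IsZariskiLocalAtTarget Q]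
    [Q.DescendsAlong (@Surjective ⊓ @Flat ⊓ @QuasiCompact)] (hX : IsAlgSpace X) (hY : IsAlgSpace Y) (f : X ⟶ Y)
    {κ : Type*} (V : κ → Over S) (b : ∀ a, (yon S).obj (V a) ⟶ Y) (hb : ∀ a, RepWith @Etale (b a))
    (hs : ∀ y : Points Y, ∃ a, y ∈ Set.range (Points.map (b a)))
    (h : ∀ a, ∀ ⦃D : Over S⦄, IsAffine D.left → ∀ (l : D ⟶ V a),
      ∃ (W' : Over S) (i : W' ⟶ D) (fst : (yon S).obj W' ⟶ X),
        IsPullback fst ((yon S).map i) f ((yon S).map l ≫ b a) ∧ IsAffine W'.left ∧ Q i.left) :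
    AffWith Q f := by
  refine affWith_of_local hX hY f fun Z hZ g => ?_
  choose M fst μ sq hμ using fun a => exists_square (hb a) g
  choose fst' hfst' using fun a => (yon S).map_surjective (fst a)
  obtain ⟨m, W, c, hW, hc, hsW, hd⟩ := exists_affine_refinement_family M μ hμ (fun t => by
    obtain ⟨a, v, hv⟩ := hs (Points.map g (Points.ofScheme Z t))
    obtain ⟨z, -, hz⟩ := points_surj (sq a) v (Points.ofScheme Z t) hv
    obtain ⟨z, rfl⟩ := ofScheme_surjective (M a) z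
    rw [map_ofScheme] at hz
    exact ⟨a, z, (Points.schemeEquiv Z).injective hz⟩)
  refine ⟨m, W, c, hW, hc, hsW, fun j => ?_⟩
  obtain ⟨a, d, hd⟩ := hd j
  obtain ⟨W', i, fW, sqW, hW', hQ⟩ := h a (hW j) (d ≫ fst' a)
  refine ⟨W', i, fW, ?_, hW', hQ⟩
  have e : (yon S).map (d ≫ fst' a) ≫ b a = (yon S).map (c j) ≫ g := by
    rw [Functor.map_comp, hfst', Category.assoc, (sq a).w, ← Category.assoc, ← Functor.map_comp, hd]
  rwa [← e]

theorem affWith_of_cover {Q : MorphismProperty Scheme.{u}} [IsZariskiLocalAtTarget Q]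
    [Q.DescendsAlong (@Surjective ⊓ @Flat ⊓ @QuasiCompact)] (hX : IsAlgSpace X) (hY : IsAlgSpace Y) (f : X ⟶ Y)
    {V : Over S} {p : (yon S).obj V ⟶ Y} (hp : RepWith @Etale p) (hps : RepWith @Surjective p)
    {P : Sp S} {fst : P ⟶ X} {snd : P ⟶ (yon S).obj V} (sq : IsPullback fst snd f p) (h : AffWith Q snd) :
    AffWith Q f := by
  refine affWith_of_etale_family hX hY f (fun _ : PUnit.{1} => V) (fun _ => p) (fun _ => hp)
    (fun y => ⟨⟨⟩, surjective_of_repWith hps y⟩) fun _ D hD l => ?_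
  obtain ⟨W', i, t, sqt, hW', hQ⟩ := h hD ((yon S).map l)
  exact ⟨W', i, t ≫ fst, sqt.paste_horiz sq, hW', hQ⟩

end AlgSpTopo

namespace AlgSpTopo
open AlgSp

instance descendsAlong_top_fpqc :
    (⊤ : MorphismProperty Scheme.{u}).DescendsAlong (@Surjective ⊓ @Flat ⊓ @QuasiCompact) :=
  MorphismProperty.DescendsAlong.mk' fun _ _ => trivial

theorem descendsAlong_isIntegralHom :
    MorphismProperty.DescendsAlong @IsIntegralHom (@Surjective ⊓ @Flat ⊓ @QuasiCompact : MorphismProperty Scheme.{u}) :=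
  Groth.Agent.Fpqc.Descent.isIntegralHom

theorem descendsAlong_isFinite :
    MorphismProperty.DescendsAlong @IsFinite (@Surjective ⊓ @Flat ⊓ @QuasiCompact : MorphismProperty Scheme.{u}) :=
  Groth.Agent.Fpqc.Descent.isFinite

theorem isAffineMor_fpqc {S : Scheme.{u}} : IsLocalOnBase (IsFpqcCover (S := S)) IsAffineMor := by
  have e : (fun _ _ f => AffWith (S := S) ⊤ f) = (IsAffineMor : MorphismProperty (Sp S)) := by
    funext X Y f; exact propext (affWith_top_iff f)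
  have h := affWith_fpqc (S := S) (Q := ⊤)
  rwa [e] at h

end AlgSpTopo
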