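import Mathlib
import Groth.Agent.AlgSpTopo.OpenSub
import Groth.Agent.AlgSpTopo.OpenImm
import Groth.Agent.AlgSpTopo.Iso

/-! A sheaf covered by open subsheaves which are schemes is a scheme. -/

set_option autoImplicit false
set_option backward.isDefEq.respectTransparency false
universe u
open CategoryTheory CategoryTheory.Limits AlgebraicGeometry Opposite

noncomputable section

namespace AlgSpTopo
open AlgSp

variable {S : Scheme.{u}}

/-- morphisms out of a representable sheaf glue along open covers -/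
theorem existsUnique_glue {H : Sp S} {T : Over S} {κ : Type u} (W : κ → Over S) (c : ∀ a, W a ⟶ T)
    (hc : ∀ a, IsOpenImmersion (c a).left) (hs : ∀ t : ↥T.left, ∃ a, t ∈ Set.range (c a).left)
    (x : ∀ a, (yon S).obj (W a) ⟶ H)
    (hx : ∀ a b ⦃Z : Over S⦄ (p : Z ⟶ W a) (q : Z ⟶ W b), p ≫ c a = q ≫ c b →
      (yon S).map p ≫ x a = (yon S).map q ≫ x b) :
    ∃! φ : (yon S).obj T ⟶ H, ∀ a, (yon S).map (c a) ≫ φ = x a := by
  have hR : Sieve.generate (Presieve.ofArrows W c) ∈ J S T := by
    rw [J_eq, GrothendieckTopology.mem_over_iff]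
    refine GrothendieckTopology.superset_covering _ ?_
      (Precoverage.generate_mem_toGrothendieck
        (R := Presieve.ofArrows (fun a => (W a).left) fun a => (c a).left) ?_)
    · rw [Sieve.generate_le_iff]
      intro _ g ⟨a⟩
      exact (Sieve.overEquiv_iff _ _).2 ⟨W a, Over.homMk (𝟙 _) (by simp), c a, ⟨a⟩, by ext; simp⟩
    · exact (Scheme.ofArrows_mem_precoverage_iff _).2
        ⟨hs, fun a => have := hc a; ⟨inferInstance, inferInstance⟩⟩
  have h1 := (Presieve.isSheafFor_arrows_iff _ _).1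
    ((Presieve.isSheafFor_iff_generate _).2 (((isSheaf_iff_isSheaf_of_type _ _).1 H.property) _ hR))
  let e := fun (T' : Over S) => GrothendieckTopology.uliftYonedaEquiv.{u+1} (J S) (X := T') (F := H)
  have he : ∀ {A B : Over S} (g : A ⟶ B) (s : (yon S).obj B ⟶ H),
      H.obj.map g.op (e B s) = e A ((yon S).map g ≫ s) :=
    fun g s => GrothendieckTopology.uliftYonedaEquiv_naturality _ s g
  obtain ⟨t, ht, ht'⟩ := h1 (fun a => e (W a) (x a)) fun a b Z p q hpq => by
    rw [he, he, hx a b p q hpq]
  refine ⟨(e T).symm t, fun a => (e (W a)).injective ?_, fun φ hφ => (e T).injective ?_⟩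
  · rw [← he, Equiv.apply_symm_apply]
    exact ht a
  · rw [Equiv.apply_symm_apply]
    refine ht' _ fun a => ?_
    rw [he, hφ a]

variable {P : Sp S} {κ : Type u} {W : κ → Over S} {j : ∀ a, (yon S).obj (W a) ⟶ P}
  (hj : ∀ a, RepWith @IsOpenImmersion (j a))

include hj

theorem mono_chart (a : κ) : Mono (j a) := mono_of_repWith (j a) (hj a) fun _ _ g hg => inferInstance

/-- overlap -/
abbrev glV (a b : κ) : Over S := (hj b).rep.pullback (j a)
/-- overlap into the first chart -/
abbrev glF (a b : κ) : glV hj a b ⟶ W a := (hj b).rep.snd (j a)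
/-- overlap into the second chart -/
abbrev glG (a b : κ) : glV hj a b ⟶ W b := (hj b).rep.fst' (j a)
/-- transition -/
abbrev glT (a b : κ) : glV hj a b ⟶ glV hj b a := (hj b).rep.symmetry (hj a).rep

instance glF_open (a b : κ) : IsOpenImmersion (glF hj a b).left :=
  (hj b).property _ _ _ ((hj b).rep.isPullback (j a))

instance glF_mono (a b : κ) : Mono (glF hj a b) :=
  (Over.forget S).mono_of_mono_map (inferInstanceAs (Mono (glF hj a b).left))

theorem gl_w (a b : κ) : (yon S).map (glG hj a b) ≫ j b = (yon S).map (glF hj a b) ≫ j a :=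
  ((hj b).rep.isPullback' (j a)).w

theorem glT_f (a b : κ) : glT hj a b ≫ glF hj b a = glG hj a b := (hj b).rep.symmetry_snd (hj a).rep

theorem glT_g (a b : κ) : glT hj a b ≫ glG hj b a = glF hj a b := (hj b).rep.symmetry_fst (hj a).rep

theorem glG_self (a : κ) : glG hj a a = glF hj a a :=
  have := mono_chart hj a
  (yon S).map_injective ((cancel_mono (j a)).1 (gl_w hj a a))

instance glF_iso (a : κ) : IsIso (glF hj a a) := by
  let l := (hj a).rep.lift' (g := j a) (𝟙 (W a)) (𝟙 (W a)) rfl
  refine ⟨l, ?_, (hj a).rep.lift'_snd _ _ _⟩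
  rw [← cancel_mono (glF hj a a), Category.assoc]
  erw [(hj a).rep.lift'_snd]
  simp

/-- triple overlap -/
abbrev glO (a b c : κ) : Over S :=
  Over.mk (pullback.fst (glF hj a b).left (glF hj a c).left ≫ (glV hj a b).hom)
/-- first projection -/
abbrev glP (a b c : κ) : glO hj a b c ⟶ glV hj a b := Over.homMk (pullback.fst _ _) rfl
/-- second projection -/
abbrev glQ (a b c : κ) : glO hj a b c ⟶ glV hj a c := Over.homMk (pullback.snd _ _) (by
  change _ = pullback.fst _ _ ≫ _
  rw [← Over.w (glF hj a c), ← Over.w (glF hj a b), pullback.condition_assoc])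

theorem glPQ (a b c : κ) : glP hj a b c ≫ glF hj a b = glQ hj a b c ≫ glF hj a c := by
  ext; exact pullback.condition

theorem gl_w₃ (a b c : κ) : (yon S).map (glQ hj a b c ≫ glG hj a c) ≫ j c =
    (yon S).map (glP hj a b c ≫ glG hj a b) ≫ j b := by
  rw [Functor.map_comp_assoc, gl_w, ← Functor.map_comp_assoc, ← glPQ, Functor.map_comp_assoc,
    ← gl_w, ← Functor.map_comp_assoc]

/-- rotation of triple overlaps -/
def glT' (a b c : κ) : glO hj a b c ⟶ glO hj b c a :=
  Over.homMk (pullback.lift ((hj c).rep.lift' (g := j b) (glQ hj a b c ≫ glG hj a c)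
      (glP hj a b c ≫ glG hj a b) (gl_w₃ hj a b c)).left (glP hj a b c ≫ glT hj a b).left (by
    rw [← Over.comp_left, ← Over.comp_left, Category.assoc, glT_f]
    erw [(hj c).rep.lift'_snd])) (by
    change pullback.lift _ _ _ ≫ pullback.fst _ _ ≫ _ = _
    rw [pullback.lift_fst_assoc, Over.w])

theorem glT'_p (a b c : κ) : glT' hj a b c ≫ glP hj b c a = (hj c).rep.lift' (g := j b)
    (glQ hj a b c ≫ glG hj a c) (glP hj a b c ≫ glG hj a b) (gl_w₃ hj a b c) := by
  ext; exact pullback.lift_fst _ _ _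

theorem glT'_q (a b c : κ) : glT' hj a b c ≫ glQ hj b c a = glP hj a b c ≫ glT hj a b := by
  ext; exact pullback.lift_snd _ _ _

theorem glT'_π₁ (a b c : κ) :
    glT' hj a b c ≫ glP hj b c a ≫ glF hj b c = glP hj a b c ≫ glG hj a b := by
  rw [← Category.assoc, glT'_p]
  exact (hj c).rep.lift'_snd _ _ _

theorem glT'_π₂ (a b c : κ) :
    glT' hj a b c ≫ glP hj b c a ≫ glG hj b c = glQ hj a b c ≫ glG hj a c := by
  rw [← Category.assoc, glT'_p]
  exact (hj c).rep.lift'_fst _ _ _

theorem glT'_π₃ (a b c : κ) :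
    glT' hj a b c ≫ glQ hj b c a ≫ glG hj b a = glP hj a b c ≫ glF hj a b := by
  rw [← Category.assoc, glT'_q, Category.assoc, glT_g]

theorem glT'_cocycle (a b c : κ) :
    glT' hj a b c ≫ glT' hj b c a ≫ glT' hj c a b = 𝟙 _ := by
  have h : (glT' hj a b c ≫ glT' hj b c a ≫ glT' hj c a b) ≫ glP hj a b c ≫ glF hj a b =
      glP hj a b c ≫ glF hj a b := by
    simp only [Category.assoc]
    rw [glT'_π₁, glT'_π₂, glT'_π₃]
  have hp : (glT' hj a b c ≫ glT' hj b c a ≫ glT' hj c a b) ≫ glP hj a b c = glP hj a b c := by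
    rw [← cancel_mono (glF hj a b), Category.assoc]; exact h
  have hq : (glT' hj a b c ≫ glT' hj b c a ≫ glT' hj c a b) ≫ glQ hj a b c = glQ hj a b c := by
    rw [← cancel_mono (glF hj a c), Category.assoc, ← glPQ]; exact h
  ext
  refine pullback.hom_ext ?_ ?_
  · have := congrArg (fun k => k.left) hp
    simpa using this
  · have := congrArg (fun k => k.left) hq
    simpa using this

/-- the gluing datum of an open cover by schemes -/
def glueData : Scheme.GlueData.{u} where
  J := κ
  U a := (W a).left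
  V := fun (a, b) => (glV hj a b).left
  f a b := (glF hj a b).left
  f_id a := inferInstanceAs (IsIso ((Over.forget S).map (glF hj a a)))
  t a b := (glT hj a b).left
  t_id a := by
    rw [show glT hj a a = 𝟙 _ from (cancel_mono (glF hj a a)).1 (by
      rw [glT_f, glG_self, Category.id_comp])]
    rfl
  t' a b c := (glT' hj a b c).left
  t_fac a b c := congrArg (fun k => k.left) (glT'_q hj a b c)
  cocycle a b c := congrArg (fun k => k.left) (glT'_cocycle hj a b c)
  f_open a b := glF_open hj a b

/-- structure map of the glued scheme -/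
def gluedHom : (glueData hj).glued ⟶ S :=
  Multicoequalizer.desc _ _ (fun a => (W a).hom) (by
    rintro ⟨a, b⟩
    change (glF hj a b).left ≫ (W a).hom = ((glT hj a b).left ≫ (glF hj b a).left) ≫ (W b).hom
    rw [← Over.comp_left, glT_f, Over.w, Over.w])

/-- the glued scheme over `S` -/
abbrev gluedOver : Over S := Over.mk (gluedHom hj)

/-- chart -/
abbrev gluedι (a : κ) : W a ⟶ gluedOver hj :=
  Over.homMk ((glueData hj).ι a) (by exact Multicoequalizer.π_desc (glueData hj).diagram S _ _ a)

theorem gluedι_open (a : κ) : IsOpenImmersion (gluedι hj a).left :=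
  inferInstanceAs (IsOpenImmersion ((glueData hj).openCover.f a))

theorem gluedι_surj (x : ↥(gluedOver hj).left) : ∃ a, x ∈ Set.range (gluedι hj a).left := by
  obtain ⟨a, y, h⟩ := (glueData hj).ι_jointly_surjective x
  exact ⟨a, y, h⟩

theorem glF_ι (a b : κ) : glF hj a b ≫ gluedι hj a = glG hj a b ≫ gluedι hj b := by
  rw [← glT_f hj a b, Category.assoc]
  ext
  exact ((glueData hj).glue_condition a b).symm

theorem gluedι_compat (a b : κ) ⦃Z : Over S⦄ (p : Z ⟶ W a) (q : Z ⟶ W b)
    (h : p ≫ gluedι hj a = q ≫ gluedι hj b) : (yon S).map p ≫ j a = (yon S).map q ≫ j b := by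
  obtain ⟨v, hv1, hv2⟩ : ∃ v : Z.left ⟶ (glV hj a b).left, v ≫ (glF hj a b).left = p.left ∧
      v ≫ (glT hj a b).left ≫ (glF hj b a).left = q.left :=
    ⟨_, PullbackCone.IsLimit.lift_fst ((glueData hj).vPullbackConeIsLimit a b) p.left q.left
      (congrArg (fun k => k.left) h),
     PullbackCone.IsLimit.lift_snd ((glueData hj).vPullbackConeIsLimit a b) p.left q.left
      (congrArg (fun k => k.left) h)⟩
  let v' : Z ⟶ glV hj a b := Over.homMk v (by
    rw [← Over.w (glF hj a b), ← Category.assoc, hv1, Over.w])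
  have e1 : v' ≫ glF hj a b = p := by ext; exact hv1
  have e2 : v' ≫ glG hj a b = q := by rw [← glT_f]; ext; exact hv2
  rw [← e1, ← e2, Functor.map_comp_assoc, Functor.map_comp_assoc, gl_w]

/-- a sheaf covered by open subsheaves which are schemes is a scheme -/
theorem exists_iso_yon_of_open_cover (hs : ∀ x : Points P, ∃ a, x ∈ Set.range (Points.map (j a))) :
    ∃ T : Over S, Nonempty ((yon S).obj T ≅ P) := by
  obtain ⟨φ, hφ, -⟩ := existsUnique_glue W (gluedι hj) (gluedι_open hj) (gluedι_surj hj) j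
    (gluedι_compat hj)
  have inj : ∀ (U : Over S) (x y : (yon S).obj U ⟶ (yon S).obj (gluedOver hj)),
      x ≫ φ = y ≫ φ → x = y := by
    intro U x y hxy
    obtain ⟨x, rfl⟩ := (yon S).map_surjective x
    obtain ⟨y, rfl⟩ := (yon S).map_surjective y
    have := gluedι_open hj
    let O : κ × κ → U.left.Opens := fun ab =>
      x.left ⁻¹ᵁ (gluedι hj ab.1).left.opensRange ⊓ y.left ⁻¹ᵁ (gluedι hj ab.2).left.opensRange
    let c : ∀ ab, Over.mk ((O ab).ι ≫ U.hom) ⟶ U := fun ab => Over.homMk (O ab).ι rfl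
    have key : ∀ ab, c ab ≫ x = c ab ≫ y := by
      rintro ⟨a, b⟩
      have hx : Set.range (c (a, b) ≫ x).left ⊆ Set.range (gluedι hj a).left := by
        rintro _ ⟨z, rfl⟩; exact z.2.1
      have hy : Set.range (c (a, b) ≫ y).left ⊆ Set.range (gluedι hj b).left := by
        rintro _ ⟨z, rfl⟩; exact z.2.2
      let x' : Over.mk ((O (a, b)).ι ≫ U.hom) ⟶ W a := Over.homMk
        (IsOpenImmersion.lift (gluedι hj a).left (c (a, b) ≫ x).left hx) (by
          rw [← Over.w (gluedι hj a), IsOpenImmersion.lift_fac_assoc, Over.w])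
      let y' : Over.mk ((O (a, b)).ι ≫ U.hom) ⟶ W b := Over.homMk
        (IsOpenImmersion.lift (gluedι hj b).left (c (a, b) ≫ y).left hy) (by
          rw [← Over.w (gluedι hj b), IsOpenImmersion.lift_fac_assoc, Over.w])
      have ex : x' ≫ gluedι hj a = c (a, b) ≫ x := by ext; exact IsOpenImmersion.lift_fac _ _ _
      have ey : y' ≫ gluedι hj b = c (a, b) ≫ y := by ext; exact IsOpenImmersion.lift_fac _ _ _
      have hP : (yon S).map y' ≫ j b = (yon S).map x' ≫ j a := by
        rw [← hφ, ← hφ, ← Functor.map_comp_assoc, ← Functor.map_comp_assoc, ex, ey,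
          Functor.map_comp_assoc, Functor.map_comp_assoc, hxy]
      let v := (hj b).rep.lift' (g := j a) y' x' hP
      rw [← ex, ← ey, ← (hj b).rep.lift'_snd y' x' hP]
      conv_rhs => rw [← (hj b).rep.lift'_fst y' x' hP]
      rw [Category.assoc, Category.assoc]
      exact congrArg (v ≫ ·) (glF_ι hj a b)
    refine (existsUnique_glue _ c (fun ab => inferInstanceAs (IsOpenImmersion (O ab).ι)) (fun t => ?_)
      (fun ab => (yon S).map (c ab ≫ x)) (fun a b Z p q h => ?_)).unique
      (fun ab => ((yon S).map_comp _ _).symm) (fun ab => by rw [← Functor.map_comp, key])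
    · obtain ⟨a, ha⟩ := gluedι_surj hj (x.left t)
      obtain ⟨b, hb⟩ := gluedι_surj hj (y.left t)
      exact ⟨(a, b), ⟨t, ha, hb⟩, rfl⟩
    · rw [← Functor.map_comp, ← Functor.map_comp, reassoc_of% h]
  have : IsIso φ := by
    refine isIso_of_bijective_yon φ inj fun U k => ?_
    choose M fst snd sq hsnd using fun a => exists_square (hj a) k
    choose F hF using fun a => (yon S).map_surjective (fst a)
    obtain ⟨l, hl, -⟩ := existsUnique_glue M snd hsnd (fun t => by
      obtain ⟨a, v, hv⟩ := hs (Points.map k (Points.ofScheme U t))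
      obtain ⟨z, -, hz⟩ := points_surj (sq a) v (Points.ofScheme U t) hv
      obtain ⟨z, rfl⟩ := ofScheme_surjective (M a) z
      rw [map_ofScheme] at hz
      exact ⟨a, z, (Points.schemeEquiv U).injective hz⟩)
      (fun a => (yon S).map (F a ≫ gluedι hj a)) (fun a b Z p q h => by
        rw [← Functor.map_comp, ← Functor.map_comp]
        refine inj Z _ _ ?_
        simp only [Functor.map_comp, Category.assoc, hφ, hF, (sq a).w, (sq b).w]
        rw [← Functor.map_comp_assoc, ← Functor.map_comp_assoc, h])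
    refine ⟨l, (existsUnique_glue M snd hsnd ?_ (fun a => fst a ≫ j a) ?_).unique
      (fun a => by rw [reassoc_of% (hl a)]; simp [hφ, hF]) (fun a => (sq a).w.symm)⟩
    · intro t
      obtain ⟨a, v, hv⟩ := hs (Points.map k (Points.ofScheme U t))
      obtain ⟨z, -, hz⟩ := points_surj (sq a) v (Points.ofScheme U t) hv
      obtain ⟨z, rfl⟩ := ofScheme_surjective (M a) z
      rw [map_ofScheme] at hz
      exact ⟨a, z, (Points.schemeEquiv U).injective hz⟩
    · intro a b Z p q h
      rw [(sq a).w, (sq b).w, ← Functor.map_comp_assoc, ← Functor.map_comp_assoc, h]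
  exact ⟨_, ⟨asIso φ⟩⟩

end AlgSpTopo
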