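import Mathlib
import Groth.Agent.AlgSpTopo.AffineLocal
import Groth.Agent.AlgSpTopo.Representable
import Groth.Prelude.Def_AlgSpMor5

/-! Affine morphisms of algebraic spaces are representable. -/

set_option autoImplicit false
set_option backward.isDefEq.respectTransparency false
universe u
open CategoryTheory CategoryTheory.Limits AlgebraicGeometry Opposite

namespace AlgSpTopo
open AlgSp

variable {S : Scheme.{u}} {X Y : Sp S}

theorem affWith_mono {Q Q' : MorphismProperty Scheme.{u}} {f : X ⟶ Y}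
    (hQ : ∀ ⦃A B : Scheme.{u}⦄ (i : A ⟶ B), IsAffine A → IsAffine B → Q i → Q' i) (h : AffWith Q f) :
    AffWith Q' f := fun Z hZ g =>
  let ⟨W, i, fst, sq, hW, hi⟩ := h hZ g; ⟨W, i, fst, sq, hW, hQ _ hW hZ hi⟩

/-- representability by schemes with a Zariski local property is tested on affine schemes -/
theorem repWith_of_affine_bc {P : MorphismProperty Scheme.{u}} [IsZariskiLocalAtTarget P] {f : X ⟶ Y}
    (h : ∀ ⦃Z : Over S⦄, IsAffine Z.left → ∀ (g : (yon S).obj Z ⟶ Y),
      ∃ (W : Over S) (i : W ⟶ Z) (fst : (yon S).obj W ⟶ X),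
        IsPullback fst ((yon S).map i) f g ∧ P i.left) :
    RepWith P f := by
  refine MorphismProperty.relative.of_exists fun Z g => ?_
  have H := IsPullback.of_hasPullback f g
  let U : Z.left.affineOpens → Over S := fun a => Over.mk (a.1.ι ≫ Z.hom)
  let c : ∀ a, U a ⟶ Z := fun a => Over.homMk a.1.ι rfl
  choose W i fst sq hi using fun a => h (Z := U a) a.2 ((yon S).map (c a) ≫ g)
  have hP : ∀ a, ∃ t : (yon S).obj (W a) ⟶ pullback f g,
      IsPullback t ((yon S).map (i a)) (pullback.snd f g) ((yon S).map (c a)) := by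
    intro a
    obtain ⟨t, ht1, ht2⟩ := H.exists_lift (fst a) ((yon S).map (i a) ≫ (yon S).map (c a))
      (by rw [(sq a).w, Category.assoc])
    refine ⟨t, IsPullback.of_right ?_ ht2 H⟩
    rw [ht1]; exact sq a
  choose t ht using hP
  have ht' : ∀ a, RepWith @IsOpenImmersion (t a) := fun a =>
    MorphismProperty.of_isPullback (P := RepWith @IsOpenImmersion) (ht a).flip
      ((repWith_yon_map_iff _ _).2 (inferInstanceAs (IsOpenImmersion a.1.ι)))
  obtain ⟨T, ⟨e⟩⟩ := exists_iso_yon_of_open_cover ht' fun x => by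
    obtain ⟨z, hz⟩ := ofScheme_surjective Z (Points.map (pullback.snd f g) x)
    obtain ⟨V, hV, hzV, -⟩ := exists_isAffineOpen_mem_and_subset (U := (⊤ : Z.left.Opens)) (x := z) trivial
    obtain ⟨w, hw, -⟩ := points_surj (ht ⟨V, hV⟩) x (Points.ofScheme (U ⟨V, hV⟩) ⟨z, hzV⟩) (by
      rw [← hz, map_ofScheme]; rfl)
    exact ⟨⟨V, hV⟩, w, hw⟩
  obtain ⟨s, hs⟩ := (yon S).map_surjective (e.hom ≫ pullback.snd f g)
  have sqT : IsPullback (e.hom ≫ pullback.fst f g) ((yon S).map s) f g :=
    IsPullback.of_iso H e.symm (Iso.refl _) (Iso.refl _) (Iso.refl _) (by simp) (by simp [hs])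
      (by simp) (by simp)
  refine ⟨T, _, s, sqT, ?_⟩
  refine IsZariskiLocalAtTarget.of_openCover
    (Scheme.openCoverOfIsOpenCover Z.left (fun a : Z.left.affineOpens => a.1)
      (iSup_affineOpens_eq_top Z.left)) fun a => ?_
  obtain ⟨l, hl1, hl2⟩ := sqT.exists_lift (fst a) ((yon S).map (i a) ≫ (yon S).map (c a))
    (by rw [(sq a).w, Category.assoc])
  have sql : IsPullback l ((yon S).map (i a)) ((yon S).map s) ((yon S).map (c a)) := by
    refine IsPullback.of_right ?_ hl2 sqT
    rw [hl1]; exact sq a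
  obtain ⟨l', rfl⟩ := (yon S).map_surjective l
  have sq' : IsPullback l' (i a) s (c a) := IsPullback.of_map (yon S)
    ((yon S).map_injective (by simpa using sql.w)) sql
  have : P ((Over.forget S).map (i a)) := hi a
  rw [← (sq'.map (Over.forget S)).isoPullback_hom_snd] at this
  exact (P.cancel_left_of_respectsIso _ _).1 this

theorem repWith_of_affWith {Q P : MorphismProperty Scheme.{u}} [IsZariskiLocalAtTarget P]
    (hQP : ∀ ⦃A B : Scheme.{u}⦄ (i : A ⟶ B), IsAffine A → IsAffine B → Q i → P i) {f : X ⟶ Y}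
    (h : AffWith Q f) : RepWith P f :=
  repWith_of_affine_bc fun _ hZ g =>
    let ⟨W, i, fst, sq, hW, hi⟩ := h hZ g; ⟨W, i, fst, sq, hQP _ hW hZ hi⟩

theorem affWith_of_repWith {Q P : MorphismProperty Scheme.{u}}
    (hPA : ∀ ⦃A B : Scheme.{u}⦄ (i : A ⟶ B), P i → IsAffineHom i)
    (hQ : ∀ ⦃A B : Scheme.{u}⦄ (i : A ⟶ B), P i → Q i) {f : X ⟶ Y} (h : RepWith P f) :
    AffWith Q f := by
  intro Z hZ g
  obtain ⟨W, fst, snd, sq, hs⟩ := exists_square h g
  have := hPA _ hs
  have := hZ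
  exact ⟨W, snd, fst, sq, isAffine_of_isAffineHom snd.left, hQ _ hs⟩

theorem affWith_iff_repWith {P : MorphismProperty Scheme.{u}} [IsZariskiLocalAtTarget P]
    (hPA : ∀ ⦃A B : Scheme.{u}⦄ (i : A ⟶ B), P i → IsAffineHom i) (f : X ⟶ Y) :
    AffWith P f ↔ RepWith P f :=
  ⟨repWith_of_affWith (fun _ _ _ _ _ h => h), affWith_of_repWith hPA fun _ _ _ h => h⟩

theorem repWith_fpqc {P : MorphismProperty Scheme.{u}} [IsZariskiLocalAtTarget P]
    [P.DescendsAlong (@Surjective ⊓ @Flat ⊓ @QuasiCompact)]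
    (hPA : ∀ ⦃A B : Scheme.{u}⦄ (i : A ⟶ B), P i → IsAffineHom i) :
    IsLocalOnBase (IsFpqcCover (S := S)) (RepWith P) := by
  have e : (fun _ _ f => AffWith (S := S) P f) = (RepWith P : MorphismProperty (Sp S)) := by
    funext A B f; exact propext (affWith_iff_repWith hPA f)
  have h := affWith_fpqc (S := S) (Q := P)
  rwa [e] at h

end AlgSpTopo

namespace AlgSpTopo
open AlgSp

theorem finLocFree_eq : (finLocFree.{u}) = (@IsFinite ⊓ (@Flat ⊓ @LocallyOfFinitePresentation) : MorphismProperty Scheme.{u}) := rfl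

instance finLocFree_zlt : IsZariskiLocalAtTarget (finLocFree.{u}) := by
  rw [finLocFree_eq]; infer_instance

theorem finLocFree_affine ⦃A B : Scheme.{u}⦄ (i : A ⟶ B) (h : finLocFree i) : IsAffineHom i :=
  have := h.1; inferInstance

theorem closedImmersion_affine ⦃A B : Scheme.{u}⦄ (i : A ⟶ B) (h : IsClosedImmersion i) : IsAffineHom i :=
  inferInstance

theorem integral_affine ⦃A B : Scheme.{u}⦄ (i : A ⟶ B) (h : IsIntegralHom i) : IsAffineHom i :=
  inferInstance

theorem finite_affine ⦃A B : Scheme.{u}⦄ (i : A ⟶ B) (h : IsFinite i) : IsAffineHom i :=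
  inferInstance

theorem isIntegralMor_iff {S : Scheme.{u}} {X Y : Sp S} (f : X ⟶ Y) :
    IsIntegralMor f ↔ RepWith @IsIntegralHom f :=
  affWith_iff_repWith (P := @IsIntegralHom) integral_affine f

theorem isFiniteMor_iff {S : Scheme.{u}} {X Y : Sp S} (f : X ⟶ Y) :
    IsFiniteMor f ↔ RepWith @IsFinite f :=
  affWith_iff_repWith (P := @IsFinite) finite_affine f

theorem repWith_of_isAffineMor {S : Scheme.{u}} {X Y : Sp S} {f : X ⟶ Y} (h : IsAffineMor f) :
    RepWith @IsAffineHom f :=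
  repWith_of_affWith (Q := ⊤) (P := @IsAffineHom) (fun ⦃A B⦄ i hA hB _ => have := hA; have := hB; inferInstance)
    ((affWith_top_iff f).2 h)

end AlgSpTopo
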