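import Mathlib
import Groth.Prelude.Def_SGA1
import Groth.Agent.AlgSpTopo.Separation
import Groth.Agent.AlgSpTopo.Univ

/-! Representable properties versus properties on points. -/

set_option autoImplicit false
set_option backward.isDefEq.respectTransparency false
universe u
open CategoryTheory CategoryTheory.Limits AlgebraicGeometry Opposite Topology

namespace AlgSpTopo
open AlgSp

variable {S : Scheme.{u}} {X Y : Sp S}

theorem map_conj {W T : Over S} (φ : W ⟶ T) :
    Points.map ((yon S).map φ) = Points.schemeHomeo T ∘ (⇑φ.left) ∘ (Points.schemeHomeo W).symm :=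
  Points.map_yon_map_eq φ

theorem isClosedMap_map_yon {W T : Over S} (φ : W ⟶ T) :
    IsClosedMap (Points.map ((yon S).map φ)) ↔ IsClosedMap φ.left := by
  rw [map_conj]
  refine ⟨fun h => ?_, fun h => (Points.schemeHomeo T).isClosedMap.comp (h.comp (Points.schemeHomeo W).symm.isClosedMap)⟩
  have := ((Points.schemeHomeo T).symm.isClosedMap.comp h).comp (Points.schemeHomeo W).isClosedMap
  simpa [Function.comp_def] using this

theorem isOpenMap_map_yon {W T : Over S} (φ : W ⟶ T) :
    IsOpenMap (Points.map ((yon S).map φ)) ↔ IsOpenMap φ.left := by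
  rw [map_conj]
  refine ⟨fun h => ?_, fun h => (Points.schemeHomeo T).isOpenMap.comp (h.comp (Points.schemeHomeo W).symm.isOpenMap)⟩
  have := ((Points.schemeHomeo T).symm.isOpenMap.comp h).comp (Points.schemeHomeo W).isOpenMap
  simpa [Function.comp_def] using this

theorem injective_map_yon {W T : Over S} (φ : W ⟶ T) :
    Function.Injective (Points.map ((yon S).map φ)) ↔ Function.Injective φ.left := by
  rw [map_conj]; simp

theorem surjective_map_yon {W T : Over S} (φ : W ⟶ T) :
    Function.Surjective (Points.map ((yon S).map φ)) ↔ Function.Surjective φ.left := by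
  rw [map_conj]; simp

theorem isQuotientMap_map_yon {W T : Over S} (φ : W ⟶ T) :
    IsQuotientMap (Points.map ((yon S).map φ)) ↔ IsQuotientMap φ.left := by
  rw [map_conj]
  refine ⟨fun h => ?_, fun h => (Points.schemeHomeo T).isQuotientMap.comp (h.comp (Points.schemeHomeo W).symm.isQuotientMap)⟩
  have := ((Points.schemeHomeo T).symm.isQuotientMap.comp h).comp (Points.schemeHomeo W).isQuotientMap
  simpa [Function.comp_def] using this

theorem isHomeomorph_map_iso {A B : Sp S} (e : A ≅ B) : IsHomeomorph (Points.map e.hom) :=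
  (Homeomorph.mk
    ⟨Points.map e.hom, Points.map e.inv, fun x => by rw [← Points.map_comp, Iso.hom_inv_id, Points.map_id],
      fun x => by rw [← Points.map_comp, Iso.inv_hom_id, Points.map_id]⟩
    (Points.continuous_map _) (Points.continuous_map _)).isHomeomorph

/-- for a representable morphism a property is tested on the representing scheme -/
theorem exists_rep_snd {f : X ⟶ Y} (hf : Representable f) {Z : Over S} (g : (yon S).obj Z ⟶ Y) {P : Sp S}
    {fst : P ⟶ X} {snd : P ⟶ (yon S).obj Z} (sq : IsPullback fst snd f g) :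
    ∃ (W : Over S) (φ : W ⟶ Z) (e : (yon S).obj W ≅ P) (t : (yon S).obj W ⟶ X),
      IsPullback t ((yon S).map φ) f g ∧ e.hom ≫ snd = (yon S).map φ := by
  have H := hf.isPullback g
  exact ⟨_, _, H.isoIsPullback _ _ sq, _, H, H.isoIsPullback_hom_snd _ _ sq⟩

/-- the base change of a representable morphism along a morphism of schemes -/
theorem exists_square_bc {f : X ⟶ Y} {U V : Over S} {g : (yon S).obj U ⟶ Y} {fst : (yon S).obj V ⟶ X}
    {snd : V ⟶ U} (sq : IsPullback fst ((yon S).map snd) f g) {X' Y' : Scheme.{u}} (i₁ : X' ⟶ V.left)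
    (i₂ : Y' ⟶ U.left) (f' : X' ⟶ Y') (h : IsPullback i₁ f' snd.left i₂) :
    ∃ (ψ : Over.mk (f' ≫ i₂ ≫ U.hom) ⟶ Over.mk (i₂ ≫ U.hom)) (g' : (yon S).obj (Over.mk (i₂ ≫ U.hom)) ⟶ Y)
      (t : (yon S).obj (Over.mk (f' ≫ i₂ ≫ U.hom)) ⟶ X),
      ψ.left = f' ∧ IsPullback t ((yon S).map ψ) f g' := by
  let a : Over.mk (f' ≫ i₂ ≫ U.hom) ⟶ V := Over.homMk i₁ (by
    change i₁ ≫ V.hom = f' ≫ i₂ ≫ U.hom
    rw [← Over.w snd, ← Category.assoc, h.w, Category.assoc])
  let b : Over.mk (i₂ ≫ U.hom) ⟶ U := Over.homMk i₂ rfl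
  let ψ : Over.mk (f' ≫ i₂ ≫ U.hom) ⟶ Over.mk (i₂ ≫ U.hom) := Over.homMk f' rfl
  have sq' : IsPullback a ψ snd b := IsPullback.of_map (Over.forget S) (Over.OverMorphism.ext h.w) h
  exact ⟨ψ, _, _, rfl, (sq'.map (yon S)).paste_horiz sq⟩

variable {tQ : ∀ {A B : Type u}, [TopologicalSpace A] → [TopologicalSpace B] → (A → B) → Prop}

/-- a universal topological property of a representable morphism, from one on points -/
theorem repWith_universally {tP : ∀ ⦃A B : Sp S⦄, (A ⟶ B) → Prop}
    (hy : ∀ {W T : Over S} (φ : W ⟶ T), tP ((yon S).map φ) → topologically @tQ φ.left)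
    {f : X ⟶ Y} (hf : Representable f) (h : UnivSp (fun _ _ g => tP g) f) :
    RepWith (topologically @tQ).universally f := by
  refine ⟨hf, fun U V g fst snd sq => fun X' Y' i₁ i₂ f' hs => ?_⟩
  obtain ⟨ψ, g', t, e, sq'⟩ := exists_square_bc sq i₁ i₂ f' hs.flip
  have := hy ψ (h (IsAlgSpace.yon_obj _) g' t _ sq')
  rwa [e] at this

theorem repWith_universallyClosed_iff {f : X ⟶ Y} (hf : Representable f) :
    RepWith @UniversallyClosed f ↔ IsUnivClosedMor f := by
  refine ⟨fun h => (univClosed_iff_affine f).2 fun Z _ g P fst snd sq => ?_, fun h => ?_⟩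
  · obtain ⟨W, φ, e, t, sqW, he⟩ := exists_rep_snd hf g sq
    have : UniversallyClosed φ.left := h.property _ _ _ sqW
    have hc : IsClosedMap (Points.map (e.inv ≫ (yon S).map φ)) := by
      rw [funext (Points.map_comp _ _)]
      exact ((isClosedMap_map_yon φ).2 φ.left.isClosedMap).comp
        (isHomeomorph_map_iso e.symm).isClosedMap
    rwa [← he, Iso.inv_hom_id_assoc] at hc
  · rw [universallyClosed_eq]
    exact repWith_universally (fun φ => (isClosedMap_map_yon φ).1) hf h

theorem repWith_universallyOpen_iff {f : X ⟶ Y} (hf : Representable f) :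
    RepWith @UniversallyOpen f ↔ IsUnivOpenMor f := by
  refine ⟨fun h => (univOpen_iff_affine f).2 fun Z _ g P fst snd sq => ?_, fun h => ?_⟩
  · obtain ⟨W, φ, e, t, sqW, he⟩ := exists_rep_snd hf g sq
    have : UniversallyOpen φ.left := h.property _ _ _ sqW
    have hc : IsOpenMap (Points.map (e.inv ≫ (yon S).map φ)) := by
      rw [funext (Points.map_comp _ _)]
      exact ((isOpenMap_map_yon φ).2 φ.left.isOpenMap).comp
        (isHomeomorph_map_iso e.symm).isOpenMap
    rwa [← he, Iso.inv_hom_id_assoc] at hc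
  · rw [UniversallyOpen.eq]
    exact repWith_universally (fun φ => (isOpenMap_map_yon φ).1) hf h

theorem repWith_universallyInjective_iff {f : X ⟶ Y} (hf : Representable f) :
    RepWith @UniversallyInjective f ↔ IsUnivInjectiveMor f := by
  refine ⟨fun h Z Z' hZ g fst snd sq x₁ x₂ hx => ?_, fun h => ?_⟩
  · obtain ⟨T, hT, k, t, hk⟩ := exists_ofPt (Points.map snd x₁)
    have H := IsPullback.of_hasPullback snd k
    obtain ⟨W, φ, e, tW, sqW, he⟩ := exists_rep_snd hf (k ≫ g) (H.paste_horiz sq)
    have : UniversallyInjective φ.left := h.property _ _ _ sqW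
    have hc : Function.Injective (Points.map (e.inv ≫ (yon S).map φ)) := by
      rw [funext (Points.map_comp _ _)]
      exact ((injective_map_yon φ).2 φ.left.injective).comp (isHomeomorph_map_iso e.symm).injective
    rw [← he, Iso.inv_hom_id_assoc] at hc
    have hk' : Points.map k (Points.ofScheme T t) = Points.map snd x₁ := by
      rw [← Points.ofPt_eq_map_ofScheme, hk]
    obtain ⟨w₁, hw₁, hw₁'⟩ := points_surj H x₁ (Points.ofScheme T t) hk'.symm
    obtain ⟨w₂, hw₂, hw₂'⟩ := points_surj H x₂ (Points.ofScheme T t) (hx.symm.trans hk'.symm)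
    rw [← hw₁, ← hw₂, hc (hw₁'.trans hw₂'.symm)]
  · rw [universallyInjective_eq]
    exact repWith_universally (fun φ => (injective_map_yon φ).1) hf h

theorem repWith_surjective_iff {f : X ⟶ Y} (hf : Representable f) :
    RepWith @Surjective f ↔ IsSurjectiveMor f :=
  ⟨surjective_of_repWith, repWith_surjective_of_points hf⟩

theorem repWith_univSubmersive_iff {f : X ⟶ Y} (hf : Representable f) :
    RepWith SGA1.UnivSubmersive f → ∀ {Z : Over S} (g : (yon S).obj Z ⟶ Y) {P : Sp S} {fst : P ⟶ X}
      {snd : P ⟶ (yon S).obj Z}, IsPullback fst snd f g → IsQuotientMap (Points.map snd) := by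
  intro h Z g P fst snd sq
  obtain ⟨W, φ, e, t, sqW, he⟩ := exists_rep_snd hf g sq
  have h0 : SGA1.UnivSubmersive φ.left := h.property _ _ _ sqW
  have h' : IsQuotientMap φ.left := h0 (𝟙 _) (𝟙 _) φ.left (IsPullback.of_vert_isIso ⟨by simp⟩)
  have hc : IsQuotientMap (Points.map (e.inv ≫ (yon S).map φ)) := by
    rw [funext (Points.map_comp _ _)]
    exact ((isQuotientMap_map_yon φ).2 h').comp (isHomeomorph_map_iso e.symm).isQuotientMap
  rwa [← he, Iso.inv_hom_id_assoc] at hc

theorem repWith_quasiCompact_iff (hX : IsAlgSpace X) (hY : IsAlgSpace Y) {f : X ⟶ Y} (hf : Representable f) :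
    RepWith @QuasiCompact f ↔ IsQuasiCompactMor f := by
  refine ⟨fun h => isQuasiCompactMor_of_affine hX hY f fun T hT g P fst snd sq => ?_, fun h => ⟨hf, fun U V g fst snd sq => ?_⟩⟩
  · obtain ⟨W, φ, e, t, sqW, he⟩ := exists_rep_snd hf g sq
    have : QuasiCompact φ.left := h.property _ _ _ sqW
    have := hT
    have : CompactSpace ↥W.left := QuasiCompact.compactSpace_of_compactSpace φ.left
    exact compactSpace_of_surjective (F := (yon S).obj W) (π := e.hom) (Points.schemeHomeo W).compactSpace
      (isHomeomorph_map_iso e).surjective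
  · have hq : IsQuasiCompactMor ((yon S).map snd) :=
      fun Z Z' hZ hZq k fst' snd' sq' => h hZ hZq (k ≫ g) (fst' ≫ fst) snd' (sq'.paste_horiz sq)
    change QuasiCompact snd.left
    rw [quasiCompact_iff_forall_isAffineOpen]
    intro O hO
    have hc := isCompact_preimage (IsAlgSpace.yon_obj U) ((yon S).map snd) hq
      (Points.schemeHomeo U '' O) ((Points.schemeHomeo U).isOpenMap _ O.2) (hO.isCompact.image (Points.schemeHomeo U).continuous)
    rw [map_conj, Set.preimage_comp, Set.preimage_comp, (Points.schemeHomeo U).preimage_image,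
      ← (Points.schemeHomeo V).image_eq_preimage_symm, (Points.schemeHomeo V).isCompact_image] at hc
    exact hc

theorem diagP_iff_repWith {Q P : MorphismProperty Scheme.{u}} [Q.IsStableUnderBaseChange]
    (hP : ∀ ⦃A B : Scheme.{u}⦄ (s : A ⟶ B), P s ↔ Q (pullback.diagonal s)) {f : X ⟶ Y} (hf : Representable f) :
    DiagP Q f ↔ RepWith P f := by
  refine ⟨fun h => ⟨hf, fun U V g fst snd sq => (hP _).2 ?_⟩, fun h T a b hab E e he => ?_⟩
  · -- the equalizer of the two projections is the diagonal
    have H := IsPullback.of_hasPullback snd snd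
    let d : V ⟶ pullback snd snd := pullback.lift (𝟙 _) (𝟙 _) rfl
    have : IsSplitMono d := ⟨⟨pullback.fst snd snd, by simp [d]⟩⟩
    have hd : Mono d := inferInstance
    have he : IsEq d ((yon S).map (pullback.fst snd snd) ≫ fst) ((yon S).map (pullback.snd snd snd) ≫ fst) := by
      refine ⟨hd, by simp [d, ← Functor.map_comp_assoc], fun {W} k hk => ?_⟩
      have e : k ≫ (yon S).map (pullback.fst snd snd) = k ≫ (yon S).map (pullback.snd snd snd) :=
        sq.hom_ext (by simpa using hk) (by simp [← Functor.map_comp, pullback.condition])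
      exact ⟨k ≫ (yon S).map (pullback.fst snd snd), (H.map (yon S)).hom_ext
        (by simp [d, ← Functor.map_comp]) (by simp [d, ← Functor.map_comp, e])⟩
    have hQ : Q d.left := h _ _ (by
      simp only [Category.assoc, sq.w]
      rw [← Functor.map_comp_assoc, pullback.condition, Functor.map_comp_assoc]) d he
    have H' := H.map (Over.forget S)
    rw [← Q.cancel_right_of_respectsIso d.left H'.isoPullback.hom] at hQ
    change Q (pullback.diagonal snd.left)
    suffices e' : d.left ≫ H'.isoPullback.hom = pullback.diagonal snd.left by rw [← e']; exact hQ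
    refine pullback.hom_ext ?_ ?_
    · rw [Category.assoc, H'.isoPullback_hom_fst]
      exact (congrArg (fun k => k.left) (pullback.lift_fst (f := snd) (g := snd) (𝟙 V) (𝟙 V) rfl)).trans
        (pullback.diagonal_fst snd.left).symm
    · rw [Category.assoc, H'.isoPullback_hom_snd]
      exact (congrArg (fun k => k.left) (pullback.lift_snd (f := snd) (g := snd) (𝟙 V) (𝟙 V) rfl)).trans
        (pullback.diagonal_snd snd.left).symm
  · obtain ⟨W, t, s, sq, hs⟩ := exists_square h (a ≫ f)
    obtain ⟨σa, hσa1, hσa2⟩ := sq.exists_lift a (𝟙 _) (by simp)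
    obtain ⟨σb, hσb1, hσb2⟩ := sq.exists_lift b (𝟙 _) (by simp [hab])
    obtain ⟨σa, rfl⟩ := (yon S).map_surjective σa
    obtain ⟨σb, rfl⟩ := (yon S).map_surjective σb
    have ea : σa ≫ s = 𝟙 _ := (yon S).map_injective (by simpa using hσa2)
    have eb : σb ≫ s = 𝟙 _ := (yon S).map_injective (by simpa using hσb2)
    have heq : e ≫ σa = e ≫ σb := (yon S).map_injective (sq.hom_ext
      (by simp only [Functor.map_comp, Category.assoc, hσa1, hσb1]; exact he.2.1)
      (by simp only [Functor.map_comp, Category.assoc, hσa2, hσb2]))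
    have hu : ∀ {T' : Scheme.{u}} (m : T' ⟶ T.left), m ≫ σa.left = m ≫ σb.left → ∃ l, l ≫ e.left = m := by
      intro T' m hm
      have e1 : (Over.homMk m rfl : Over.mk (m ≫ T.hom) ⟶ T) ≫ σa = Over.homMk m rfl ≫ σb := by ext; exact hm
      obtain ⟨l, hl⟩ := he.2.2 ((yon S).map (Over.homMk m rfl : Over.mk (m ≫ T.hom) ⟶ T)) (by
        rw [← hσa1, ← hσb1, ← Functor.map_comp_assoc, e1, Functor.map_comp_assoc])
      obtain ⟨l, rfl⟩ := (yon S).map_surjective l
      exact ⟨l.left, congrArg (fun k => k.left) ((yon S).map_injective ((Functor.map_comp _ _ _).trans hl))⟩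
    let A := pullback.lift σa.left σb.left
      ((congrArg (fun k => k.left) ea).trans (congrArg (fun k => k.left) eb).symm)
    have hm := he.1
    have : Mono e.left := inferInstanceAs (Mono ((Over.forget S).map e))
    have sq' : IsPullback (e.left ≫ σa.left) e.left (pullback.diagonal s.left) A := by
      refine IsPullback.of_isLimit' ⟨pullback.hom_ext (by simp [A]) (by
        simp [A]; exact congrArg (fun k => k.left) heq)⟩ ?_
      have key : ∀ c : PullbackCone (pullback.diagonal s.left) A,
          ∃ l, l ≫ e.left = c.snd ∧ l ≫ e.left ≫ σa.left = c.fst := by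
        intro c
        have h1 := congrArg (· ≫ pullback.fst _ _) c.condition
        have h2 := congrArg (· ≫ pullback.snd _ _) c.condition
        simp [A] at h1 h2
        obtain ⟨l, hl⟩ := hu c.snd (h1.symm.trans h2)
        exact ⟨l, hl, by rw [reassoc_of% hl, h1]⟩
      choose l hl hl' using key
      exact PullbackCone.IsLimit.mk _ l hl' hl fun c m _ hm =>
        (cancel_mono e.left).1 (hm.trans (hl c).symm)
    exact MorphismProperty.of_isPullback sq' ((hP _).1 hs)

end AlgSpTopo
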