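import Mathlib
import Groth.Agent.AlgSpTopo.RepPoints
import Groth.Agent.AlgSpTopo.Iso
import Groth.Agent.AlgSpTopo.OpenImm

/-! Permanence of representable properties. -/

set_option autoImplicit false
set_option backward.isDefEq.respectTransparency false
universe u
open CategoryTheory CategoryTheory.Limits AlgebraicGeometry Opposite Topology

namespace AlgSpTopo
open AlgSp

variable {S : Scheme.{u}} {X Y Z : Sp S}

/-- a factor of a representable morphism over a target with `Q`-diagonal -/
theorem repWith_cancel (hY : IsAlgSpace Y) {P Q R : MorphismProperty Scheme.{u}} [R.RespectsIso] {a : X ⟶ Y} {b : Y ⟶ Z}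
    (h : RepWith P (a ≫ b)) (hb : DiagP Q b)
    (hR : ∀ ⦃E W T : Scheme.{u}⦄ (e : E ⟶ W) (φ : W ⟶ T), Mono e → LocallyOfFiniteType e → IsSeparated e →
      LocallyQuasiFinite e → Q e → P φ → R (e ≫ φ)) :
    RepWith R a := by
  refine MorphismProperty.relative.of_exists fun T g => ?_
  obtain ⟨W, t, φ, sq, hφ⟩ := exists_square h (g ≫ b)
  obtain ⟨E, e, he⟩ := exists_isEq hY (t ≫ a) ((yon S).map φ ≫ g)
  have hw : (t ≫ a) ≫ b = ((yon S).map φ ≫ g) ≫ b := by simpa using sq.w
  obtain ⟨h1, h2, h3, h4⟩ := isEq_props hY he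
  refine ⟨E, (yon S).map e ≫ t, e ≫ φ, ?_, hR _ _ h2 h1 h3 h4 (hb _ _ hw e he) hφ⟩
  refine IsPullback.of_isLimit' ⟨by simpa using he.2.1⟩ ?_
  have key : ∀ c : PullbackCone a g,
      ∃ l, l ≫ (yon S).map (e ≫ φ) = c.snd ∧ l ≫ (yon S).map e ≫ t = c.fst := by
    intro c
    obtain ⟨m, hm1, hm2⟩ := sq.exists_lift c.fst c.snd (by rw [reassoc_of% c.condition])
    obtain ⟨l, hl⟩ := he.2.2 m (by rw [reassoc_of% hm1, reassoc_of% hm2, c.condition])
    exact ⟨l, by rw [Functor.map_comp, reassoc_of% hl, hm2], by rw [reassoc_of% hl, hm1]⟩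
  choose l hl hl' using key
  refine PullbackCone.IsLimit.mk _ l hl' hl fun c m hm1 hm2 => ?_
  have := he.1
  rw [← cancel_mono ((yon S).map e)]
  refine sq.hom_ext ?_ ?_
  · simp only [Category.assoc, hl' c]; exact hm1
  · simp only [Category.assoc, ← Functor.map_comp, hl c]; exact hm2

theorem mapDesc_eq (f : X ⟶ Z) (g : Y ⟶ Z) {T : Sp S} (h : Z ⟶ T) :
    IsPullback (pullback.fst f g ≫ f) (pullback.mapDesc f g h) (pullback.diagonal h)
      (pullback.map (f ≫ h) (g ≫ h) h h f g (𝟙 _) (Category.comp_id _) (Category.comp_id _)) :=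
  pullback_map_diagonal_isPullback f g h

theorem repWith_diagonal_props (hX : IsAlgSpace X) (f : X ⟶ Y) :
    Representable (pullback.diagonal f) ∧ RepWith @LocallyOfFiniteType (pullback.diagonal f) ∧
    RepWith (@LocallyQuasiFinite ⊓ @LocallyOfFiniteType) (pullback.diagonal f) ∧
    RepWith @IsSeparated (pullback.diagonal f) ∧
    RepWith (MorphismProperty.monomorphisms Scheme.{u}) (pullback.diagonal f) :=
  ⟨representable_diagonal hX f,
    (repWith_diagonal_iff hX _ f).2 fun _ _ _ _ _ _ he => (isEq_props hX he).1,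
    (repWith_diagonal_iff hX _ f).2 fun _ _ _ _ _ _ he => ⟨(isEq_props hX he).2.2.2, (isEq_props hX he).1⟩,
    (repWith_diagonal_iff hX _ f).2 fun _ _ _ _ _ _ he => (isEq_props hX he).2.2.1,
    (repWith_diagonal_iff hX (MorphismProperty.monomorphisms Scheme.{u}) f).2
      fun _ _ _ _ _ _ he => (isEq_props hX he).2.1⟩

theorem diagP_of_mono (hX : IsAlgSpace X) (f : X ⟶ Y) [Mono f] {Q : MorphismProperty Scheme.{u}}
    [Q.ContainsIdentities] [Q.RespectsIso] : DiagP Q f := fun T a b hab E e he => by
  have := (mono_iff_diagP hX f).1 inferInstance a b hab e he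
  exact Q.of_isIso _

theorem univOpen_of_etale (hX : IsAlgSpace X) (hY : IsAlgSpace Y) (f : X ⟶ Y) (hf : IsEtaleMor f) :
    IsUnivOpenMor f := fun _ _ _ _ _ _ sq =>
  isOpenMap_bc_of_flat_lfp hX hY f (locP_mono (A := @Etale) (B := @Flat) (fun _ _ g hg => have := hg; inferInstance) (locP_etale_of_isEtaleMor f hf))
    (locP_mono (A := @Etale) (B := @LocallyOfFinitePresentation) (fun _ _ g hg => have := hg; inferInstance) (locP_etale_of_isEtaleMor f hf)) sq

/-- universal submersiveness of a representable morphism -/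
theorem univSubmersive_of_repWith {f : X ⟶ Y} (hf : Representable f)
    (h : RepWith SGA1.UnivSubmersive f) : IsUnivSubmersiveMor f := by
  intro Z Z' hZ g fst snd sq
  obtain ⟨U, p, hp, hps⟩ := hZ.atlas
  have H := IsPullback.of_hasPullback snd p
  have hq := repWith_univSubmersive_iff hf h (p ≫ g) (H.paste_horiz sq)
  have h1 : IsQuotientMap (Points.map p) :=
    (isOpenMap_of_repWith_etale hp).isQuotientMap (Points.continuous_map p) (surjective_of_repWith hps)
  have h2 := h1.comp hq
  rw [show Points.map p ∘ Points.map (pullback.snd snd p) = Points.map snd ∘ Points.map (pullback.fst snd p) from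
    funext fun x => by simp only [Function.comp_apply]; rw [← Points.map_comp, ← Points.map_comp, H.w]] at h2
  exact IsQuotientMap.of_comp (Points.continuous_map _) (Points.continuous_map _) h2

end AlgSpTopo
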