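import Mathlib
import Groth.Agent.AlgSpTopo.RepPerm
import Groth.Agent.AlgSpTopo.AffineRep
import Groth.Agent.AlgSpTopo.LocInst
import Groth.Agent.S10536

/-! Proper morphisms of algebraic spaces. -/

set_option autoImplicit false
set_option backward.isDefEq.respectTransparency false
universe u
open CategoryTheory CategoryTheory.Limits AlgebraicGeometry Opposite Topology

namespace AlgSpTopo
open AlgSp

variable {S : Scheme.{u}} {X Y Z : Sp S}

theorem diagP_comp (hX : IsAlgSpace X) (hY : IsAlgSpace Y) {Q : MorphismProperty Scheme.{u}}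
    [Q.IsStableUnderComposition] {f : X ⟶ Y} {g : Y ⟶ Z} (hf : DiagP Q f) (hg : DiagP Q g) :
    DiagP Q (f ≫ g) := by
  intro T a b hab E e he
  obtain ⟨E', e', he'⟩ := exists_isEq hY (a ≫ f) (b ≫ f)
  obtain ⟨l, hl⟩ := he'.2.2 ((yon S).map e) (by rw [reassoc_of% he.2.1])
  obtain ⟨l, rfl⟩ := (yon S).map_surjective l
  have hle : l ≫ e' = e := (yon S).map_injective (by rw [Functor.map_comp, hl])
  have := he.1
  have := he'.1
  have hlm : Mono l := mono_of_mono_fac hle
  have he'' : IsEq l ((yon S).map e' ≫ a) ((yon S).map e' ≫ b) := by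
    refine ⟨hlm, ?_, fun {W} k hk => ?_⟩
    · rw [← Functor.map_comp_assoc, ← Functor.map_comp_assoc, hle]; exact he.2.1
    · obtain ⟨m, hm⟩ := he.2.2 (k ≫ (yon S).map e') (by simpa using hk)
      refine ⟨m, (cancel_mono ((yon S).map e')).1 ?_⟩
      rw [Category.assoc, ← Functor.map_comp, hle, hm]
  rw [← hle]
  exact Q.comp_mem _ _ (hf _ _ (by simpa using he'.2.1) l he'') (hg _ _ (by simpa using hab) e' he')

theorem univClosed_comp (hX : IsAlgSpace X) (hY : IsAlgSpace Y) (hZ : IsAlgSpace Z) {f : X ⟶ Y} {g : Y ⟶ Z}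
    (hf : IsUnivClosedMor f) (hg : IsUnivClosedMor g) : IsUnivClosedMor (f ≫ g) := by
  intro A A' hA k fst snd sq
  have H := IsPullback.of_hasPullback g k
  obtain ⟨l, hl1, hl2⟩ := H.exists_lift (fst ≫ f) snd (by rw [Category.assoc]; exact sq.w)
  have top : IsPullback fst l f (pullback.fst g k) :=
    IsPullback.of_bot (by rw [hl2]; exact sq) hl1.symm H
  have h1 : IsClosedMap (Points.map l) := hf (isAlgSpace_pullback hY hZ hA g k) _ _ _ top
  have h2 : IsClosedMap (Points.map (pullback.snd g k)) := hg hA _ _ _ H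
  have h3 := h2.comp h1
  have e : Points.map (pullback.snd g k) ∘ Points.map l = Points.map snd :=
    funext fun x => by rw [Function.comp_apply, ← Points.map_comp, hl2]
  rw [e] at h3
  exact h3

theorem qcMor_comp (hX : IsAlgSpace X) (hY : IsAlgSpace Y) (hZ : IsAlgSpace Z) {f : X ⟶ Y} {g : Y ⟶ Z}
    (hf : IsQuasiCompactMor f) (hg : IsQuasiCompactMor g) : IsQuasiCompactMor (f ≫ g) := by
  intro A A' hA hAq k fst snd sq
  have H := IsPullback.of_hasPullback g k
  obtain ⟨l, hl1, hl2⟩ := H.exists_lift (fst ≫ f) snd (by rw [Category.assoc]; exact sq.w)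
  exact hf (isAlgSpace_pullback hY hZ hA g k) (hg hA hAq _ _ _ H) _ _ _
    (IsPullback.of_bot (by rw [hl2]; exact sq) hl1.symm H)

theorem proper_comp (hX : IsAlgSpace X) (hY : IsAlgSpace Y) (hZ : IsAlgSpace Z) {f : X ⟶ Y} {g : Y ⟶ Z}
    (hf : IsProperMor f) (hg : IsProperMor g) : IsProperMor (f ≫ g) :=
  ⟨(separatedMor_iff hX _).2 (diagP_comp hX hY ((separatedMor_iff hX _).1 hf.1) ((separatedMor_iff hY _).1 hg.1)),
    ⟨locP_comp etaleLocal_locallyOfFiniteType hX hY hZ f g hf.2.1.1 hg.2.1.1, qcMor_comp hX hY hZ hf.2.1.2 hg.2.1.2⟩,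
    univClosed_comp hX hY hZ hf.2.2 hg.2.2⟩

theorem proper_bc (hX : IsAlgSpace X) (hY : IsAlgSpace Y) {X' Y' : Sp S} (hX' : IsAlgSpace X') (hY' : IsAlgSpace Y')
    {f : X ⟶ Y} {g : Y' ⟶ Y} {q : X' ⟶ X} {p : X' ⟶ Y'} (sq : IsPullback q p f g) (h : IsProperMor f) :
    IsProperMor p :=
  ⟨(separatedMor_iff hX' _).2 (((separatedMor_iff hX _).1 h.1).baseChange sq),
    ⟨locP_bc etaleLocal_locallyOfFiniteType hX hY hY' sq h.2.1.1,
      fun _ _ hA hAq k fst snd sq' => h.2.1.2 hA hAq (k ≫ g) (fst ≫ q) snd (sq'.paste_horiz sq)⟩,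
    univSp_bc sq h.2.2⟩

/-- a jointly surjective family of etale morphisms from schemes or open immersions is an fpqc cover -/
theorem fpqc_of_etale {ι : Type u} (hY : IsAlgSpace Y) {Yi : ι → Sp S} (hYi : ∀ i, IsAlgSpace (Yi i))
    (g : ∀ i, Yi i ⟶ Y) (hg : ∀ i, RepWith @Etale (g i))
    (hs : ∀ y : Points Y, ∃ i, y ∈ Set.range (Points.map (g i))) : IsFpqcCover (S := S) Yi g :=
  fpqc_of_fppf hY hYi g ⟨fun i =>
    ⟨(locP_iff_repWith etaleLocal_flat (hYi i) hY _ (hg i).rep).2
      ⟨(hg i).rep, fun _ _ k fst snd sq => by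
        have : Etale snd.left := (hg i).property k fst snd sq
        change Flat snd.left
        infer_instance⟩,
    (locP_iff_repWith etaleLocal_locallyOfFinitePresentation (hYi i) hY _ (hg i).rep).2
      ⟨(hg i).rep, fun _ _ k fst snd sq => by
        have : Etale snd.left := (hg i).property k fst snd sq
        change LocallyOfFinitePresentation snd.left
        infer_instance⟩⟩, hs⟩

theorem proper_of_finite (hX : IsAlgSpace X) (hY : IsAlgSpace Y) {f : X ⟶ Y} (h : RepWith @IsFinite f) :
    IsProperMor f :=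
  ⟨(separatedMor_iff hX _).2 ((diagP_iff_repWith (Q := @IsClosedImmersion) (P := @IsSeparated)
      (fun _ _ s => ⟨fun h => h.1, fun h => ⟨h⟩⟩) h.rep).2
      ⟨h.rep, fun _ _ k fst snd sq => by
        have : IsFinite snd.left := h.property k fst snd sq
        change IsSeparated snd.left
        infer_instance⟩),
    ⟨(locP_iff_repWith etaleLocal_locallyOfFiniteType hX hY _ h.rep).2
      ⟨h.rep, fun _ _ k fst snd sq => by
        have : IsFinite snd.left := h.property k fst snd sq
        change LocallyOfFiniteType snd.left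
        infer_instance⟩,
     (repWith_quasiCompact_iff hX hY h.rep).1
      ⟨h.rep, fun _ _ k fst snd sq => by
        have : IsFinite snd.left := h.property k fst snd sq
        change QuasiCompact snd.left
        infer_instance⟩⟩,
    (repWith_universallyClosed_iff h.rep).1
      ⟨h.rep, fun _ _ k fst snd sq => by
        have : IsFinite snd.left := h.property k fst snd sq
        change UniversallyClosed snd.left
        infer_instance⟩⟩

theorem repWith_finite_of_closedImm {f : X ⟶ Y} (h : RepWith @IsClosedImmersion f) : RepWith @IsFinite f :=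
  ⟨h.rep, fun _ _ k fst snd sq => by
    have : IsClosedImmersion snd.left := h.property k fst snd sq
    change IsFinite snd.left
    infer_instance⟩

/-- universally closed morphisms cancel over separated ones -/
theorem univClosed_cancel (hX : IsAlgSpace X) (hY : IsAlgSpace Y) (hZ : IsAlgSpace Z) {f : X ⟶ Y} {q : Y ⟶ Z}
    (hq : IsSeparatedMor q) (h : IsUnivClosedMor (f ≫ q)) : IsUnivClosedMor f := by
  intro A A' hA k fst snd sq
  have hd : IsUnivClosedMor (pullback.diagonal q) :=
    (repWith_universallyClosed_iff hq.rep).1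
      ⟨hq.rep, fun _ _ g a b sq' => by
        have : IsClosedImmersion b.left := hq.property g a b sq'
        change UniversallyClosed b.left
        infer_instance⟩
  have hQ : IsAlgSpace (pullback (f ≫ q) (k ≫ q)) := isAlgSpace_pullback hX hZ hA _ _
  have h1 : IsClosedMap (Points.map (pullback.mapDesc f k q)) := hd hQ _ _ _ (mapDesc_eq f k q)
  have h2 : IsClosedMap (Points.map (pullback.snd (f ≫ q) (k ≫ q))) :=
    h hA _ _ _ (IsPullback.of_hasPullback _ _)
  have h3 := (h2.comp h1).comp (isHomeomorph_map_iso sq.isoPullback).isClosedMap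
  have e : (Points.map (pullback.snd (f ≫ q) (k ≫ q)) ∘ Points.map (pullback.mapDesc f k q)) ∘
      Points.map sq.isoPullback.hom = Points.map snd :=
    funext fun x => by
      simp only [Function.comp_apply]
      rw [← Points.map_comp, ← Points.map_comp]
      simp [pullback.mapDesc]
  rw [e] at h3
  exact h3

end AlgSpTopo
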