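import Mathlib
import Groth.Agent.AlgSpTopo.RepPerm
import Groth.Agent.AlgSpTopo.EpiDescend
import Groth.Agent.AlgSpTopo.OpenSubLoc
import Groth.Agent.AlgSpTopo.AffineDescent
import Groth.Agent.AlgSpTopo.ProperMor
import Groth.Agent.Mor.Cancel
import Groth.Agent.Locus.EtaleCriterion

/-! Basic properties of algebraic spaces and presentations. -/

set_option autoImplicit false
set_option backward.isDefEq.respectTransparency false
universe u
open CategoryTheory CategoryTheory.Limits AlgebraicGeometry Opposite Topology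

namespace AlgSpTopo
open AlgSp

theorem isLocallyNoetherian_of_lft {X Y : Scheme.{u}} (f : X ⟶ Y) [LocallyOfFiniteType f]
    [IsLocallyNoetherian Y] : IsLocallyNoetherian X := by
  refine isLocallyNoetherian_of_affine_cover
    (S := fun p : {p : Y.affineOpens × X.affineOpens // p.2.1 ≤ f ⁻¹ᵁ p.1.1} => p.1.2) ?_ ?_
  · refine TopologicalSpace.Opens.ext (Set.eq_univ_of_forall fun x => ?_)
    obtain ⟨U, hU, hxU, -⟩ := exists_isAffineOpen_mem_and_subset (U := (⊤ : Y.Opens)) (x := f x) trivial
    obtain ⟨V, hV, hxV, hVU⟩ := exists_isAffineOpen_mem_and_subset (U := f ⁻¹ᵁ U) (x := x) hxU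
    simp only [TopologicalSpace.Opens.coe_iSup, Set.mem_iUnion]
    exact ⟨⟨(⟨U, hU⟩, ⟨V, hV⟩), hVU⟩, hxV⟩
  · rintro ⟨⟨U, V⟩, e⟩
    have := IsLocallyNoetherian.component_noetherian U
    have h := f.finiteType_appLE U.2 V.2 e
    let := (f.appLE U.1 V.1 e).hom.toAlgebra
    have : Algebra.FiniteType Γ(Y, U.1) Γ(X, V.1) := h
    exact Algebra.FiniteType.isNoetherianRing Γ(Y, U.1) Γ(X, V.1)

variable {S : Scheme.{u}} {X Y : Sp S}

/-- the kernel pair of a chart is an etale equivalence relation -/
theorem isEtaleEqvRel_of_isPullback {R U : Over S} (p : (yon S).obj U ⟶ X) (hp : RepWith @Etale p)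
    (s t : R ⟶ U) (sq : IsPullback ((yon S).map t) ((yon S).map s) p p) : IsEtaleEqvRel s t := by
  have mk : ∀ {T : Over S} (a b : T ⟶ U), (yon S).map a ≫ p = (yon S).map b ≫ p →
      ∃ r : T ⟶ R, r ≫ t = a ∧ r ≫ s = b := by
    intro T a b h
    obtain ⟨r, hr1, hr2⟩ := sq.exists_lift _ _ h
    obtain ⟨r, rfl⟩ := (yon S).map_surjective r
    exact ⟨r, (yon S).map_injective (by rw [Functor.map_comp, hr1]),
      (yon S).map_injective (by rw [Functor.map_comp, hr2])⟩
  have of : ∀ {T : Over S} (a b : T ⟶ U), (∃ r : T ⟶ R, r ≫ t = a ∧ r ≫ s = b) →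
      (yon S).map a ≫ p = (yon S).map b ≫ p := by
    rintro T a b ⟨r, rfl, rfl⟩
    rw [Functor.map_comp_assoc, Functor.map_comp_assoc, sq.w]
  refine { injective := fun T r r' h1 h2 => (yon S).map_injective (sq.hom_ext ?_ ?_), equivalence := fun T => ?_,
           etale_left := hp.property _ _ _ sq, etale_right := hp.property _ _ _ sq.flip }
  · rw [← Functor.map_comp, ← Functor.map_comp, h1]
  · rw [← Functor.map_comp, ← Functor.map_comp, h2]
  · exact ⟨fun a => mk a a rfl, fun h => mk _ _ (of _ _ h).symm, fun h h' => mk _ _ ((of _ _ h).trans (of _ _ h'))⟩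

theorem isPullback_of_mono_comp {A B C D : Sp S} {t s : A ⟶ B} {a : B ⟶ C} {j : C ⟶ D} [Mono j]
    (sq : IsPullback t s (a ≫ j) (a ≫ j)) : IsPullback t s a a := by
  refine IsPullback.of_isLimit' ⟨(cancel_mono j).1 (by simpa using sq.w)⟩ ?_
  have key : ∀ c : PullbackCone a a, ∃ l, l ≫ t = c.fst ∧ l ≫ s = c.snd :=
    fun c => sq.exists_lift c.fst c.snd (by rw [reassoc_of% c.condition])
  choose l h1 h2 using key
  exact PullbackCone.IsLimit.mk _ l h1 h2 fun c m e1 e2 => sq.hom_ext (by rw [h1]; exact e1) (by rw [h2]; exact e2)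

/-- an etale map to a target of an open immersion through which it factors -/
theorem repWith_of_comp_mono {P : MorphismProperty Scheme.{u}} [P.IsStableUnderBaseChange] {A B C : Sp S}
    {a : A ⟶ B} {j : B ⟶ C} [Mono j] (h : RepWith P (a ≫ j)) : RepWith P a :=
  have sq : IsPullback (𝟙 A) a (a ≫ j) j :=
    IsPullback.of_isLimit' ⟨by simp⟩ (PullbackCone.IsLimit.mk _ (fun c => c.fst)
      (fun c => by simp) (fun c => (cancel_mono j).1 (by simpa using c.condition))
      (fun c m h1 _ => by simpa using h1))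
  MorphismProperty.of_isPullback (P := RepWith P) sq h

theorem mono_of_immersion {j : X ⟶ Y} (hj : RepWith @IsImmersion j) : Mono j :=
  mono_of_repWith j hj fun _ _ g hg => have := hg; inferInstance

theorem isEmbedding_of_immersion (hY : IsAlgSpace Y) (i : X ⟶ Y) (hi : RepWith @IsImmersion i) :
    IsEmbedding (Points.map i) ∧ IsLocallyClosed (Set.range (Points.map i)) := by
  have hu : RepWith @UniversallyInjective i := ⟨hi.rep, fun _ _ g a b sq => by
    have : IsImmersion b.left := hi.property g a b sq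
    change UniversallyInjective b.left
    infer_instance⟩
  have hinj : Function.Injective (Points.map i) :=
    (repWith_universallyInjective_iff hi.rep).1 hu hY (𝟙 _) (𝟙 _) i (IsPullback.id_horiz i)
  obtain ⟨U, p, hp, hps⟩ := hY.atlas
  obtain ⟨W, a, φ, sq, hφ⟩ := exists_square hi p
  have : IsImmersion φ.left := hφ
  have hE : IsEmbedding (Points.map ((yon S).map φ)) := by
    rw [map_conj]
    exact (Points.schemeHomeo U).isEmbedding.comp (φ.left.isEmbedding.comp (Points.schemeHomeo W).symm.isEmbedding)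
  have hopen := isOpenMap_of_repWith_etale hp
  have hsp := surjective_of_repWith hps
  refine ⟨⟨⟨le_antisymm ?_ ?_⟩, hinj⟩, ?_⟩
  · rw [← continuous_iff_le_induced]; exact Points.continuous_map i
  · intro O hO
    obtain ⟨O', hO', e⟩ := hE.isInducing.isOpen_iff.1 (hO.preimage (Points.continuous_map a))
    refine ⟨Points.map p '' O', hopen _ hO', ?_⟩
    ext z
    constructor
    · rintro ⟨u, hu, huz⟩
      obtain ⟨w, hw1, hw2⟩ := points_surj sq z u huz.symm
      rw [← hw1]
      have : w ∈ Points.map ((yon S).map φ) ⁻¹' O' := by rw [Set.mem_preimage, hw2]; exact hu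
      rw [e] at this
      exact this
    · intro hz
      obtain ⟨u, hu⟩ := hsp (Points.map i z)
      obtain ⟨w, hw1, hw2⟩ := points_surj sq z u hu.symm
      refine ⟨u, ?_, hu⟩
      have : w ∈ Points.map a ⁻¹' O := by rw [Set.mem_preimage, hw1]; exact hz
      rw [← e, Set.mem_preimage, hw2] at this
      exact this
  · have hr : Set.range (Points.map ((yon S).map φ)) = Points.map p ⁻¹' Set.range (Points.map i) := by
      rw [← Set.image_univ, ← Set.preimage_univ (f := Points.map a), image_preimage sq, Set.image_univ]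
    have h1 : IsLocallyClosed (Set.range (Points.map ((yon S).map φ))) := by
      have h0 : IsLocallyClosed (Set.range φ.left) := φ.left.isLocallyClosed_range
      have := h0.preimage (Points.schemeHomeo U).symm.continuous
      convert this using 1
      ext z
      obtain ⟨u, rfl⟩ := (Points.schemeHomeo U).surjective z
      simp only [map_conj, Set.mem_range, Function.comp_apply, Set.mem_preimage, Homeomorph.symm_apply_apply,
        (Points.schemeHomeo U).injective.eq_iff]
      exact ⟨fun ⟨w, hw⟩ => ⟨_, hw⟩, fun ⟨w, hw⟩ => ⟨Points.schemeHomeo W w, by simpa using hw⟩⟩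
    rw [isLocallyClosed_iff_isOpen_coborder] at h1 ⊢
    rw [hr, coborder_preimage hopen (Points.continuous_map p)] at h1
    have h2 := hopen _ h1
    rwa [Set.image_preimage_eq _ hsp] at h2

theorem isLocNoeth_of_lft {f : X ⟶ Y} (hX : IsAlgSpace X) (hY : IsAlgSpace Y)
    (hf : LocP @LocallyOfFiniteType f) (hN : IsLocNoethSp Y) : IsLocNoethSp X := by
  obtain ⟨V, q, hq, hqs, hV⟩ := hN
  obtain ⟨M, T', m, e, a, hm, he, ha, has, -⟩ := exists_atlas_chart hX hY f hf hq hqs
  have : LocallyOfFiniteType m.left := hm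
  have : Etale e.left := he
  have : IsLocallyNoetherian T'.left := isLocallyNoetherian_of_lft e.left
  exact ⟨M, a, ha, has, isLocallyNoetherian_of_lft m.left⟩

theorem isJacobson_of_lft {f : X ⟶ Y} (hX : IsAlgSpace X) (hY : IsAlgSpace Y)
    (hf : LocP @LocallyOfFiniteType f) (hN : EtaleLocally (fun U => JacobsonSpace ↥U) Y) :
    EtaleLocally (fun U => JacobsonSpace ↥U) X := by
  obtain ⟨V, q, hq, hqs, hV⟩ := hN
  obtain ⟨M, T', m, e, a, hm, he, ha, has, -⟩ := exists_atlas_chart hX hY f hf hq hqs
  have : LocallyOfFiniteType m.left := hm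
  have : Etale e.left := he
  have : JacobsonSpace ↥V.left := hV
  have : JacobsonSpace ↥T'.left := LocallyOfFiniteType.jacobsonSpace e.left
  exact ⟨M, a, ha, has, LocallyOfFiniteType.jacobsonSpace m.left⟩

theorem repWith_etale_of_source {U U' : Over S} (hX : IsAlgSpace X) (χ : U ⟶ U') [Etale χ.left] [Surjective χ.left]
    (φ : (yon S).obj U' ⟶ X) (h : RepWith @Etale ((yon S).map χ ≫ φ)) : RepWith @Etale φ := by
  refine (locP_iff_repWith etaleLocal_etale (IsAlgSpace.yon_obj U') hX φ (hX.representable_from_yon φ)).1 ?_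
  exact locP_of_source_cover etaleLocal_etale hX φ ((yon S).map χ) ((repWith_yon_map_iff _ _).2 inferInstance)
    ((repWith_yon_map_iff _ _).2 inferInstance) ((locP_iff_repWith etaleLocal_etale (IsAlgSpace.yon_obj U) hX _ h.rep).2 h)

theorem range_preimage_of_isPullback {A B A' B' : Sp S} {i : A ⟶ B} {i' : A' ⟶ B'} {q : A' ⟶ A} {g : B' ⟶ B}
    (sq : IsPullback q i' i g) : Set.range (Points.map i') = Points.map g ⁻¹' Set.range (Points.map i) := by
  rw [← Set.image_univ, ← Set.preimage_univ (f := Points.map q), image_preimage sq, Set.image_univ]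

theorem isAlgSpace_of_isPullback_diag {Z P : Sp S} (hX : IsAlgSpace X) (hY : Representable (Limits.diag Y)) (hZ : IsAlgSpace Z)
    {π₁ : P ⟶ X} {π₂ : P ⟶ Z} {f : X ⟶ Y} {g : Z ⟶ Y} (sq : IsPullback π₁ π₂ f g) : IsAlgSpace P where
  diag := by
    intro T h
    obtain ⟨E₁, e₁, _, he₁, hl₁⟩ := exists_equalizer hX (h ≫ prod.fst ≫ π₁) (h ≫ prod.snd ≫ π₁)
    obtain ⟨E₂, e₂, _, he₂, hl₂⟩ := exists_equalizer hZ (h ≫ prod.fst ≫ π₂) (h ≫ prod.snd ≫ π₂)
    let e : pullback e₁ e₂ ⟶ T := pullback.fst e₁ e₂ ≫ e₁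
    have hE := (IsPullback.of_hasPullback e₁ e₂).map (yon S)
    have hme : Mono ((yon S).map e) := inferInstance
    have eq₁ : (yon S).map e ≫ h ≫ prod.fst ≫ π₁ = (yon S).map e ≫ h ≫ prod.snd ≫ π₁ := by
      simp only [e, Functor.map_comp, Category.assoc, he₁]
    have eq₂ : (yon S).map e ≫ h ≫ prod.fst ≫ π₂ = (yon S).map e ≫ h ≫ prod.snd ≫ π₂ := by
      simp only [e, pullback.condition, Functor.map_comp, Category.assoc, he₂]
    have w : ((yon S).map e ≫ h ≫ prod.fst) ≫ Limits.diag P = (yon S).map e ≫ h := by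
      apply prod.hom_ext
      · simp
      · simp only [prod.comp_lift, Category.comp_id, Category.assoc, prod.lift_snd]
        exact sq.hom_ext (by simpa using eq₁) (by simpa using eq₂)
    refine ⟨_, e, (yon S).map e ≫ h ≫ prod.fst, IsPullback.of_isLimit' ⟨w⟩ ?_⟩
    have key : ∀ s : PullbackCone (Limits.diag P) h,
        ∃ l, l ≫ (yon S).map e = s.snd ∧ l ≫ (yon S).map e ≫ h ≫ prod.fst = s.fst := by
      intro s
      have hf : s.fst = s.snd ≫ h ≫ prod.fst := by
        have := congrArg (· ≫ prod.fst) s.condition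
        simpa using this
      have hs : s.fst = s.snd ≫ h ≫ prod.snd := by
        have := congrArg (· ≫ prod.snd) s.condition
        simpa using this
      obtain ⟨l₁, hl₁'⟩ := hl₁ s.snd (by
        calc _ = (s.snd ≫ h ≫ prod.fst) ≫ π₁ := by simp
          _ = _ := by rw [← hf, hs]; simp)
      obtain ⟨l₂, hl₂'⟩ := hl₂ s.snd (by
        calc _ = (s.snd ≫ h ≫ prod.fst) ≫ π₂ := by simp
          _ = _ := by rw [← hf, hs]; simp)
      obtain ⟨l, hla, -⟩ := hE.exists_lift l₁ l₂ (hl₁'.trans hl₂'.symm)
      have h1 : l ≫ (yon S).map e = s.snd := by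
        simp only [e, Functor.map_comp]; rw [reassoc_of% hla, hl₁']
      exact ⟨l, h1, by rw [reassoc_of% h1, hf]⟩
    choose l hl hl' using key
    exact PullbackCone.IsLimit.mk _ l hl' hl fun s m _ hm =>
      (cancel_mono ((yon S).map e)).1 (hm.trans (hl s).symm)
  atlas := by
    obtain ⟨U, u, hu, hus⟩ := hX.atlas
    obtain ⟨V, v, hv, hvs⟩ := hZ.atlas
    have hrep : Representable (u ≫ f) := Functor.relativelyRepresentable.of_diag hY _
    obtain ⟨W, t, s, sqW⟩ : ∃ (W : Over S) (t : (yon S).obj W ⟶ (yon S).obj U) (s : W ⟶ V),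
        IsPullback t ((yon S).map s) (u ≫ f) (v ≫ g) := ⟨_, _, _, hrep.isPullback _⟩
    have H1 := IsPullback.of_hasPullback π₁ u
    -- the intermediate space
    have big := H1.flip.paste_vert sq
    obtain ⟨m, hm1, hm2⟩ := big.exists_lift t ((yon S).map s ≫ v) (by rw [sqW.w, Category.assoc])
    rw [← hm1] at sqW
    have top : IsPullback m ((yon S).map s) (pullback.fst π₁ u ≫ π₂) v := IsPullback.of_right sqW hm2 big
    have h1 : RepWith @Etale m := MorphismProperty.of_isPullback (P := RepWith @Etale) top.flip hv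
    have h1s : RepWith @Surjective m := MorphismProperty.of_isPullback (P := RepWith @Surjective) top.flip hvs
    have h2 : RepWith @Etale (pullback.fst π₁ u) := MorphismProperty.of_isPullback (P := RepWith @Etale) H1.flip hu
    have h2s : RepWith @Surjective (pullback.fst π₁ u) :=
      MorphismProperty.of_isPullback (P := RepWith @Surjective) H1.flip hus
    exact ⟨W, _, MorphismProperty.comp_mem _ _ _ h1 h2, MorphismProperty.comp_mem _ _ _ h1s h2s⟩

theorem representableBy_of_iso {T : Over S} (e : (yon S).obj T ≅ X) : X.obj.IsRepresentable :=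
  ⟨T, ⟨{ homEquiv := fun {A} => Equiv.ulift.symm.trans
            (((sheafToPresheaf (J S) (Type (u+1))).mapIso e).app (op A)).toEquiv
         homEquiv_comp := fun {A A'} φ g => ConcreteCategory.congr_hom (e.hom.hom.naturality φ.op) (⟨g⟩ : ULift.{u+1} (A' ⟶ T)) }⟩⟩

theorem isLocallySurjective_of_flat_lfp {u : X ⟶ Y} (hf : RepWith @Flat u)
    (hp : RepWith @LocallyOfFinitePresentation u) (hus : RepWith @Surjective u) :
    Sheaf.IsLocallySurjective u := ⟨fun {T} s => by
  obtain ⟨k, rfl⟩ := (GrothendieckTopology.uliftYonedaEquiv.{u+1} (J S)).surjective s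
  obtain ⟨V, fst, snd, sq, hs⟩ := exists_square hf k
  have : Flat snd.left := hs
  have : LocallyOfFinitePresentation snd.left := hp.property _ _ _ sq
  have : Surjective snd.left := hus.property _ _ _ sq
  refine GrothendieckTopology.superset_covering _ ?_ (generate_singleton_mem snd)
  rw [Sieve.generate_le_iff]
  intro _ _ ⟨⟩
  refine ⟨(GrothendieckTopology.uliftYonedaEquiv.{u+1} (J S)) fst, ?_⟩
  have h2 := GrothendieckTopology.uliftYonedaEquiv_comp.{u+1} (J S) fst u
  rw [sq.w, ← GrothendieckTopology.uliftYonedaEquiv_naturality] at h2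
  exact h2.symm⟩

/-- a finite affine chart of a quasi-compact space -/
theorem exists_affine_chart (h : IsQuasiCompactSp X) :
    ∃ (U : Over S) (p : (yon S).obj U ⟶ X), IsAffine U.left ∧ RepWith @Etale p ∧ RepWith @Surjective p := by
  obtain ⟨U, p, hp, hps, hU⟩ := h
  have : CompactSpace ↥U.left := hU
  obtain ⟨V, hV, c, hc, hcs⟩ := exists_affine_etale_cover U.left
  let c' : Over.mk (c ≫ U.hom) ⟶ U := Over.homMk c rfl
  exact ⟨_, (yon S).map c' ≫ p, hV, MorphismProperty.comp_mem _ _ _ ((repWith_yon_map_iff _ c').2 hc) hp,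
    MorphismProperty.comp_mem _ _ _ ((repWith_yon_map_iff _ c').2 hcs) hps⟩

/-- the equalizer of two maps from an affine scheme, as a closed subscheme of the fibre product -/
theorem exists_closed_of_isEq {T E P : Over S} [IsAffine T.left] {e : E ⟶ T} {a b : (yon S).obj T ⟶ X}
    (he : IsEq e a b) {p q : P ⟶ T} (sq : IsPullback ((yon S).map p) ((yon S).map q) a b) :
    ∃ l : E ⟶ P, IsClosedImmersion l.left ∧ l ≫ p = e ∧ l ≫ q = e := by
  have hd : IsClosedImmersion (prod.lift (𝟙 T) (𝟙 T)).left := by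
    have h1 : IsClosedImmersion (pullback.diagonal T.hom) := inferInstance
    rw [← AlgSp.diag_left_comp_prodLeftIsoPullback T] at h1
    exact (MorphismProperty.cancel_right_of_respectsIso @IsClosedImmersion _ _).1 h1
  let g : P ⟶ T ⨯ T := prod.lift p q
  let d : T ⟶ T ⨯ T := prod.lift (𝟙 T) (𝟙 T)
  have H := IsPullback.of_hasPullback g d
  have hfst : IsClosedImmersion (pullback.fst g d).left :=
    MorphismProperty.of_isPullback (P := @IsClosedImmersion) (H.map (Over.forget S)).flip hd
  have h1 : pullback.fst g d ≫ p = pullback.snd g d := by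
    have := congrArg (· ≫ prod.fst) (pullback.condition (f := g) (g := d)); simpa [g, d] using this
  have h2 : pullback.fst g d ≫ q = pullback.snd g d := by
    have := congrArg (· ≫ prod.snd) (pullback.condition (f := g) (g := d)); simpa [g, d] using this
  obtain ⟨l, hl1, hl2⟩ := sq.exists_lift ((yon S).map e) ((yon S).map e) he.2.1
  obtain ⟨l, rfl⟩ := (yon S).map_surjective l
  have e1 : l ≫ p = e := (yon S).map_injective (by rw [Functor.map_comp, hl1])
  have e2 : l ≫ q = e := (yon S).map_injective (by rw [Functor.map_comp, hl2])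
  obtain ⟨n, hn⟩ := he.2.2 ((yon S).map (pullback.snd g d)) (by
    conv_lhs => rw [← h1]
    rw [Functor.map_comp_assoc, sq.w, ← Functor.map_comp_assoc, h2])
  obtain ⟨n, rfl⟩ := (yon S).map_surjective n
  have hn' : n ≫ e = pullback.snd g d := (yon S).map_injective (by rw [Functor.map_comp, hn])
  let m : E ⟶ pullback g d := pullback.lift l e (by apply prod.hom_ext <;> simp [g, d, e1, e2])
  have := he.1
  have hml : m ≫ pullback.fst g d = l := pullback.lift_fst _ _ _
  have hmn : m ≫ n = 𝟙 E := by rw [← cancel_mono e, Category.assoc, hn']; simp [m]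
  have hnm : n ≫ m = 𝟙 _ := by
    have hl : n ≫ l = pullback.fst g d := (yon S).map_injective (sq.hom_ext
      (by rw [← Functor.map_comp, ← Functor.map_comp, Category.assoc, e1, hn', h1])
      (by rw [← Functor.map_comp, ← Functor.map_comp, Category.assoc, e2, hn', h2]))
    exact pullback.hom_ext (by rw [Category.assoc, hml, hl, Category.id_comp]) (by simp [m, hn'])
  have : IsIso m := ⟨n, hmn, hnm⟩
  have : IsIso m.left := inferInstanceAs (IsIso ((Over.forget S).map m))
  refine ⟨l, ?_, e1, e2⟩
  rw [← hml, Over.comp_left]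
  infer_instance


end AlgSpTopo
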