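import Mathlib
import Groth.Prelude.Def_AlgSpSub
import Groth.Agent.AlgSpTopo.LocChart
import Groth.Agent.AlgSpTopo.SpProps

/-! Descent of properties of algebraic spaces along flat surjective morphisms. -/

set_option autoImplicit false
set_option backward.isDefEq.respectTransparency false
universe u
open CategoryTheory CategoryTheory.Limits AlgebraicGeometry Opposite

namespace AlgSpTopo
open AlgSp

variable {S : Scheme.{u}} {X Y : Sp S}

/-- a property of schemes which passes to etale schemes over it and descends along a class of surjective maps holds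
on every chart of a space having it on one. -/
theorem prop_of_chart {P : Scheme.{u} → Prop} (hup : ∀ {A B : Scheme.{u}} (h : A ⟶ B), Etale h → P B → P A)
    (hdown : ∀ {A B : Scheme.{u}} (h : A ⟶ B), Etale h → Surjective h → P A → P B)
    (hX : EtaleLocally P X) {M : Over S} (a : (yon S).obj M ⟶ X) (ha : RepWith @Etale a) : P M.left := by
  obtain ⟨U, p, hp, hps, hU⟩ := hX
  obtain ⟨W, fst, w, sq, hw⟩ := exists_square hp a
  obtain ⟨g, rfl⟩ := (yon S).map_surjective fst
  exact hdown w.left hw (hps.property _ _ _ sq) (hup g.left (ha.property _ _ _ sq.flip) hU)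

/-- surjective morphisms with property `Q` have charts with property `Q` over every atlas -/
theorem exists_surjective_chart {Q : MorphismProperty Scheme.{u}} [Q.IsStableUnderBaseChange]
    (hX : IsAlgSpace X) (hY : IsAlgSpace Y) (f : X ⟶ Y) (hf : LocP Q f) (hs : IsSurjectiveMor f)
    {T : Over S} (k : (yon S).obj T ⟶ Y) (hk : RepWith @Etale k) :
    ∃ (M T' : Over S) (m : M ⟶ T') (e : T' ⟶ T) (a : (yon S).obj M ⟶ X),
      Q m.left ∧ Etale e.left ∧ Surjective (m ≫ e).left ∧ RepWith @Etale a := by
  have H := IsPullback.of_hasPullback f k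
  obtain ⟨M, T', m, e, v, hm, he, -, hv, hvs, hv2⟩ := exists_chart hX hY f hf H
  refine ⟨M, T', m, e, _, hm, he, ⟨fun t => ?_⟩,
    MorphismProperty.comp_mem _ _ _ hv (MorphismProperty.of_isPullback (P := RepWith @Etale) H.flip hk)⟩
  obtain ⟨y, hy⟩ := surjective_snd H hs (Points.ofScheme T t)
  obtain ⟨z, rfl⟩ := hvs y
  obtain ⟨z, rfl⟩ := ofScheme_surjective M z
  rw [← Points.map_comp, hv2, map_ofScheme] at hy
  exact ⟨z, (Points.schemeEquiv T).injective hy⟩

end AlgSpTopo
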