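import Mathlib
import Groth.Agent.AlgSpTopo.LocChart
import Groth.Agent.AlgSpTopo.LocInst
import Groth.Agent.AlgSpTopo.DescProps
import Groth.Agent.Flat.FibreScheme
import Groth.Agent.Locus.EtaleCriterion

/-! The fibrewise criterion of flatness for algebraic spaces. -/

set_option autoImplicit false
set_option backward.isDefEq.respectTransparency false
universe u
open CategoryTheory CategoryTheory.Limits AlgebraicGeometry Opposite

namespace AlgSpTopo
open AlgSp

variable {S : Scheme.{u}} {X Y Z : Sp S}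

/-- a map from a scheme which becomes etale after an etale map is etale -/
theorem repWith_etale_of_comp {P : Sp S} (hP : IsAlgSpace P) {V : Over S} (φ : (yon S).obj V ⟶ P)
    {p : P ⟶ Y} (hp : RepWith @Etale p) (h : RepWith @Etale (φ ≫ p)) : RepWith @Etale φ := by
  refine (locP_iff_repWith etaleLocal_etale (IsAlgSpace.yon_obj V) hP φ
    (Functor.relativelyRepresentable.of_diag hP.diag φ)).1 fun U₀ Q a q k ha hq comm => ?_
  refine etale_of_comp_yon (k := q ≫ p) (MorphismProperty.comp_mem _ _ _ hq hp) ?_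
  rw [← Category.assoc, ← comm, Category.assoc]
  exact MorphismProperty.comp_mem _ _ _ ha h

/-- etale charts of base changes -/
theorem exists_chart_bc (hY : IsAlgSpace Y) (hZ : IsAlgSpace Z) {g : Y ⟶ Z} {V W T V' : Over S}
    {b : (yon S).obj V ⟶ Y} {c : (yon S).obj W ⟶ Z} {hV : V ⟶ W} (hb : RepWith @Etale b) (hc : RepWith @Etale c)
    (comm : b ≫ g = (yon S).map hV ≫ c) {t : T ⟶ W} {p₁ : V' ⟶ V} {p₂ : V' ⟶ T} (sqV : IsPullback p₁ p₂ hV t)
    {Yz : Sp S} {pY : Yz ⟶ Y} {qY : Yz ⟶ (yon S).obj T} (sqY : IsPullback pY qY g ((yon S).map t ≫ c)) :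
    ∃ ψ : (yon S).obj V' ⟶ Yz, RepWith @Etale ψ ∧ ψ ≫ pY = (yon S).map p₁ ≫ b ∧ ψ ≫ qY = (yon S).map p₂ := by
  have H := IsPullback.of_hasPullback g c
  have hP : IsAlgSpace (pullback g c) := isAlgSpace_pullback hY hZ (IsAlgSpace.yon_obj W) g c
  have hp : RepWith @Etale (pullback.fst g c) := MorphismProperty.of_isPullback (P := RepWith @Etale) H.flip hc
  let φ : (yon S).obj V ⟶ pullback g c := pullback.lift b ((yon S).map hV) comm
  have hφ : RepWith @Etale φ := repWith_etale_of_comp hP φ hp (by rw [pullback.lift_fst]; exact hb)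
  let π : Yz ⟶ pullback g c := pullback.lift pY (qY ≫ (yon S).map t) (by rw [Category.assoc]; exact sqY.w)
  have sqπ : IsPullback qY π ((yon S).map t) (pullback.snd g c) := by
    have h0 := sqY.flip
    rw [← pullback.lift_fst pY (qY ≫ (yon S).map t) (by rw [Category.assoc]; exact sqY.w)] at h0
    exact IsPullback.of_bot h0 (pullback.lift_snd _ _ _).symm H.flip
  obtain ⟨ψ, hψ1, hψ2⟩ := sqY.exists_lift ((yon S).map p₁ ≫ b) ((yon S).map p₂) (by
    rw [Category.assoc, comm, ← Category.assoc, ← Functor.map_comp, sqV.w, Functor.map_comp, Category.assoc])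
  refine ⟨ψ, ?_, hψ1, hψ2⟩
  have big := (sqV.map (yon S)).flip
  have e : (yon S).map hV = φ ≫ pullback.snd g c := (pullback.lift_snd _ _ _).symm
  rw [e, ← hψ2] at big
  have top : IsPullback ψ ((yon S).map p₁) π φ := IsPullback.of_right big (by
    apply pullback.hom_ext
    · rw [Category.assoc, Category.assoc, pullback.lift_fst, pullback.lift_fst, hψ1]
    · rw [Category.assoc, Category.assoc, pullback.lift_snd, pullback.lift_snd, ← Category.assoc, hψ2,
        ← Functor.map_comp, ← Functor.map_comp, sqV.w]) sqπ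
  exact MorphismProperty.of_isPullback (P := RepWith @Etale) top.flip hφ

theorem flat_of_flat_fibres_of (hX : IsAlgSpace X) (hY : IsAlgSpace Y) (hZ : IsAlgSpace Z) (f : X ⟶ Y) (h : Y ⟶ Z)
    (key : ∀ ⦃U V W : Over S⦄ (a : (yon S).obj U ⟶ X) (b : (yon S).obj V ⟶ Y) (c : (yon S).obj W ⟶ Z)
      (k : U ⟶ V) (l : V ⟶ W), RepWith @Etale a → RepWith @Etale b → RepWith @Etale c →
      a ≫ (f ≫ h) = (yon S).map (k ≫ l) ≫ c → b ≫ h = (yon S).map l ≫ c →
      (∀ w : W.left, Flat (pullback.snd k.left (l.left.fiberι w))) → Flat k.left)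
    (hfib : ∀ (K : Type u) [Field K] (sK : Spec (CommRingCat.of K) ⟶ S)
      (z : (yon S).obj (Over.mk sK) ⟶ Z) (Xz Yz : Sp S)
      (pX : Xz ⟶ X) (qX : Xz ⟶ (yon S).obj (Over.mk sK))
      (pY : Yz ⟶ Y) (qY : Yz ⟶ (yon S).obj (Over.mk sK)) (fz : Xz ⟶ Yz),
      IsPullback pX qX (f ≫ h) z → IsPullback pY qY h z → fz ≫ pY = pX ≫ f → fz ≫ qY = qX →
      LocP @Flat fz) : LocP @Flat f := by
  obtain ⟨W, c, hc, hcs⟩ := hZ.atlas
  obtain ⟨V, T2, m2, e2, b, -, -, hb, hbs, comm2⟩ := exists_atlas_chart hY hZ h (locP_top h) hc hcs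
  obtain ⟨U, T1, m1, e1, a, -, -, ha, has, comm1⟩ := exists_atlas_chart hX hY f (locP_top f) hb hbs
  refine one_chart etaleLocal_flat f a b (m1 ≫ e1) ha has hb comm1 ?_
  have comm : a ≫ (f ≫ h) = (yon S).map ((m1 ≫ e1) ≫ m2 ≫ e2) ≫ c := by
    rw [← Category.assoc, comm1, Category.assoc, comm2, ← Category.assoc, ← Functor.map_comp]
  refine key a b c (m1 ≫ e1) (m2 ≫ e2) ha hb hc comm comm2 fun w => ?_
  let T : Over S := Over.mk (W.left.fromSpecResidueField w ≫ W.hom)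
  let t : T ⟶ W := Over.homMk (W.left.fromSpecResidueField w) rfl
  let V' : Over S := Over.mk ((m2 ≫ e2).left.fiberι w ≫ V.hom)
  let p₁ : V' ⟶ V := Over.homMk ((m2 ≫ e2).left.fiberι w) rfl
  let p₂ : V' ⟶ T := Over.homMk ((m2 ≫ e2).left.fiberToSpecResidueField w) (by
    change _ ≫ _ ≫ W.hom = _ ≫ V.hom
    rw [← Over.w (m2 ≫ e2)]
    exact (pullback.condition_assoc W.hom).symm)
  have sqV : IsPullback p₁ p₂ (m2 ≫ e2) t :=
    IsPullback.of_map_of_faithful (Over.forget S) (IsPullback.of_hasPullback _ _)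
  let U' : Over S := Over.mk (pullback.snd (m1 ≫ e1).left p₁.left ≫ V'.hom)
  let r₁ : U' ⟶ U := Over.homMk (pullback.fst (m1 ≫ e1).left p₁.left) (by
    change pullback.fst _ _ ≫ U.hom = pullback.snd _ _ ≫ p₁.left ≫ V.hom
    rw [← Over.w (m1 ≫ e1), pullback.condition_assoc])
  let r₂ : U' ⟶ V' := Over.homMk (pullback.snd (m1 ≫ e1).left p₁.left) rfl
  have sqU : IsPullback r₁ r₂ (m1 ≫ e1) p₁ :=
    IsPullback.of_map_of_faithful (Over.forget S) (IsPullback.of_hasPullback _ _)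
  have sqY := IsPullback.of_hasPullback h ((yon S).map t ≫ c)
  have sqX := IsPullback.of_hasPullback (f ≫ h) ((yon S).map t ≫ c)
  obtain ⟨fz, hfz1, hfz2⟩ := sqY.exists_lift (pullback.fst (f ≫ h) ((yon S).map t ≫ c) ≫ f)
    (pullback.snd (f ≫ h) ((yon S).map t ≫ c)) (by rw [Category.assoc]; exact sqX.w)
  obtain ⟨ψV, hψV, hψV1, hψV2⟩ := exists_chart_bc hY hZ hb hc comm2 sqV sqY
  obtain ⟨ψU, hψU, hψU1, hψU2⟩ := exists_chart_bc hX hZ ha hc comm (sqU.paste_vert sqV) sqX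
  refine (hfib (W.left.residueField w) _ _ _ _ _ _ _ _ fz sqX sqY hfz1 hfz2) ψU ψV r₂ hψU hψV ?_
  refine sqY.hom_ext ?_ ?_
  · rw [Category.assoc, hfz1, ← Category.assoc, hψU1, Category.assoc, comm1, Category.assoc, hψV1,
      ← Category.assoc, ← Category.assoc, ← Functor.map_comp, ← Functor.map_comp, sqU.w]
  · rw [Category.assoc, hfz2, hψU2, Category.assoc, hψV2, Functor.map_comp]

theorem flat_of_surjective (hX : IsAlgSpace X) (hY : IsAlgSpace Y) (hZ : IsAlgSpace Z) (f : X ⟶ Y) (h : Y ⟶ Z)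
    (hf : LocP @Flat f) (hs : IsSurjectiveMor f) (hfl : LocP @Flat (f ≫ h)) : LocP @Flat h := by
  obtain ⟨W, c, hc, hcs⟩ := hZ.atlas
  obtain ⟨V, T2, m2, e2, b, -, -, hb, hbs, comm2⟩ := exists_atlas_chart hY hZ h (locP_top h) hc hcs
  refine one_chart etaleLocal_flat h b c (m2 ≫ e2) hb hbs hc comm2 ?_
  have H := IsPullback.of_hasPullback f b
  obtain ⟨M, T', m, e, v, hm, he, -, hv, hvs, hv2⟩ := exists_chart hX hY f hf H
  have ha : RepWith @Etale (v ≫ pullback.fst f b) :=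
    MorphismProperty.comp_mem _ _ _ hv (MorphismProperty.of_isPullback (P := RepWith @Etale) H.flip hb)
  have hme : Flat (m ≫ e).left := MorphismProperty.comp_mem @Flat _ _ hm (have := he; inferInstance)
  have hcomp : Flat ((m ≫ e) ≫ m2 ≫ e2).left := hfl _ c _ ha hc (by
    rw [← Category.assoc, Category.assoc v, H.w, ← Category.assoc, hv2, Category.assoc, comm2,
      ← Category.assoc, ← Functor.map_comp])
  rw [Flat.iff_flat_stalkMap] at hme hcomp ⊢
  intro y
  obtain ⟨p, hp⟩ := surjective_snd H hs (Points.ofScheme V y)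
  obtain ⟨x, rfl⟩ := hvs p
  obtain ⟨x, rfl⟩ := ofScheme_surjective M x
  rw [← Points.map_comp, hv2, map_ofScheme] at hp
  rw [← (Points.schemeEquiv V).injective hp]
  exact Groth.Agent.Locus.EtaleCriterion.flat_stalkMap_of_comp (m2 ≫ e2).left (m ≫ e).left x (hme x) (hcomp x)

theorem flat_of_flat_fibres (hX : IsAlgSpace X) (hY : IsAlgSpace Y) (hZ : IsAlgSpace Z) (f : X ⟶ Y) (h : Y ⟶ Z)
    (hfp : LocP @LocallyOfFinitePresentation (f ≫ h)) (hfl : LocP @Flat (f ≫ h))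
    (hft : LocP @LocallyOfFiniteType h)
    (hfib : ∀ (K : Type u) [Field K] (sK : Spec (CommRingCat.of K) ⟶ S)
      (z : (yon S).obj (Over.mk sK) ⟶ Z) (Xz Yz : Sp S)
      (pX : Xz ⟶ X) (qX : Xz ⟶ (yon S).obj (Over.mk sK))
      (pY : Yz ⟶ Y) (qY : Yz ⟶ (yon S).obj (Over.mk sK)) (fz : Xz ⟶ Yz),
      IsPullback pX qX (f ≫ h) z → IsPullback pY qY h z → fz ≫ pY = pX ≫ f → fz ≫ qY = qX →
      LocP @Flat fz) : LocP @Flat f :=
  flat_of_flat_fibres_of hX hY hZ f h (fun U V W a b c k l ha hb hc comm comm2 hw => by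
    have : LocallyOfFinitePresentation (k ≫ l).left := hfp a c _ ha hc comm
    have : Flat (k ≫ l).left := hfl a c _ ha hc comm
    have : LocallyOfFiniteType l.left := hft b c _ hb hc comm2
    exact Groth.Agent.Flat.FibreScheme.flat_of_flat_fibres l.left (k ≫ l).left k.left rfl hw) hfib

open Groth.Agent.Flat.FibreScheme in
/-- fibrewise flat morphisms of locally noetherian schemes are flat -/
theorem flat_of_flat_fibres_noeth {A B C : Scheme.{u}} (k : A ⟶ B) (l : B ⟶ C) [IsLocallyNoetherian A]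
    [IsLocallyNoetherian B] [Flat (k ≫ l)] (hk : ∀ s : C, Flat (pullback.snd k (l.fiberι s))) : Flat k := by
  refine (HasRingHomProperty.iff_exists_appLE (P := @Flat)
    (RingHom.Flat.stableUnderComposition.stableUnderCompositionWithLocalizationAway
      RingHom.Flat.holdsForLocalizationAway).1).mpr fun x => ?_
  obtain ⟨_, ⟨U, hU, rfl⟩, hxU, -⟩ :=
    C.isBasis_affineOpens.exists_subset_of_mem_open (Set.mem_univ (l (k x))) isOpen_univ
  obtain ⟨_, ⟨V, hV, rfl⟩, hxV, hVU⟩ :=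
    B.isBasis_affineOpens.exists_subset_of_mem_open (show k x ∈ l ⁻¹ᵁ U from hxU) (l ⁻¹ᵁ U).isOpen
  obtain ⟨_, ⟨W, hW, rfl⟩, hxW, hWV⟩ :=
    A.isBasis_affineOpens.exists_subset_of_mem_open (show x ∈ k ⁻¹ᵁ V from hxV) (k ⁻¹ᵁ V).isOpen
  have eV : V ≤ l ⁻¹ᵁ U := hVU
  have eW : W ≤ k ⁻¹ᵁ V := hWV
  have eWU : W ≤ (k ≫ l) ⁻¹ᵁ U := fun y hy => eV (eW hy)
  refine ⟨⟨V, hV⟩, ⟨W, hW⟩, hxW, eW, ?_⟩
  have hfib := property_fibre_chart (P := @Flat) k l hk hU hV eV hW eW
  have : IsNoetherianRing Γ(B, V) := IsLocallyNoetherian.component_noetherian ⟨V, hV⟩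
  have : IsNoetherianRing Γ(A, W) := IsLocallyNoetherian.component_noetherian ⟨W, hW⟩
  letI := (l.appLE U V eV).hom.toAlgebra
  letI := (k.appLE V W eW).hom.toAlgebra
  letI := ((k ≫ l).appLE U W eWU).hom.toAlgebra
  haveI : IsScalarTower Γ(C, U) Γ(B, V) Γ(A, W) := IsScalarTower.of_algebraMap_eq' (by
    simp only [RingHom.algebraMap_toAlgebra, ← CommRingCat.hom_comp, Scheme.Hom.appLE_comp_appLE])
  haveI : Module.Flat Γ(C, U) Γ(A, W) := (k ≫ l).flat_appLE hU hW eWU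
  show Module.Flat Γ(B, V) Γ(A, W)
  refine Module.flat_of_isLocalized_maximal Γ(A, W) _
    (fun P _ => LocalizedModule P.primeCompl Γ(A, W))
    (fun P _ => LocalizedModule.mkLinearMap P.primeCompl Γ(A, W)) fun P hP => ?_
  rw [← Groth.Agent.Flat.FlatAt.flatAt_iff_localizedModule]
  exact Groth.Agent.Flat.FibreCriterion.flatAt_of_killed (P.comap (algebraMap Γ(C, U) Γ(A, W))) P Ideal.map_comap_le
    (Groth.Agent.Flat.FlatAt.FlatAt.of_flat P hP.ne_top)
    (flatAtKilled_of_fibre _ P rfl (flat_baseChange_of_includeRight _ (hfib _)))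

end AlgSpTopo
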