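import Mathlib
import Groth.Agent.AlgSpTopo.SourceScheme
import Groth.Agent.Flat.FibreAt
import Groth.Agent.Locus.EtaleCriterion
import Groth.Agent.S0386
import Groth.Agent.AlgSpTopo.FibreFlat
import Groth.Agent.Mor.Cancel

/-! Flatness at a point, in the open-neighbourhood form. -/

set_option autoImplicit false
set_option backward.isDefEq.respectTransparency false
universe u
open CategoryTheory CategoryTheory.Limits AlgebraicGeometry

namespace AlgSpTopo

variable {U V W : Scheme.{u}}

/-- flat on an open neighbourhood -/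
def FlatNhd (k : U ⟶ V) (u : U) : Prop := ∃ O : U.Opens, u ∈ O ∧ Flat (O.ι ≫ k)

theorem stalk_of_flatNhd {k : U ⟶ V} {u : U} (h : FlatNhd k u) : (k.stalkMap u).hom.Flat := by
  obtain ⟨O, hu, hO⟩ := h
  have h1 := Flat.stalkMap (O.ι ≫ k) ⟨u, hu⟩
  rw [Scheme.Hom.stalkMap_comp, CommRingCat.hom_comp] at h1
  have := RingHom.Flat.respectsIso
  exact (this.cancel_right_isIso _ _).1 h1

theorem flatNhd_of_stalk {k : U ⟶ V} [LocallyOfFinitePresentation k] {u : U} (h : (k.stalkMap u).hom.Flat) :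
    FlatNhd k u := by
  refine ⟨⟨_, Groth.Agent.S0386.result k⟩, h, (Flat.iff_flat_stalkMap _).2 fun x => ?_⟩
  have hx : (k.stalkMap ((Scheme.Opens.ι ⟨_, Groth.Agent.S0386.result k⟩ : _ ⟶ U) x)).hom.Flat := x.2
  rw [Scheme.Hom.stalkMap_comp, CommRingCat.hom_comp]
  exact RingHom.Flat.comp hx (Flat.stalkMap _ x)

theorem flatNhd_of_flat (k : U ⟶ V) [Flat k] (u : U) : FlatNhd k u := ⟨⊤, trivial, inferInstance⟩

theorem flatNhd_comp {k : U ⟶ V} {g : V ⟶ W} {u : U} (hk : FlatNhd k u) [Flat g] : FlatNhd (k ≫ g) u := by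
  obtain ⟨O, hu, hO⟩ := hk
  exact ⟨O, hu, by rw [← Category.assoc]; infer_instance⟩

theorem flatNhd_cancel {k : U ⟶ V} {g : V ⟶ W} [Etale g] {u : U} : FlatNhd (k ≫ g) u ↔ FlatNhd k u := by
  refine ⟨fun ⟨O, hu, hO⟩ => ⟨O, hu, etaleLocal_flat.cancel (O.ι ≫ k) g inferInstance (by rw [Category.assoc]; exact hO)⟩,
    fun h => flatNhd_comp h⟩

/-- pull back along a map into the open -/
theorem flatNhd_bc {U' V' : Scheme.{u}} {k : U ⟶ V} {k' : U' ⟶ V'} {p : U' ⟶ U} {q : V' ⟶ V}
    (sq : IsPullback p k' k q) {u' : U'} (h : FlatNhd k (p u')) : FlatNhd k' u' := by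
  obtain ⟨O, hu, hO⟩ := h
  refine ⟨p ⁻¹ᵁ O, hu, ?_⟩
  exact MorphismProperty.of_isPullback (P := @Flat) ((isPullback_morphismRestrict p O).paste_vert sq) hO

theorem flatNhd_etale_source {U' : Scheme.{u}} {e : U' ⟶ U} [Etale e] {k : U ⟶ V} {u' : U'} :
    FlatNhd (e ≫ k) u' ↔ FlatNhd k (e u') := by
  constructor
  · intro ⟨O, hu, hO⟩
    let O' : U.Opens := ⟨e '' (O : Set U'), e.isOpenMap _ O.2⟩
    have hr : Set.range (O.ι ≫ e) ⊆ Set.range O'.ι := by
      rw [Scheme.Opens.range_ι]; rintro _ ⟨x, rfl⟩; exact ⟨x.1, x.2, rfl⟩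
    let d : (O : Scheme.{u}) ⟶ O' := IsOpenImmersion.lift O'.ι (O.ι ≫ e) hr
    have hd : d ≫ O'.ι = O.ι ≫ e := IsOpenImmersion.lift_fac _ _ _
    have : Etale d := by
      have : Etale (d ≫ O'.ι) := by rw [hd]; infer_instance
      exact Etale.of_comp d O'.ι
    have : Surjective d := ⟨by
      rintro ⟨_, x, hx, rfl⟩
      refine ⟨⟨x, hx⟩, Subtype.ext ?_⟩
      exact congrArg (fun m : (O : Scheme.{u}) ⟶ U => m ⟨x, hx⟩) hd⟩
    refine ⟨O', ⟨u', hu, rfl⟩, etaleLocal_flat.descend d _ inferInstance this ?_⟩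
    rw [← Category.assoc, hd, Category.assoc]
    exact hO
  · intro ⟨O, hu, hO⟩
    refine ⟨e ⁻¹ᵁ O, hu, ?_⟩
    rw [← Category.assoc, ← (isPullback_morphismRestrict e O).w, Category.assoc]
    infer_instance

theorem spec_map_flat {K L : Type u} [Field K] [Field L] (φ : CommRingCat.of K ⟶ CommRingCat.of L) : Flat (Spec.map φ) := by
  rw [HasRingHomProperty.Spec_iff (P := @Flat)]
  algebraize [φ.hom]
  exact RingHom.flat_algebraMap_iff.2 inferInstance

/-- flatness at a point descends along base change of the base -/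
theorem flatNhd_descend {U' V' T : Scheme.{u}} (k : U ⟶ V) (l : V ⟶ W) (t : T ⟶ W) [Flat (k ≫ l)]
    [LocallyOfFinitePresentation (k ≫ l)] [LocallyOfFiniteType l] {p : U' ⟶ U} {q : V' ⟶ V} {k' : U' ⟶ V'}
    {l' : V' ⟶ T} (sqV : IsPullback q l' l t) (sqU : IsPullback p k' k q) (u' : U') (h : FlatNhd k' u') :
    FlatNhd k (p u') := by
  have : LocallyOfFinitePresentation k := Groth.Agent.Mor.Cancel.locallyOfFinitePresentation_of_comp k l
  refine flatNhd_of_stalk ((Groth.Agent.Flat.FibreAt.flat_stalkMap_iff_fibre k l (p u')).1 ⟨Flat.stalkMap _ _, ?_⟩).2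
  let w := l (k (p u'))
  have hw : t (l' (k' u')) = w := by
    have e1 := congrArg (fun m : U' ⟶ V => m u') sqU.w
    have e2 := congrArg (fun m : V' ⟶ W => m (k' u')) sqV.w
    exact e2.symm.trans (congrArg l e1.symm)
  let z : T := l' (k' u')
  let ρ : Spec (T.residueField z) ⟶ Spec (W.residueField w) :=
    Spec.map (t.residueFieldMap z) ≫ Spec.map (W.residueFieldCongr hw.symm).hom
  have hρ : ρ ≫ W.fromSpecResidueField w = T.fromSpecResidueField z ≫ t := by
    rw [Category.assoc, Scheme.residueFieldCongr_fromSpecResidueField, Scheme.Hom.SpecMap_residueFieldMap_fromSpecResidueField]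
  have : Flat ρ := by
    have h1 : Flat (Spec.map (t.residueFieldMap z)) := spec_map_flat _
    infer_instance
  let πU := pullback.fst ((k ≫ l).fiberToSpecResidueField w) ρ
  let πV := pullback.fst (l.fiberToSpecResidueField w) ρ
  have H := IsPullback.of_hasPullback ((k ≫ l).fiberToSpecResidueField w) ρ
  have H' := IsPullback.of_hasPullback (l.fiberToSpecResidueField w) ρ
  have bigU : IsPullback (πU ≫ (k ≫ l).fiberι w) (pullback.snd _ _) (k ≫ l) (T.fromSpecResidueField z ≫ t) := by
    rw [← hρ]; exact H.paste_horiz (IsPullback.of_hasPullback (k ≫ l) (W.fromSpecResidueField w))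
  have bigV : IsPullback (πV ≫ l.fiberι w) (pullback.snd _ _) l (T.fromSpecResidueField z ≫ t) := by
    rw [← hρ]; exact H'.paste_horiz (IsPullback.of_hasPullback l (W.fromSpecResidueField w))
  have sqA := sqU.paste_vert sqV
  obtain ⟨jA, jA1, jA2⟩ := sqA.exists_lift (πU ≫ (k ≫ l).fiberι w) (pullback.snd _ _ ≫ T.fromSpecResidueField z)
    (by rw [bigU.w, Category.assoc])
  obtain ⟨jB, jB1, jB2⟩ := sqV.exists_lift (πV ≫ l.fiberι w) (pullback.snd _ _ ≫ T.fromSpecResidueField z)
    (by rw [bigV.w, Category.assoc])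
  have pA : IsPullback jA (pullback.snd _ _) (k' ≫ l') (T.fromSpecResidueField z) := by
    have := bigU
    rw [← jA1] at this
    exact IsPullback.of_right this jA2 sqA
  have pB : IsPullback jB (pullback.snd _ _) l' (T.fromSpecResidueField z) := by
    have := bigV
    rw [← jB1] at this
    exact IsPullback.of_right this jB2 sqV
  obtain ⟨kA, kA1, kA2⟩ := pB.exists_lift (jA ≫ k') (pullback.snd _ _) (by rw [Category.assoc]; exact pA.w)
  have pK : IsPullback jA kA k' jB := IsPullback.of_bot (by rw [kA2]; exact pA) kA1.symm pB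
  have comm : kA ≫ πV = πU ≫ MoreMor.fiberMap k l w := by
    apply pullback.hom_ext
    · change (kA ≫ πV) ≫ l.fiberι w = _
      rw [Category.assoc, ← jB1, ← Category.assoc, kA1, Category.assoc, ← sqU.w, ← Category.assoc, jA1]
      simp [MoreMor.fiberMap]
    · change (kA ≫ πV) ≫ l.fiberToSpecResidueField w = _
      rw [Category.assoc, H'.w, ← Category.assoc, kA2, ← H.w]
      simp [MoreMor.fiberMap, πU]
  obtain ⟨a, ha1, ha2⟩ := Scheme.exists_preimage_of_isPullback pA u' (IsLocalRing.closedPoint _)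
    (Scheme.fromSpecResidueField_apply z _).symm
  have hA : FlatNhd kA a := flatNhd_bc pK (by rw [ha1]; exact h)
  have : Flat πV := inferInstance
  have hcomp := stalk_of_flatNhd (flatNhd_comp (g := πV) hA)
  rw [comm] at hcomp
  have h2 := Groth.Agent.Locus.EtaleCriterion.flat_stalkMap_of_comp (MoreMor.fiberMap k l w) πU a (Flat.stalkMap _ _) hcomp
  have e : πU a = (k ≫ l).asFiber (p u') := by
    apply ((k ≫ l).fiberι w).isEmbedding.injective
    refine Eq.trans ?_ ((k ≫ l).fiberι_asFiber (p u')).symm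
    have := congrArg (fun m : _ ⟶ U => m a) jA1
    exact this.symm.trans (congrArg p ha1)
  rw [e] at h2
  exact h2

open AlgSp Opposite

variable {S : Scheme.{u}} {X Y Z : Sp S}

theorem locP_lfp_of_comp (hX : IsAlgSpace X) (hY : IsAlgSpace Y) (hZ : IsAlgSpace Z) (f : X ⟶ Y) (h : Y ⟶ Z)
    (hfp : LocP @LocallyOfFinitePresentation (f ≫ h)) (hft : LocP @LocallyOfFiniteType h) :
    LocP @LocallyOfFinitePresentation f := by
  obtain ⟨W, c, hc, hcs⟩ := hZ.atlas
  obtain ⟨V, T2, m2, e2, b, -, -, hb, hbs, comm2⟩ := exists_atlas_chart hY hZ h (locP_top h) hc hcs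
  obtain ⟨U, T1, m1, e1, a, -, -, ha, has, comm1⟩ := exists_atlas_chart hX hY f (locP_top f) hb hbs
  refine one_chart etaleLocal_locallyOfFinitePresentation f a b (m1 ≫ e1) ha has hb comm1 ?_
  have : LocallyOfFinitePresentation ((m1 ≫ e1).left ≫ (m2 ≫ e2).left) := hfp a c ((m1 ≫ e1) ≫ m2 ≫ e2) ha hc (by
    rw [← Category.assoc, comm1, Category.assoc, comm2, ← Category.assoc, ← Functor.map_comp])
  have : LocallyOfFiniteType (m2 ≫ e2).left := hft b c _ hb hc comm2
  exact Groth.Agent.Mor.Cancel.locallyOfFinitePresentation_of_comp _ (m2 ≫ e2).left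

/-- flatness at a point is read off on any chart -/
theorem isFlatAtMor_iff {f : X ⟶ Y} (hf : LocP @LocallyOfFinitePresentation f) {U V : Over S}
    (a : (yon S).obj U ⟶ X) (b : (yon S).obj V ⟶ Y) (k : U ⟶ V) (ha : RepWith @Etale a) (hb : RepWith @Etale b)
    (comm : a ≫ f = (yon S).map k ≫ b) (u : U.left) :
    IsFlatAtMor f (Points.ofPt a u) ↔ FlatNhd k.left u := by
  constructor
  · intro h
    have := hf a b k ha hb comm
    exact flatNhd_of_stalk (h a b k u ha hb comm rfl)
  · intro h U' V' a' b' k' u' ha' hb' comm' hx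
    refine stalk_of_flatNhd ?_
    obtain ⟨U'', w, e, squ, he⟩ := exists_square ha a'
    obtain ⟨w, rfl⟩ := (yon S).map_surjective w
    have hw : Etale w.left := ha'.property _ _ _ squ.flip
    obtain ⟨V'', vb, v', sqv, hv'⟩ := exists_square hb b'
    obtain ⟨vb, rfl⟩ := (yon S).map_surjective vb
    have hvb : Etale vb.left := hb'.property _ _ _ sqv.flip
    obtain ⟨m, hm1, hm2⟩ := sqv.exists_lift ((yon S).map (w ≫ k)) ((yon S).map (e ≫ k')) (by
      rw [Functor.map_comp, Category.assoc, ← comm, ← Category.assoc, squ.w, Category.assoc, comm',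
        Functor.map_comp, Category.assoc])
    obtain ⟨m, rfl⟩ := (yon S).map_surjective m
    have e1 : m.left ≫ vb.left = w.left ≫ k.left :=
      congrArg CommaMorphism.left ((yon S).map_injective (X := U'') (by simpa using hm1) : m ≫ vb = w ≫ k)
    have e2 : m.left ≫ v'.left = e.left ≫ k'.left :=
      congrArg CommaMorphism.left ((yon S).map_injective (X := U'') (by simpa using hm2) : m ≫ v' = e ≫ k')
    obtain ⟨z, hz1, hz2⟩ := points_surj squ (Points.ofScheme U u) (Points.ofScheme U' u') (by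
      rw [← Points.ofPt_eq_map_ofScheme, ← Points.ofPt_eq_map_ofScheme]; exact hx.symm)
    obtain ⟨z, rfl⟩ := ofScheme_surjective U'' z
    rw [map_ofScheme] at hz1 hz2
    have hz1 := (Points.schemeEquiv U).injective hz1
    have hz2 := (Points.schemeEquiv U').injective hz2
    have := hw; have := hvb; have := he; have := hv'
    rw [← hz1, ← flatNhd_etale_source (e := w.left), ← e1, flatNhd_cancel] at h
    rw [← hz2, ← flatNhd_etale_source (e := e.left), ← e2, flatNhd_cancel]
    exact h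

theorem isOpen_flatLocus (hX : IsAlgSpace X) (hY : IsAlgSpace Y) (f : X ⟶ Y)
    (hf : LocP @LocallyOfFinitePresentation f) : IsOpen {x : Points X | IsFlatAtMor f x} := by
  obtain ⟨V, b, hb, hbs⟩ := hY.atlas
  obtain ⟨U, T1, m1, e1, a, -, -, ha, has, comm1⟩ := exists_atlas_chart hX hY f (locP_top f) hb hbs
  have e : {x : Points X | IsFlatAtMor f x} = Points.ofPt a '' {u | FlatNhd (m1 ≫ e1).left u} := by
    ext x
    obtain ⟨u, rfl⟩ := surjective_ofPt (surjective_of_repWith has) x
    refine ⟨fun h => ⟨u, (isFlatAtMor_iff hf a b _ ha hb comm1 u).1 h, rfl⟩, fun ⟨u', hu', hx⟩ => ?_⟩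
    rw [← hx]
    exact (isFlatAtMor_iff hf a b _ ha hb comm1 u').2 hu'
  rw [e]
  refine isOpenMap_ofPt ha _ (isOpen_iff_forall_mem_open.2 ?_)
  rintro u ⟨O, hu, hO⟩
  exact ⟨O, fun y hy => ⟨O, hy, hO⟩, O.2, hu⟩

theorem surjective_chart_bc {Q P Q' : Sp S} {π : Q' ⟶ Q} {φ : P ⟶ Q} {P' : Sp S} {π' : P' ⟶ P} {ψ : P' ⟶ Q'}
    (sq : IsPullback ψ π' π φ) (h : Function.Surjective (Points.map φ)) : Function.Surjective (Points.map ψ) :=
  surjective_snd sq.flip h

/-- etale charts of base changes, surjective onto the fibre product -/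
theorem exists_chart_bc_surj (hY : IsAlgSpace Y) (hZ : IsAlgSpace Z) {g : Y ⟶ Z} {V W T V' : Over S}
    {b : (yon S).obj V ⟶ Y} {c : (yon S).obj W ⟶ Z} {hV : V ⟶ W} (hb : RepWith @Etale b) (hc : RepWith @Etale c)
    (comm : b ≫ g = (yon S).map hV ≫ c) (hs : Function.Surjective (Points.map (pullback.lift b ((yon S).map hV) comm)))
    {t : T ⟶ W} {p₁ : V' ⟶ V} {p₂ : V' ⟶ T} (sqV : IsPullback p₁ p₂ hV t)
    {Yz : Sp S} {pY : Yz ⟶ Y} {qY : Yz ⟶ (yon S).obj T} (sqY : IsPullback pY qY g ((yon S).map t ≫ c)) :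
    ∃ ψ : (yon S).obj V' ⟶ Yz, RepWith @Etale ψ ∧ ψ ≫ pY = (yon S).map p₁ ≫ b ∧ ψ ≫ qY = (yon S).map p₂ ∧
      Function.Surjective (Points.map ψ) := by
  obtain ⟨ψ, hψ, hψ1, hψ2⟩ := exists_chart_bc hY hZ hb hc comm sqV sqY
  refine ⟨ψ, hψ, hψ1, hψ2, ?_⟩
  have H := IsPullback.of_hasPullback g c
  let π : Yz ⟶ pullback g c := pullback.lift pY (qY ≫ (yon S).map t) (by rw [Category.assoc]; exact sqY.w)
  have sqπ : IsPullback qY π ((yon S).map t) (pullback.snd g c) := by
    have h0 := sqY.flip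
    rw [← pullback.lift_fst pY (qY ≫ (yon S).map t) (by rw [Category.assoc]; exact sqY.w)] at h0
    exact IsPullback.of_bot h0 (pullback.lift_snd _ _ _).symm H.flip
  have big := (sqV.map (yon S)).flip
  rw [show (yon S).map hV = pullback.lift b ((yon S).map hV) comm ≫ pullback.snd g c from
    (pullback.lift_snd _ _ _).symm, ← hψ2] at big
  have top : IsPullback ψ ((yon S).map p₁) π (pullback.lift b ((yon S).map hV) comm) := IsPullback.of_right big (by
    apply pullback.hom_ext
    · rw [Category.assoc, Category.assoc, pullback.lift_fst, pullback.lift_fst, hψ1]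
    · rw [Category.assoc, Category.assoc, pullback.lift_snd, pullback.lift_snd, ← Category.assoc, hψ2,
        ← Functor.map_comp, ← Functor.map_comp, sqV.w]) sqπ
  exact surjective_chart_bc top hs

theorem flatLocus_bc {X' Y' Z' : Sp S} (hX : IsAlgSpace X) (hY : IsAlgSpace Y) (hZ : IsAlgSpace Z)
    (hX' : IsAlgSpace X') (hY' : IsAlgSpace Y') (hZ' : IsAlgSpace Z') (f : X ⟶ Y) (h : Y ⟶ Z)
    (hfp : LocP @LocallyOfFinitePresentation (f ≫ h)) (hfl : LocP @Flat (f ≫ h)) (hft : LocP @LocallyOfFiniteType h)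
    {g : Z' ⟶ Z} {f' : X' ⟶ Y'} {h' : Y' ⟶ Z'} {pX : X' ⟶ X} {pY : Y' ⟶ Y}
    (sqY : IsPullback pY h' h g) (sqX : IsPullback pX f' f pY) (x' : Points X') :
    IsFlatAtMor f' x' ↔ IsFlatAtMor f (Points.map pX x') := by
  have hf := locP_lfp_of_comp hX hY hZ f h hfp hft
  have hf' : LocP @LocallyOfFinitePresentation f' :=
    locP_bc etaleLocal_locallyOfFinitePresentation hX hY hY' sqX hf
  obtain ⟨W, c, hc, hcs⟩ := hZ.atlas
  obtain ⟨T₀, d, hd, hds⟩ := hZ'.atlas
  obtain ⟨T, t, e, sqT, he⟩ := exists_square hc (d ≫ g)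
  obtain ⟨t, rfl⟩ := (yon S).map_surjective t
  have hd' : RepWith @Etale ((yon S).map e ≫ d) :=
    MorphismProperty.comp_mem _ _ _ ((repWith_yon_map_iff _ _).2 he) hd
  have hd's : Function.Surjective (Points.map ((yon S).map e ≫ d)) := fun z => by
    obtain ⟨y, rfl⟩ := surjective_of_repWith hds z
    have : Surjective e.left := hcs.property _ _ _ sqT
    obtain ⟨y', rfl⟩ := surjective_of_repWith ((repWith_yon_map_iff _ e).2 this) y
    exact ⟨y', Points.map_comp _ _ _⟩
  -- atlases adapted to `W`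
  have HY := IsPullback.of_hasPullback h c
  obtain ⟨V, φV, hφV, hφVs⟩ := (isAlgSpace_pullback hY hZ (IsAlgSpace.yon_obj W) h c).atlas
  have hb : RepWith @Etale (φV ≫ pullback.fst h c) :=
    MorphismProperty.comp_mem _ _ _ hφV (MorphismProperty.of_isPullback (P := RepWith @Etale) HY.flip hc)
  obtain ⟨lV, hlV⟩ := (yon S).map_surjective (φV ≫ pullback.snd h c)
  have HX := IsPullback.of_hasPullback f (φV ≫ pullback.fst h c)
  obtain ⟨U, φU, hφU, hφUs⟩ := (isAlgSpace_pullback hX hY (IsAlgSpace.yon_obj V) f (φV ≫ pullback.fst h c)).atlas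
  have ha : RepWith @Etale (φU ≫ pullback.fst f (φV ≫ pullback.fst h c)) :=
    MorphismProperty.comp_mem _ _ _ hφU (MorphismProperty.of_isPullback (P := RepWith @Etale) HX.flip hb)
  obtain ⟨kU, hkU⟩ := (yon S).map_surjective (φU ≫ pullback.snd f (φV ≫ pullback.fst h c))
  have commV : (φV ≫ pullback.fst h c) ≫ h = (yon S).map lV ≫ c := by
    rw [hlV, Category.assoc, Category.assoc, HY.w]
  have commk : (φU ≫ pullback.fst f (φV ≫ pullback.fst h c)) ≫ f = (yon S).map kU ≫ (φV ≫ pullback.fst h c) := by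
    rw [hkU, Category.assoc, Category.assoc, HX.w]
  have commU : (φU ≫ pullback.fst f (φV ≫ pullback.fst h c)) ≫ (f ≫ h) = (yon S).map (kU ≫ lV) ≫ c := by
    rw [← Category.assoc, commk, Category.assoc, commV, ← Category.assoc, ← Functor.map_comp]
  -- base change of the charts
  let V' : Over S := Over.mk (pullback.snd lV.left t.left ≫ T.hom)
  let qV : V' ⟶ V := Over.homMk (pullback.fst lV.left t.left) (by
    change pullback.fst _ _ ≫ V.hom = pullback.snd _ _ ≫ T.hom
    rw [← Over.w lV, ← Over.w t, pullback.condition_assoc])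
  let lV' : V' ⟶ T := Over.homMk (pullback.snd lV.left t.left) rfl
  have sV : IsPullback qV lV' lV t := IsPullback.of_map_of_faithful (Over.forget S) (IsPullback.of_hasPullback _ _)
  let U' : Over S := Over.mk (pullback.snd kU.left qV.left ≫ V'.hom)
  let qU : U' ⟶ U := Over.homMk (pullback.fst kU.left qV.left) (by
    change pullback.fst _ _ ≫ U.hom = pullback.snd _ _ ≫ V'.hom
    rw [← Over.w kU, ← Over.w qV, pullback.condition_assoc])
  let kU' : U' ⟶ V' := Over.homMk (pullback.snd kU.left qV.left) rfl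
  have sU : IsPullback qU kU' kU qV := IsPullback.of_map_of_faithful (Over.forget S) (IsPullback.of_hasPullback _ _)
  have PY := IsPullback.of_hasPullback h' ((yon S).map e ≫ d)
  have PX := IsPullback.of_hasPullback (f' ≫ h') ((yon S).map e ≫ d)
  have eT : ((yon S).map e ≫ d) ≫ g = (yon S).map t ≫ c := by rw [Category.assoc, ← sqT.w]
  have bigY := PY.paste_horiz sqY
  rw [eT] at bigY
  have bigX := PX.paste_horiz (sqX.paste_vert sqY)
  rw [eT] at bigX
  obtain ⟨ψV, hψV, hψV1, hψV2⟩ := exists_chart_bc hY hZ hb hc commV sV bigY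
  obtain ⟨ψU, hψU, hψU1, hψU2, hψUs⟩ := exists_chart_bc_surj hX hZ ha hc commU (by
    intro p
    have hp : Points.map f (Points.map (pullback.fst (f ≫ h) c) p) =
        Points.map (pullback.fst h c) (Points.map (pullback.lift (pullback.fst (f ≫ h) c ≫ f) (pullback.snd (f ≫ h) c)
          (by rw [Category.assoc, pullback.condition])) p) := by
      rw [← Points.map_comp, ← Points.map_comp, pullback.lift_fst]
    -- `X ×_Y V` maps onto `X ×_Z W`
    let κ : pullback (f ≫ h) c ⟶ pullback h c := pullback.lift (pullback.fst (f ≫ h) c ≫ f) (pullback.snd (f ≫ h) c)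
      (by rw [Category.assoc, pullback.condition])
    let ν : pullback f (φV ≫ pullback.fst h c) ⟶ pullback (f ≫ h) c :=
      pullback.lift (pullback.fst _ _) (pullback.snd _ _ ≫ φV ≫ pullback.snd h c)
        (by rw [← Category.assoc, HX.w, Category.assoc, Category.assoc, Category.assoc, Category.assoc, HY.w])
    have sqν : IsPullback ν (pullback.snd f (φV ≫ pullback.fst h c)) κ φV := by
      have sqκ : IsPullback (pullback.fst (f ≫ h) c) κ f (pullback.fst h c) :=
        IsPullback.of_bot (by rw [show κ ≫ pullback.snd h c = pullback.snd (f ≫ h) c from pullback.lift_snd _ _ _]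
                              exact IsPullback.of_hasPullback (f ≫ h) c) (pullback.lift_fst _ _ _).symm HY
      have HX' := HX
      rw [show pullback.fst f (φV ≫ pullback.fst h c) = ν ≫ pullback.fst (f ≫ h) c from (pullback.lift_fst _ _ _).symm] at HX'
      refine IsPullback.of_right HX' ?_ sqκ
      apply pullback.hom_ext
      · simp only [κ, ν, Category.assoc, pullback.lift_fst, pullback.lift_fst_assoc]; exact HX.w
      · simp only [κ, ν, Category.assoc, pullback.lift_snd]
    obtain ⟨q, hq⟩ := surjective_chart_bc sqν (surjective_of_repWith hφVs) p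
    obtain ⟨r, rfl⟩ := surjective_of_repWith hφUs q
    refine ⟨r, ?_⟩
    rw [← hq, ← Points.map_comp]
    refine congrArg (fun m => Points.map m r) ?_
    apply pullback.hom_ext
    · simp [ν]
    · simp only [ν, Category.assoc, pullback.lift_snd, Functor.map_comp, hkU, hlV]) (sU.paste_vert sV) bigX
  have commk' : (ψU ≫ pullback.fst (f' ≫ h') ((yon S).map e ≫ d)) ≫ f' =
      (yon S).map kU' ≫ ψV ≫ pullback.fst h' ((yon S).map e ≫ d) := by
    refine sqY.hom_ext ?_ ?_
    · simp only [Category.assoc]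
      rw [← sqX.w, ← Category.assoc (pullback.fst (f' ≫ h') _) pX, ← Category.assoc ψU, hψU1, Category.assoc, commk, hψV1]
      simp only [← Category.assoc, ← Functor.map_comp, sU.w]
    · simp only [Category.assoc]
      rw [PX.w, ← Category.assoc ψU, hψU2, PY.w, ← Category.assoc ψV, hψV2, Functor.map_comp, Category.assoc]
  have ha' := MorphismProperty.comp_mem _ _ _ hψU (MorphismProperty.of_isPullback (P := RepWith @Etale) PX.flip hd')
  have hb' := MorphismProperty.comp_mem _ _ _ hψV (MorphismProperty.of_isPullback (P := RepWith @Etale) PY.flip hd')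
  obtain ⟨p, rfl⟩ := surjective_snd PX.flip hd's x'
  obtain ⟨u', rfl⟩ := hψUs p
  obtain ⟨u', rfl⟩ := ofScheme_surjective U' u'
  rw [← Points.map_comp ψU, ← Points.ofPt_eq_map_ofScheme, Points.map_ofPt, Category.assoc, hψU1, ofPt_comp,
    isFlatAtMor_iff hf' _ _ kU' ha' hb' commk', isFlatAtMor_iff hf _ _ kU ha hb commk]
  refine ⟨fun hh => ?_, fun hh => flatNhd_bc (sU.map (Over.forget S)) hh⟩
  have : Flat (kU.left ≫ lV.left) := hfl _ c (kU ≫ lV) ha hc commU
  have : LocallyOfFinitePresentation (kU.left ≫ lV.left) := hfp _ c (kU ≫ lV) ha hc commU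
  have : LocallyOfFiniteType lV.left := hft _ c lV hb hc commV
  exact flatNhd_descend kU.left lV.left t.left (sV.map (Over.forget S)) (sU.map (Over.forget S)) u' hh

end AlgSpTopo
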