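import Mathlib
import Groth.Agent.AlgSpTopo.LocalST

/-! The largest open over which a base-local property holds. -/

set_option autoImplicit false
set_option backward.isDefEq.respectTransparency false
universe u
open CategoryTheory CategoryTheory.Limits AlgebraicGeometry Opposite

namespace AlgSpTopo
open AlgSp

variable {S : Scheme.{u}} {X Y Z : Sp S}

theorem injective_points_of_mono (j : Z ⟶ X) [Mono j] : Function.Injective (Points.map j) := fun a b h => by
  obtain ⟨w, h1, h2⟩ := points_surj (show IsPullback (𝟙 Z) (𝟙 Z) j j from IsKernelPair.id_of_mono j) a b h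
  rw [← h1, ← h2]

theorem isEtaleMor_of_isIso (e : X ⟶ Y) [IsIso e] : IsEtaleMor e := fun _ φ hφ =>
  (MorphismProperty.cancel_right_of_respectsIso (RepWith @Etale) φ e).2 hφ

/-- etale-local properties hold for open immersions -/
theorem locP_of_openImm {R : MorphismProperty Scheme.{u}} (hR : EtaleLocal R) {j : Z ⟶ X}
    (hj : RepWith @IsOpenImmersion j) : LocP R j :=
  locP_mono hR.of_etale (locP_etale_of_isEtaleMor j (isEtaleMor_of_openImm hj))

/-- the base-local hypothesis -/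
abbrev BaseLocal (R : MorphismProperty Scheme.{u}) (P : MorphismProperty (Sp S)) : Prop :=
  IsLocalOnBase (S := S) (fun _ _ Y g => IsCover (LocP R) Y g) P

variable {R : MorphismProperty Scheme.{u}} {P : MorphismProperty (Sp S)}

/-- `P` holds for `f` over the open `O` -/
def Holds (P : MorphismProperty (Sp S)) (f : X ⟶ Y) (O : Set (Points Y)) : Prop :=
  P (pullback.snd f (openSubι Y O))

/-- the square between two base changes of `f` -/
theorem exists_sub_square (f : X ⟶ Y) {V W X₁ : Sp S} {jW : W ⟶ Y} {jV : V ⟶ Y} {k : V ⟶ W} (hk : k ≫ jW = jV)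
    {q : X₁ ⟶ X} {p : X₁ ⟶ V} (sq : IsPullback q p f jV) :
    ∃ t : X₁ ⟶ pullback f jW, IsPullback t p (pullback.snd f jW) k := by
  obtain ⟨t, ht1, ht2⟩ := (IsPullback.of_hasPullback f jW).exists_lift q (p ≫ k)
    (by rw [Category.assoc, hk, sq.w])
  refine ⟨t, IsPullback.of_right ?_ ht2 (IsPullback.of_hasPullback f jW)⟩
  rwa [ht1, hk]

variable (hR : EtaleLocal R) (hRf : ∀ ⦃A B : Scheme.{u}⦄ (h : A ⟶ B), R h → Flat h)
  (hRp : ∀ ⦃A B : Scheme.{u}⦄ (h : A ⟶ B), R h → LocallyOfFinitePresentation h)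
  (hP : BaseLocal R P)

include hR hP in
theorem prop_iff_of_iso {Y' X' : Sp S} (hX : IsAlgSpace X) (hY : IsAlgSpace Y) (hX' : IsAlgSpace X')
    (hY' : IsAlgSpace Y') {f : X ⟶ Y} {e : Y' ⟶ Y} [IsIso e] {q : X' ⟶ X} {p : X' ⟶ Y'}
    (sq : IsPullback q p f e) : P f ↔ P p := by
  refine (hP (ι := PUnit.{u+1}) (fun _ => Y') (fun _ => e) hY (fun _ => hY')
    ⟨fun _ => locP_mono hR.of_etale (locP_etale_of_isEtaleMor e (isEtaleMor_of_isIso e)),
      fun y => ⟨⟨⟩, Points.map (inv e) y, by rw [← Points.map_comp, IsIso.inv_hom_id, Points.map_id]⟩⟩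
    f hX (fun _ => X') (fun _ => p) (fun _ => q) (fun _ => hX') fun _ => sq).trans
    ⟨fun h => h ⟨⟩, fun h _ => h⟩

include hR hP in
theorem holds_iff (hX : IsAlgSpace X) (hY : IsAlgSpace Y) (f : X ⟶ Y) {O : Set (Points Y)} (hO : IsOpen O)
    {W₁ X₁ : Sp S} (hW₁ : IsAlgSpace W₁) (hX₁ : IsAlgSpace X₁) {j : W₁ ⟶ Y} {q : X₁ ⟶ X} {p : X₁ ⟶ W₁}
    (hj : RepWith @IsOpenImmersion j) (hjO : Set.range (Points.map j) = O) (sq : IsPullback q p f j) :
    Holds P f O ↔ P p := by
  obtain ⟨k, hk⟩ := exists_lift_of_range_subset (repWith_openSubι hO) j (by rw [range_openSubι, hjO])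
  obtain ⟨k', hk'⟩ := exists_lift_of_range_subset hj (openSubι Y O) (by rw [range_openSubι, hjO])
  have := mono_of_repWith j hj fun _ _ g hg => inferInstance
  have : IsIso k := ⟨k', by rw [← cancel_mono j, Category.assoc, hk', hk, Category.id_comp],
    by rw [← cancel_mono (openSubι Y O), Category.assoc, hk, hk', Category.id_comp]⟩
  obtain ⟨t, ht⟩ := exists_sub_square f hk sq
  exact prop_iff_of_iso hR hP (isAlgSpace_pullback hX hY (isAlgSpace_openSub hY hO) f _)
    (isAlgSpace_openSub hY hO) hX₁ hW₁ ht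

include hR hP in
theorem holds_sUnion (hX : IsAlgSpace X) (hY : IsAlgSpace Y) (f : X ⟶ Y) :
    Holds P f (⋃₀ {O | IsOpen O ∧ Holds P f O}) := by
  set W := ⋃₀ {O | IsOpen O ∧ Holds P f O}
  have hW : IsOpen W := isOpen_sUnion fun O h => h.1
  obtain ⟨U, p, hp, hps⟩ := hY.atlas
  choose O hO hu using fun u : {u : ↥U.left // Points.ofPt p u ∈ W} => Set.mem_sUnion.1 u.2
  choose k hk using fun u => exists_lift_of_range_subset (repWith_openSubι hW) (openSubι Y (O u))
    (by rw [range_openSubι, range_openSubι]; exact Set.subset_sUnion_of_mem (hO u))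
  have hWa := isAlgSpace_openSub hY hW
  have hOa := fun u => isAlgSpace_openSub hY (hO u).1
  choose t ht using fun u => exists_sub_square f (hk u) (IsPullback.of_hasPullback f (openSubι Y (O u)))
  refine (hP (fun u => openSub Y (O u)) k hWa hOa ⟨fun u => ?_, fun y => ?_⟩ (pullback.snd f (openSubι Y W))
    (isAlgSpace_pullback hX hY hWa f _) _ (fun u => pullback.snd f (openSubι Y (O u))) t
    (fun u => isAlgSpace_pullback hX hY (hOa u) f _) ht).2 fun u => (hO u).2
  · refine locP_cancel_etale hR (hOa u) hWa hY (k u) (openSubι Y W) (locP_of_openImm etaleLocal_etale (repWith_openSubι hW)) ?_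
    rw [hk u]; exact locP_of_openImm hR (repWith_openSubι (hO u).1)
  · obtain ⟨u, hu'⟩ := surjective_ofPt (surjective_of_repWith hps) (Points.map (openSubι Y W) y)
    have hy : Points.ofPt p u ∈ W := hu' ▸ (range_openSubι W).le ⟨y, rfl⟩
    obtain ⟨z, hz⟩ := (range_openSubι (O ⟨u, hy⟩)).ge (hu ⟨u, hy⟩)
    exact ⟨⟨u, hy⟩, z, injective_points_of_mono (openSubι Y W) (by rw [← Points.map_comp, hk, hz, hu'])⟩

include hR hRf hRp hP in
theorem range_subset_of_prop (hX : IsAlgSpace X) (hY : IsAlgSpace Y) (f : X ⟶ Y) {Y' X' : Sp S}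
    (hY' : IsAlgSpace Y') (hX' : IsAlgSpace X') {g : Y' ⟶ Y} {g' : X' ⟶ X} {f' : X' ⟶ Y'}
    (hg : LocP R g) (sq : IsPullback g' f' f g) (h : P f') :
    IsOpen (Set.range (Points.map g)) ∧ Holds P f (Set.range (Points.map g)) := by
  have hO : IsOpen (Set.range (Points.map g)) :=
    (isOpenMap_of_flat_lfp hY' hY g (locP_mono hRf hg) (locP_mono hRp hg)).isOpen_range
  refine ⟨hO, ?_⟩
  have hOa := isAlgSpace_openSub hY hO
  obtain ⟨k, hk⟩ := exists_lift_of_range_subset (repWith_openSubι hO) g (by rw [range_openSubι])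
  obtain ⟨t, ht⟩ := exists_sub_square f hk sq
  refine (hP (ι := PUnit.{u+1}) (fun _ => Y') (fun _ => k) hOa (fun _ => hY') ⟨fun _ => ?_, fun y => ?_⟩
    _ (isAlgSpace_pullback hX hY hOa f _) (fun _ => X') (fun _ => f') (fun _ => t) (fun _ => hX')
    fun _ => ht).2 fun _ => h
  · refine locP_cancel_etale hR hY' hOa hY k _ (locP_of_openImm etaleLocal_etale (repWith_openSubι hO)) ?_
    rw [hk]; exact hg
  · obtain ⟨z, hz⟩ := (range_openSubι _).le (Set.mem_range_self (f := Points.map (openSubι Y _)) y)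
    exact ⟨⟨⟩, z, injective_points_of_mono (openSubι Y _) (by rw [← Points.map_comp, hk, hz])⟩

include hR hRf hRp hP in
theorem exists_largest_open (hX : IsAlgSpace X) (hY : IsAlgSpace Y) (f : X ⟶ Y) :
    ∃ W : TopologicalSpace.Opens (Points Y), Holds P f W ∧
      (∀ V : TopologicalSpace.Opens (Points Y), Holds P f V → V ≤ W) ∧
      (∀ (Y' X' : Sp S) (g : Y' ⟶ Y) (g' : X' ⟶ X) (f' : X' ⟶ Y'), IsAlgSpace Y' → IsAlgSpace X' →
        LocP R g → IsPullback g' f' f g → P f' → Set.range (Points.map g) ⊆ (W : Set (Points Y))) ∧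
      (∀ (Y' X' : Sp S) (g : Y' ⟶ Y) (g' : X' ⟶ X) (f' : X' ⟶ Y'), IsAlgSpace Y' → IsAlgSpace X' →
        LocP R g → IsPullback g' f' f g → ∀ W' : TopologicalSpace.Opens (Points Y'), Holds P f' W' →
          (∀ V' : TopologicalSpace.Opens (Points Y'), Holds P f' V' → V' ≤ W') →
          (W' : Set (Points Y')) = Points.map g ⁻¹' (W : Set (Points Y))) := by
  set W : TopologicalSpace.Opens (Points Y) :=
    ⟨⋃₀ {O | IsOpen O ∧ Holds P f O}, isOpen_sUnion fun O h => h.1⟩
  have hWh : Holds P f W := holds_sUnion hR hP hX hY f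
  have key : ∀ (Y' X' : Sp S) (g : Y' ⟶ Y) (g' : X' ⟶ X) (f' : X' ⟶ Y'), IsAlgSpace Y' → IsAlgSpace X' →
      LocP R g → IsPullback g' f' f g → P f' → Set.range (Points.map g) ⊆ (W : Set (Points Y)) :=
    fun Y' X' g g' f' hY' hX' hg sq h =>
      Set.subset_sUnion_of_mem (range_subset_of_prop hR hRf hRp hP hX hY f hY' hX' hg sq h)
  refine ⟨W, hWh, fun V hV => fun y hy => ⟨V, ⟨V.2, hV⟩, hy⟩, key, fun Y' X' g g' f' hY' hX' hg sq W' hW' hmax => ?_⟩
  have hW'a := isAlgSpace_openSub hY' W'.2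
  have hWa := isAlgSpace_openSub hY W.2
  have := hR.bc
  have := hR.comp
  refine Set.Subset.antisymm ?_ ?_
  · intro y hy
    obtain ⟨z, rfl⟩ := (range_openSubι (W' : Set (Points Y'))).ge hy
    refine key _ _ _ _ (pullback.snd f' (openSubι Y' W')) hW'a (isAlgSpace_pullback hX' hY' hW'a f' _)
      (locP_comp hR hW'a hY' hY _ g (locP_of_openImm hR (repWith_openSubι W'.2)) hg)
      ((IsPullback.of_hasPullback f' (openSubι Y' W')).paste_horiz sq) hW' ⟨z, ?_⟩
    exact Points.map_comp _ _ _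
  · have hV : IsOpen (Points.map g ⁻¹' (W : Set (Points Y))) := W.2.preimage (Points.continuous_map g)
    suffices h : Holds P f' (Points.map g ⁻¹' (W : Set (Points Y))) from hmax ⟨_, hV⟩ h
    have hVa := isAlgSpace_openSub hY' hV
    obtain ⟨k, hk⟩ := exists_lift_of_range_subset (repWith_openSubι W.2)
      (openSubι Y' (Points.map g ⁻¹' (W : Set (Points Y))) ≫ g) (by
        rintro _ ⟨y, rfl⟩
        rw [Points.map_comp]
        exact (range_openSubι _).ge ((range_openSubι (Points.map g ⁻¹' (W : Set (Points Y)))).le ⟨y, rfl⟩))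
    obtain ⟨t, ht⟩ := exists_sub_square f hk
      ((IsPullback.of_hasPullback f' (openSubι Y' (Points.map g ⁻¹' (W : Set (Points Y))))).paste_horiz sq)
    have hXW := isAlgSpace_pullback hX hY hWa f (openSubι Y W)
    have hXV := isAlgSpace_pullback hX' hY' hVa f' (openSubι Y' (Points.map g ⁻¹' (W : Set (Points Y))))
    have hkR : LocP R k := by
      refine locP_cancel_etale hR hVa hWa hY k _ (locP_of_openImm etaleLocal_etale (repWith_openSubι W.2)) ?_
      rw [hk]; exact locP_comp hR hVa hY' hY _ g (locP_of_openImm hR (repWith_openSubι hV)) hg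
    let Yi : ULift.{u} Bool → Sp S := fun b =>
      bif b.down then openSub Y' (Points.map g ⁻¹' (W : Set (Points Y))) else openSub Y W
    let Xi : ULift.{u} Bool → Sp S := fun b =>
      bif b.down then pullback f' (openSubι Y' (Points.map g ⁻¹' (W : Set (Points Y)))) else pullback f (openSubι Y W)
    let gi : ∀ b, Yi b ⟶ openSub Y W := fun b => match b with | ⟨true⟩ => k | ⟨false⟩ => 𝟙 _
    let pi : ∀ b, Xi b ⟶ Yi b := fun b => match b with
      | ⟨true⟩ => pullback.snd _ _ | ⟨false⟩ => pullback.snd _ _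
    let qi : ∀ b, Xi b ⟶ pullback f (openSubι Y W) := fun b => match b with | ⟨true⟩ => t | ⟨false⟩ => 𝟙 _
    have := (hP Yi gi hWa (by rintro ⟨_ | _⟩ <;> assumption) ⟨by
      rintro ⟨_ | _⟩
      · exact locP_id hR
      · exact hkR, fun y => ⟨⟨false⟩, y, Points.map_id y⟩⟩ (pullback.snd f (openSubι Y W)) hXW Xi pi qi
      (by rintro ⟨_ | _⟩ <;> assumption)
      (by rintro ⟨_ | _⟩
          · exact isPullback_id _
          · exact ht)).1 hWh ⟨true⟩
    exact this

include hR hRf hRp hP in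
/-- the largest open, in terms of arbitrary realisations -/
theorem exists_largest_open' {X Y : AlgSp.Space S} (f : X ⟶ Y) :
    ∃ W : TopologicalSpace.Opens (AlgSp.Points Y.obj),
      (∀ (W₀ X₀ : AlgSp.Space S) (j₀ : W₀ ⟶ Y) (j₀' : X₀ ⟶ X) (f₀ : X₀ ⟶ W₀),
        RepWith @IsOpenImmersion j₀.hom → Set.range (Points.map j₀.hom) = (W : Set (Points Y.obj)) →
        IsPullback j₀'.hom f₀.hom f.hom j₀.hom → P f₀.hom) ∧
      (∀ V : TopologicalSpace.Opens (Points Y.obj),
        (∀ (W₁ X₁ : AlgSp.Space S) (j₁ : W₁ ⟶ Y) (j₁' : X₁ ⟶ X) (f₁ : X₁ ⟶ W₁),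
        RepWith @IsOpenImmersion j₁.hom → Set.range (Points.map j₁.hom) = (V : Set (Points Y.obj)) →
        IsPullback j₁'.hom f₁.hom f.hom j₁.hom → P f₁.hom) → V ≤ W) ∧
      (∀ (Y' X' : AlgSp.Space S) (g : Y' ⟶ Y) (g' : X' ⟶ X) (f' : X' ⟶ Y'),
        LocP R g.hom → IsPullback g'.hom f'.hom f.hom g.hom → P f'.hom →
        Set.range (Points.map g.hom) ⊆ (W : Set (Points Y.obj))) ∧
      (∀ (Y' X' : AlgSp.Space S) (g : Y' ⟶ Y) (g' : X' ⟶ X) (f' : X' ⟶ Y'),
        LocP R g.hom → IsPullback g'.hom f'.hom f.hom g.hom →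
        ∀ W' : TopologicalSpace.Opens (Points Y'.obj),
          (∀ (W₂ X₂ : AlgSp.Space S) (j₂ : W₂ ⟶ Y') (j₂' : X₂ ⟶ X') (f₂ : X₂ ⟶ W₂),
        RepWith @IsOpenImmersion j₂.hom → Set.range (Points.map j₂.hom) = (W' : Set (Points Y'.obj)) →
        IsPullback j₂'.hom f₂.hom f'.hom j₂.hom → P f₂.hom) →
          (∀ V' : TopologicalSpace.Opens (Points Y'.obj),
            (∀ (W₃ X₃ : AlgSp.Space S) (j₃ : W₃ ⟶ Y') (j₃' : X₃ ⟶ X') (f₃ : X₃ ⟶ W₃),
        RepWith @IsOpenImmersion j₃.hom → Set.range (Points.map j₃.hom) = (V' : Set (Points Y'.obj)) →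
        IsPullback j₃'.hom f₃.hom f'.hom j₃.hom → P f₃.hom) → V' ≤ W') →
          (W' : Set (Points Y'.obj)) = Points.map g.hom ⁻¹' (W : Set (Points Y.obj))) := by
  have real : ∀ {X Y : AlgSp.Space S} (f : X ⟶ Y) (V : TopologicalSpace.Opens (Points Y.obj)),
      Holds P f.hom V ↔ ∀ (W₁ X₁ : AlgSp.Space S) (j₁ : W₁ ⟶ Y) (j₁' : X₁ ⟶ X) (f₁ : X₁ ⟶ W₁),
        RepWith @IsOpenImmersion j₁.hom → Set.range (Points.map j₁.hom) = (V : Set (Points Y.obj)) →
        IsPullback j₁'.hom f₁.hom f.hom j₁.hom → P f₁.hom := fun {X Y} f V => by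
    refine ⟨fun h W₁ X₁ j q p hj hjV sq => (holds_iff hR hP X.property Y.property f.hom V.2 W₁.property
      X₁.property hj hjV sq).1 h, fun h => ?_⟩
    exact h ⟨openSub Y.obj V, isAlgSpace_openSub Y.property V.2⟩
      ⟨pullback f.hom (openSubι Y.obj V), isAlgSpace_pullback X.property Y.property (isAlgSpace_openSub Y.property V.2) _ _⟩
      (ObjectProperty.homMk (openSubι Y.obj V)) (ObjectProperty.homMk (pullback.fst _ _))
      (ObjectProperty.homMk (pullback.snd _ _)) (repWith_openSubι V.2) (range_openSubι _)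
      (IsPullback.of_hasPullback _ _)
  obtain ⟨W, h1, h2, h3, h4⟩ := exists_largest_open hR hRf hRp hP X.property Y.property f.hom
  exact ⟨W, (real f W).1 h1, fun V hV => h2 V ((real f V).2 hV),
    fun Y' X' g g' f' hg sq h => h3 _ _ g.hom g'.hom f'.hom Y'.property X'.property hg sq h,
    fun Y' X' g g' f' hg sq W' hW' hmax => h4 _ _ g.hom g'.hom f'.hom Y'.property X'.property hg sq W'
      ((real f' W').2 hW') fun V' hV' => hmax V' ((real f' V').1 hV')⟩

end AlgSpTopo
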