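import Mathlib
import Groth.Prelude.Def_AlgSpRep
import Groth.Agent.AlgSpTopo.SpProps

/-! Morphisms of presheaves representable by algebraic spaces. -/

set_option autoImplicit false
set_option backward.isDefEq.respectTransparency false
universe u
open CategoryTheory CategoryTheory.Limits AlgebraicGeometry Opposite

namespace AlgSpTopo
open AlgSp

variable {S : Scheme.{u}} {F G H : Sp S}

theorem representable_diag_of_equalizers
    (h : ∀ (T : Over S) (a b : (yon S).obj T ⟶ F), ∃ (E : Over S) (e : E ⟶ T), IsEq e a b) :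
    Representable (Limits.diag F) := by
  intro T k
  obtain ⟨E, e, _, he, hl⟩ := h T (k ≫ prod.fst) (k ≫ prod.snd)
  have : Mono ((yon S).map e) := inferInstance
  have w : ((yon S).map e ≫ k ≫ prod.fst) ≫ Limits.diag F = (yon S).map e ≫ k := by
    apply prod.hom_ext
    · simp
    · simpa using he
  refine ⟨_, e, (yon S).map e ≫ k ≫ prod.fst, IsPullback.of_isLimit' ⟨w⟩ ?_⟩
  have key : ∀ s : PullbackCone (Limits.diag F) k,
      ∃ l, l ≫ (yon S).map e = s.snd ∧ l ≫ (yon S).map e ≫ k ≫ prod.fst = s.fst := by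
    intro s
    have hf : s.fst = s.snd ≫ k ≫ prod.fst := by
      have := congrArg (· ≫ prod.fst) s.condition
      simpa using this
    have hs : s.fst = s.snd ≫ k ≫ prod.snd := by
      have := congrArg (· ≫ prod.snd) s.condition
      simpa using this
    obtain ⟨l, hl'⟩ := hl s.snd (hf.symm.trans hs)
    exact ⟨l, hl', by rw [reassoc_of% hl', hf]⟩
  choose l hl hl' using key
  exact PullbackCone.IsLimit.mk _ l hl' hl fun s m _ hm =>
    (cancel_mono ((yon S).map e)).1 (hm.trans (hl s).symm)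

/-- a sheaf with a map representable by algebraic spaces to an algebraic space is an algebraic space -/
theorem isAlgSpace_of_repBySp (f : F ⟶ G) (hf : RepBySp f.hom) (hG : IsAlgSpace G) : IsAlgSpace F where
  diag := by
    refine representable_diag_of_equalizers fun T a b => ?_
    obtain ⟨E₁, e₁, he₁, hw₁, hl₁⟩ := exists_isEq hG (a ≫ f) (b ≫ f)
    have sq := IsPullback.of_hasPullback f ((yon S).map e₁ ≫ a ≫ f)
    have hP := (repBySp_hom_iff f).1 hf _ _ _ sq
    obtain ⟨E₂, e₂, he₂, hw₂, hl₂⟩ := exists_isEq hP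
      (sq.lift ((yon S).map e₁ ≫ a) (𝟙 _) (by simp))
      (sq.lift ((yon S).map e₁ ≫ b) (𝟙 _) (by rw [Category.assoc, ← hw₁]; simp))
    refine ⟨E₂, e₂ ≫ e₁, ?_, ?_, fun {W} k hk => ?_⟩
    · exact inferInstance
    · have := congrArg (· ≫ pullback.fst f ((yon S).map e₁ ≫ a ≫ f)) hw₂
      simp only [Category.assoc, IsPullback.lift_fst] at this
      rw [Functor.map_comp, Category.assoc, Category.assoc]
      exact this
    · obtain ⟨l₁, hl₁'⟩ := hl₁ k (by rw [← Category.assoc, hk, Category.assoc])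
      obtain ⟨l₂, hl₂'⟩ := hl₂ l₁ (sq.hom_ext
        (by simp only [Category.assoc, IsPullback.lift_fst]; rw [← Category.assoc, ← Category.assoc, hl₁', hk])
        (by simp only [Category.assoc, IsPullback.lift_snd]))
      exact ⟨l₂, by rw [Functor.map_comp, ← Category.assoc, hl₂', hl₁']⟩
  atlas := by
    obtain ⟨U, p, hp, hps⟩ := hG.atlas
    have sq := IsPullback.of_hasPullback f p
    have hP := (repBySp_hom_iff f).1 hf _ _ _ sq
    obtain ⟨V, v, hv, hvs⟩ := hP.atlas
    exact ⟨V, v ≫ pullback.fst f p,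
      MorphismProperty.comp_mem _ _ _ hv (MorphismProperty.of_isPullback (P := RepWith @Etale) sq.flip hp),
      MorphismProperty.comp_mem _ _ _ hvs (MorphismProperty.of_isPullback (P := RepWith @Surjective) sq.flip hps)⟩

theorem repBySp_of_isPullback {A B A' B' : PSp S} {a : A ⟶ B} {a' : A' ⟶ B'} {p : A' ⟶ A} {q : B' ⟶ B}
    (sq : IsPullback p a' a q) (ha : RepBySp a) : RepBySp a' :=
  fun _ ξ _ fst snd sq' => ha (ξ ≫ q) (fst ≫ p) snd (sq'.paste_horiz sq)

theorem repBySp_of_rel {A B : PSp S} {a : A ⟶ B} (ha : (pyon S).relativelyRepresentable a) : RepBySp a := by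
  intro U ξ F' fst snd sq
  obtain ⟨V, snd', fst', sq'⟩ := ha ξ
  exact ((isAlgSpaceP_obj_iff ((yon S).obj V)).2 (IsAlgSpace.yon_obj V)).of_iso (sq'.isoIsPullback _ _ sq)

/-- sheafness descends along maps with sheaf fibres -/
theorem isSheaf_of_repBySp {A B : PSp S} {a : A ⟶ B} (ha : RepBySp a) (hB : Presheaf.IsSheaf (J S) B) :
    Presheaf.IsSheaf (J S) A := by
  rw [isSheaf_iff_isSheaf_of_type] at hB ⊢
  intro U R hR x hx
  -- the image family glues
  let x' : Presieve.FamilyOfElements B R.arrows := fun V g hg => a.app _ (x g hg)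
  have hx' : x'.Compatible := fun V₁ V₂ W g₁ g₂ f₁ f₂ h₁ h₂ e => by
    simp only [x', ← NatTrans.naturality_apply]
    exact congrArg (a.app _) (hx g₁ g₂ h₁ h₂ e)
  obtain ⟨y, hy, hyu⟩ := hB R hR x' hx'
  let ξ : (pyon S).obj U ⟶ B := uliftYonedaEquiv.symm y
  obtain ⟨hP, -⟩ := ha ξ (pullback.fst a ξ) (pullback.snd a ξ) (IsPullback.of_hasPullback a ξ)
  rw [isSheaf_iff_isSheaf_of_type] at hP
  have sq := fun (V : Over S) => (IsPullback.of_hasPullback a ξ).map ((evaluation (Over S)ᵒᵖ (Type (u+1))).obj (op V))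
  have hξ : ∀ {V : Over S} (g : V ⟶ U), ξ.app (op V) (ULift.up g) = B.map g.op y := fun g => rfl
  have ex : ∀ {V : Over S} (g : V ⟶ U) (s : A.obj (op V)), a.app _ s = B.map g.op y →
      ∃ t : (pullback a ξ).obj (op V), (pullback.fst a ξ).app _ t = s ∧ (pullback.snd a ξ).app _ t = ULift.up g :=
    fun g s hs => Types.exists_of_isPullback (sq _) s (ULift.up g) hs
  have ext : ∀ {V : Over S} (t t' : (pullback a ξ).obj (op V)), (pullback.fst a ξ).app _ t = (pullback.fst a ξ).app _ t' →
      (pullback.snd a ξ).app _ t = (pullback.snd a ξ).app _ t' → t = t' :=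
    fun t t' h1 h2 => Types.ext_of_isPullback (sq _) h1 h2
  choose z hz1 hz2 using fun (V : Over S) (g : V ⟶ U) (hg : R.arrows g) => ex g (x g hg) ((hy g hg).symm)
  have hz : Presieve.FamilyOfElements.Compatible (fun V g hg => z V g hg : Presieve.FamilyOfElements (pullback a ξ) R.arrows) :=
    fun V₁ V₂ W g₁ g₂ f₁ f₂ h₁ h₂ e => ext _ _
      (by simp only [NatTrans.naturality_apply, hz1]; exact hx g₁ g₂ h₁ h₂ e)
      (by simp only [NatTrans.naturality_apply, hz2]; exact congrArg ULift.up e)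
  obtain ⟨t, ht, htu⟩ := hP R hR _ hz
  refine ⟨(pullback.fst a ξ).app _ t, fun V g hg => ?_, fun s hs => ?_⟩
  · rw [← NatTrans.naturality_apply, ht g hg, hz1]
  · have hs' : a.app _ s = B.map (𝟙 U).op y := by
      rw [op_id, CategoryTheory.Functor.map_id]
      refine hyu _ fun V g hg => ?_
      rw [← NatTrans.naturality_apply, hs g hg]
    obtain ⟨t', ht1, ht2⟩ := ex (𝟙 U) s hs'
    rw [← ht1, htu t' fun V g hg => ext _ _ ?_ ?_]
    · simp only [NatTrans.naturality_apply, ht1, hz1]; exact hs g hg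
    · simp only [NatTrans.naturality_apply, ht2, hz2]; exact congrArg ULift.up (Category.comp_id g)

theorem isAlgSpaceP_of_repBySp {A B : PSp S} {a : A ⟶ B} (ha : RepBySp a) (hB : IsAlgSpaceP B) : IsAlgSpaceP A := by
  obtain ⟨hB, hB'⟩ := hB
  have hA := isSheaf_of_repBySp ha hB
  exact ⟨hA, isAlgSpace_of_repBySp (F := ⟨A, hA⟩) (G := ⟨B, hB⟩) (ObjectProperty.homMk a) ha hB'⟩

theorem repBySp_comp {A B C : PSp S} {a : A ⟶ B} {b : B ⟶ C} (ha : RepBySp a) (hb : RepBySp b) :
    RepBySp (a ≫ b) := by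
  intro U ξ F' fst snd sq
  have sq₂ := IsPullback.of_hasPullback b ξ
  obtain ⟨l, hl1, hl2⟩ := sq₂.exists_lift (fst ≫ a) snd (by rw [Category.assoc]; exact sq.w)
  have top : IsPullback fst l a (pullback.fst b ξ) := IsPullback.of_bot (by rw [hl2]; exact sq) hl1.symm sq₂
  exact isAlgSpaceP_of_repBySp (repBySp_of_isPullback top ha) (hb ξ _ _ sq₂)

theorem repBySp_prod {A₁ B₁ A₂ B₂ : PSp S} {a₁ : A₁ ⟶ B₁} {a₂ : A₂ ⟶ B₂}
    (h₁ : RepBySp a₁) (h₂ : RepBySp a₂) : RepBySp (prod.map a₁ a₂) := by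
  have e : prod.map a₁ a₂ = prod.map a₁ (𝟙 A₂) ≫ prod.map (𝟙 B₁) a₂ := by simp
  rw [e]
  refine repBySp_comp (repBySp_of_isPullback (p := prod.fst) (q := prod.fst) ?_ h₁)
    (repBySp_of_isPullback (p := prod.snd) (q := prod.snd) ?_ h₂)
  · exact (IsPullback.of_isLimit' ⟨(prod.map_fst _ _).symm⟩ (PullbackCone.IsLimit.mk _
      (fun s => prod.lift s.fst (s.snd ≫ prod.snd)) (fun s => prod.lift_fst _ _)
      (fun s => prod.hom_ext (by simpa using s.condition) (by simp))
      (fun s m h₁ h₂ => prod.hom_ext (by simpa using h₁) (by simp [← h₂]))))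
  · exact (IsPullback.of_isLimit' ⟨(prod.map_snd _ _).symm⟩ (PullbackCone.IsLimit.mk _
      (fun s => prod.lift (s.snd ≫ prod.fst) s.fst) (fun s => prod.lift_snd _ _)
      (fun s => prod.hom_ext (by simp) (by simpa using s.condition))
      (fun s m h₁ h₂ => prod.hom_ext (by simp [← h₂]) (by simpa using h₁))))

/-- the diagonal of a map representable by algebraic spaces is representable by schemes -/
theorem rel_diagonal_of_repBySp {A B : PSp S} {a : A ⟶ B} (ha : RepBySp a) :
    (pyon S).relativelyRepresentable (pullback.diagonal a) := by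
  intro U ξ
  obtain ⟨hP, hP'⟩ := ha (ξ ≫ pullback.fst a a ≫ a) (pullback.fst a (ξ ≫ pullback.fst a a ≫ a)) _ (IsPullback.of_hasPullback _ _)
  let P : Sp S := ⟨pullback a (ξ ≫ pullback.fst a a ≫ a), hP⟩
  let s₁ : (yon S).obj U ⟶ P := ObjectProperty.homMk (pullback.lift (ξ ≫ pullback.fst a a) (𝟙 _) (by simp))
  let s₂ : (yon S).obj U ⟶ P := ObjectProperty.homMk (pullback.lift (ξ ≫ pullback.snd a a) (𝟙 _)
    (by simp [pullback.condition]))
  obtain ⟨E, e, he, hw, hl⟩ := exists_isEq hP' s₁ s₂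
  have hw' : (pyon S).map e ≫ ξ ≫ pullback.fst a a = (pyon S).map e ≫ ξ ≫ pullback.snd a a := by
    have := congrArg (fun m => ((sheafToPresheaf _ _).map m) ≫ pullback.fst a (ξ ≫ pullback.fst a a ≫ a)) hw
    simp only [s₁, s₂] at this
    simp [sheafToPresheaf] at this
    exact this
  have hm : Mono ((pyon S).map e) := inferInstance
  refine ⟨E, e, (pyon S).map e ≫ ξ ≫ pullback.fst a a, IsPullback.of_isLimit' ⟨?_⟩ ?_⟩
  · apply pullback.hom_ext
    · simp
    · simpa using hw'
  have key : ∀ s : PullbackCone (pullback.diagonal a) ξ, ∃ l, l ≫ (pyon S).map e = s.snd ∧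
      l ≫ (pyon S).map e ≫ ξ ≫ pullback.fst a a = s.fst := by
    intro s
    have hf : s.fst = s.snd ≫ ξ ≫ pullback.fst a a := by
      have := congrArg (· ≫ pullback.fst a a) s.condition
      simpa using this
    have hs : s.fst = s.snd ≫ ξ ≫ pullback.snd a a := by
      have := congrArg (· ≫ pullback.snd a a) s.condition
      simpa using this
    suffices ∀ (T : (Over S)ᵒᵖ) (z : s.pt.obj T), ∃ l : ((pyon S).obj E).obj T, ((pyon S).map e).app T l = s.snd.app T z by
      choose l hl' using this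
      refine ⟨⟨fun T => ↾(l T), fun T T' g => ?_⟩, ?_, ?_⟩
      · refine ConcreteCategory.hom_ext _ _ fun z => ?_
        apply (mono_iff_injective _).1 (((NatTrans.mono_iff_mono_app _).1 hm) T')
        exact (hl' T' _).trans (((NatTrans.naturality_apply s.snd g z).trans
          (congrArg _ (hl' T z).symm)).trans (NatTrans.naturality_apply ((pyon S).map e) g _).symm)
      · exact NatTrans.ext (funext fun T => ConcreteCategory.hom_ext _ _ fun z => hl' T z)
      · rw [hf]
        refine NatTrans.ext (funext fun T => ConcreteCategory.hom_ext _ _ fun z => ?_)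
        exact congrArg (fun w => (ξ ≫ pullback.fst a a).app T w) (hl' T z)
    intro T z
    let k : (yon S).obj T.unop ⟶ (yon S).obj U := ObjectProperty.homMk (uliftYonedaEquiv.symm z ≫ s.snd)
    have hk : k ≫ s₁ = k ≫ s₂ := by
      apply ObjectProperty.hom_ext
      change (uliftYonedaEquiv.symm z ≫ s.snd) ≫ pullback.lift _ _ _ = (uliftYonedaEquiv.symm z ≫ s.snd) ≫ pullback.lift _ _ _
      apply pullback.hom_ext
      · simp [← hf, ← hs]
      · simp
    obtain ⟨l, hl'⟩ := hl k hk
    refine ⟨uliftYonedaEquiv (F := (pyon S).obj E) l.hom, ?_⟩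
    have h2 := congrArg (fun m : (yon S).obj T.unop ⟶ (yon S).obj U => uliftYonedaEquiv (F := (pyon S).obj U) m.hom) hl'
    exact h2.trans ((uliftYonedaEquiv_comp _ s.snd).trans (by rw [Equiv.apply_symm_apply]))
  choose l hl hl' using key
  exact PullbackCone.IsLimit.mk _ l hl' hl fun s m _ hm =>
    (cancel_mono ((pyon S).map e)).1 (hm.trans (hl s).symm)

theorem repBySp_of_comp {A B C : PSp S} {a : A ⟶ B} {b : B ⟶ C} (hd : RepBySp (pullback.diagonal b))
    (hab : RepBySp (a ≫ b)) : RepBySp a := by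
  let g : A ⟶ pullback (a ≫ b) b := pullback.lift (𝟙 A) a (by simp)
  have h1 : RepBySp g := by
    refine repBySp_of_isPullback (p := a) (q := pullback.map _ _ _ _ a (𝟙 B) (𝟙 C) (by simp) (by simp)) ?_ hd
    refine IsPullback.of_isLimit' ⟨by apply pullback.hom_ext <;> simp [g] <;> exact (Category.id_comp a).symm⟩ (PullbackCone.IsLimit.mk _
      (fun s => s.snd ≫ pullback.fst (a ≫ b) b) (fun s => ?_) (fun s => ?_) (fun s m _ h => ?_))
    · have e1 := congrArg (· ≫ pullback.fst b b) s.condition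
      simp at e1
      simp [e1]
    · have e1 := congrArg (· ≫ pullback.fst b b) s.condition
      have e2 := congrArg (· ≫ pullback.snd b b) s.condition
      simp at e1 e2
      apply pullback.hom_ext
      · simp [g]
      · simp [g, ← e1, e2]
    · simp [← h, g]
  have h2 : RepBySp (pullback.snd (a ≫ b) b) := repBySp_of_isPullback (IsPullback.of_hasPullback _ _) hab
  rw [show a = g ≫ pullback.snd (a ≫ b) b from (pullback.lift_snd _ _ _).symm]
  exact repBySp_comp h1 h2

end AlgSpTopo
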