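import Mathlib
import Groth.Agent.AlgSpTopo.OpenSub
import Groth.Agent.AlgSpTopo.SpProps

/-! fppf locality on the target of `RepWith P`. -/

set_option autoImplicit false
set_option backward.isDefEq.respectTransparency false
universe u
open CategoryTheory CategoryTheory.Limits AlgebraicGeometry Opposite

namespace AlgSpTopo
open AlgSp

variable {S : Scheme.{u}} {F G H Q : Sp S}

theorem repWith_of_isLocallySurjective {a : F ⟶ G} (ha : Representable a) {b : H ⟶ G} [Sheaf.IsLocallySurjective b]
    {b' : Q ⟶ F} {a' : Q ⟶ H} (sq : IsPullback b' a' a b) {P : MorphismProperty Scheme.{u}} [P.IsStableUnderBaseChange]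
    [P.IsLocalAtTarget Scheme.fppfPrecoverage] (h : RepWith P a') : RepWith P a := by
  refine ⟨ha, ?_⟩
  intro T W g fst snd sqW
  change P snd.left
  let s := (GrothendieckTopology.uliftYonedaEquiv.{u+1} (J S)) g
  have hR : Presheaf.imageSieve b.hom s ∈ J S T := Presheaf.imageSieve_mem (J S) b.hom s
  rw [J_eq, GrothendieckTopology.mem_over_iff] at hR
  have : ((@Flat ⊓ @LocallyOfFinitePresentation : MorphismProperty Scheme.{u})).ContainsIdentities :=
    ⟨fun _ => ⟨inferInstance, inferInstance⟩⟩
  have : Scheme.fppfPrecoverage.{u}.HasIsos := by unfold Scheme.fppfPrecoverage; infer_instance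
  obtain ⟨R', hR', hle⟩ := Precoverage.mem_toGrothendieck_iff_of_isStableUnderComposition.1 hR
  refine MorphismProperty.IsLocalAtTarget.of_forall_pullbackSnd hR' fun {V₀ c₀} _ hc => ?_
  let V : Over S := Over.mk (c₀ ≫ T.hom)
  let c : V ⟶ T := Over.homMk c₀ rfl
  obtain ⟨z, hz⟩ := (Sieve.overEquiv_iff _ _).1 (hle _ _ hc)
  let l : (yon S).obj V ⟶ H := (GrothendieckTopology.uliftYonedaEquiv.{u+1} (J S)).symm z
  have hl : l ≫ b = (yon S).map c ≫ g := by
    apply (GrothendieckTopology.uliftYonedaEquiv.{u+1} (J S)).injective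
    rw [GrothendieckTopology.uliftYonedaEquiv_comp, ← GrothendieckTopology.uliftYonedaEquiv_naturality,
      Equiv.apply_symm_apply]
    exact hz
  let W' : Over S := Over.mk (pullback.snd snd.left c₀ ≫ V.hom)
  let p₁ : W' ⟶ W := Over.homMk (pullback.fst snd.left c₀) (by
    change pullback.fst snd.left c₀ ≫ W.hom = pullback.snd snd.left c₀ ≫ c₀ ≫ T.hom
    rw [← Over.w snd, pullback.condition_assoc])
  let p₂ : W' ⟶ V := Over.homMk (pullback.snd snd.left c₀) rfl
  have hsq : IsPullback p₁ p₂ snd c := IsPullback.of_map_of_faithful (Over.forget S) (IsPullback.of_hasPullback snd.left c₀)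
  have big := (hsq.map (yon S)).paste_horiz sqW
  obtain ⟨m, hm1, hm2⟩ := sq.exists_lift ((yon S).map p₁ ≫ fst) ((yon S).map p₂ ≫ l) (by
    rw [big.w, Category.assoc, hl])
  rw [← hl, ← hm1] at big
  exact h.property _ _ _ (IsPullback.of_right big hm2 sq)

end AlgSpTopo
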