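import Mathlib
import Groth.Prelude.Def_AlgSpInf
import Groth.Agent.AlgSpTopo.SpProps
import Groth.Agent.AlgSpTopo.OpenImm
import Groth.Agent.AlgSpTopo.RepPoints
import Groth.Agent.AlgSpTopo.ProperMor
import Groth.Agent.AlgSpTopo.RepPerm

/-! Thickenings of algebraic spaces: topological invariance. -/

set_option autoImplicit false
set_option backward.isDefEq.respectTransparency false
universe u
open CategoryTheory CategoryTheory.Limits AlgebraicGeometry Opposite Topology

namespace AlgSpTopo
open AlgSp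

variable {S : Scheme.{u}} {X X' Y Y' : Sp S}

instance thick_isStableUnderComposition : (thick.{u}).IsStableUnderComposition where
  comp_mem _ _ hf hg := ⟨MorphismProperty.comp_mem _ _ _ hf.1 hg.1, MorphismProperty.comp_mem _ _ _ hf.2 hg.2⟩

theorem isThickMor_bc {A A' : Sp S} {p : A ⟶ A'} {q : X ⟶ X'} {a : A ⟶ X} {b : A' ⟶ X'}
    (sq : IsPullback a p q b) (h : IsThickMor q) : IsThickMor p :=
  MorphismProperty.of_isPullback (P := RepWith thick) sq h

theorem mono_of_thick {i : X ⟶ X'} (hi : IsThickMor i) : Mono i :=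
  mono_of_repWith i hi fun _ _ g hg => by have := hg.1; infer_instance

theorem isHomeomorph_map_thick (hX' : IsAlgSpace X') {i : X ⟶ X'} (hi : IsThickMor i) :
    IsHomeomorph (Points.map i) := by
  have h1 : RepWith @IsImmersion i := MorphismProperty.relative.of_exists fun T g => by
    obtain ⟨W, fst, snd, sq, hs⟩ := exists_square hi g
    have : IsClosedImmersion snd.left := hs.1
    exact ⟨W, fst, snd, sq, (inferInstance : IsImmersion snd.left)⟩
  have h2 : RepWith @Surjective i := MorphismProperty.relative.of_exists fun T g => by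
    obtain ⟨W, fst, snd, sq, hs⟩ := exists_square hi g
    exact ⟨W, fst, snd, sq, hs.2⟩
  rw [isHomeomorph_iff_isEmbedding_surjective]
  exact ⟨(isEmbedding_of_immersion hX' i h1).1, surjective_of_repWith h2⟩

theorem isHomeomorph_of_thick_bc {Z A P' : Sp S} (hX' : IsAlgSpace P') {i : X ⟶ X'} (hi : IsThickMor i)
    {f : X ⟶ Z} {ν : A ⟶ P'} {a : A ⟶ X} {b : P' ⟶ X'} (sq : IsPullback a ν i b) : IsHomeomorph (Points.map ν) :=
  isHomeomorph_map_thick hX' (isThickMor_bc sq hi)

/-- base changes of `f` and `f'` along compatible test maps differ by a homeomorphism -/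
theorem exists_test_square (hX' : IsAlgSpace X') (hY' : IsAlgSpace Y') {i : X ⟶ X'} {j : Y ⟶ Y'} {f : X ⟶ Y}
    {f' : X' ⟶ Y'} (hi : IsThickMor i) (w : i ≫ f' = f ≫ j) [Mono j] {Z : Sp S} (hZ : IsAlgSpace Z) (k : Z ⟶ Y)
    {A P' : Sp S} {fst : A ⟶ X} {snd : A ⟶ Z} (sq : IsPullback fst snd f k)
    {fst' : P' ⟶ X'} {snd' : P' ⟶ Z} (sq' : IsPullback fst' snd' f' (k ≫ j)) :
    ∃ ν : A ⟶ P', IsHomeomorph (Points.map ν) ∧ ν ≫ snd' = snd := by
  have sqA : IsPullback fst snd (i ≫ f') (k ≫ j) := by
    rw [w]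
    refine IsPullback.of_isLimit' ⟨by rw [← Category.assoc, sq.w, Category.assoc]⟩ (PullbackCone.IsLimit.mk _
      (fun c => sq.lift c.fst c.snd ((cancel_mono j).1 (by simpa using c.condition)))
      (fun c => sq.lift_fst _ _ _) (fun c => sq.lift_snd _ _ _)
      (fun c m h1 h2 => sq.hom_ext (h1.trans (sq.lift_fst _ _ _).symm) (h2.trans (sq.lift_snd _ _ _).symm)))
  obtain ⟨ν, hν1, hν2⟩ := sq'.exists_lift (fst ≫ i) snd (by rw [Category.assoc]; exact sqA.w)
  have h0 := sqA.flip
  rw [← hν2] at h0
  have top : IsPullback ν fst fst' i := IsPullback.of_right h0 hν1 sq'.flip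
  exact ⟨ν, isHomeomorph_map_thick (isAlgSpace_of_isPullback hX' hY' hZ sq') (isThickMor_bc top.flip hi), hν2⟩

/-- invariance of universal topological properties -/
theorem univSp_thick_iff (Q : ∀ {A B : Type (u + 1)} [TopologicalSpace A] [TopologicalSpace B], (A → B) → Prop)
    (hpre : ∀ {A B C : Type (u + 1)} [TopologicalSpace A] [TopologicalSpace B] [TopologicalSpace C] (e : A → B)
      (g : B → C), IsHomeomorph e → (Q (g ∘ e) ↔ Q g))
    (hpost : ∀ {A B C : Type (u + 1)} [TopologicalSpace A] [TopologicalSpace B] [TopologicalSpace C] (e : A → B)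
      (g : B → C), IsHomeomorph g → (Q (g ∘ e) ↔ Q e))
    (hX' : IsAlgSpace X') (hY : IsAlgSpace Y) (hY' : IsAlgSpace Y') {i : X ⟶ X'} {j : Y ⟶ Y'} {f : X ⟶ Y}
    {f' : X' ⟶ Y'} (hi : IsThickMor i) (hj : IsThickMor j) (w : i ≫ f' = f ≫ j) :
    UnivSp (fun _ _ f => Q (Points.map f)) f ↔ UnivSp (fun _ _ f => Q (Points.map f)) f' := by
  have := mono_of_thick hj
  constructor
  · intro h Z P' hZ k fst' snd' sq'
    have sqj := IsPullback.of_hasPullback k j
    have hZ₀ : IsAlgSpace (pullback k j) := isAlgSpace_pullback hZ hY' hY k j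
    have H := IsPullback.of_hasPullback f (pullback.snd k j)
    have sq'' := IsPullback.of_hasPullback snd' (pullback.fst k j)
    have big := sq''.paste_horiz sq'
    rw [pullback.condition] at big
    obtain ⟨ν, hν, hν2⟩ := exists_test_square hX' hY' hi w hZ₀ (pullback.snd k j) H big
    have hz : IsHomeomorph (Points.map (pullback.fst k j)) := isHomeomorph_map_thick hZ (isThickMor_bc sqj.flip hj)
    have hp : IsHomeomorph (Points.map (pullback.fst snd' (pullback.fst k j))) :=
      isHomeomorph_map_thick (isAlgSpace_of_isPullback hX' hY' hZ sq')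
        (isThickMor_bc sq''.flip (isThickMor_bc sqj.flip hj))
    have h1 := (hpost (Points.map (pullback.snd f (pullback.snd k j))) _ hz).2 (h hZ₀ _ _ _ H)
    have e : Points.map (pullback.fst k j) ∘ Points.map (pullback.snd f (pullback.snd k j)) =
        (Points.map snd' ∘ Points.map (pullback.fst snd' (pullback.fst k j))) ∘ Points.map ν := by
      funext x
      simp only [Function.comp_apply, ← Points.map_comp]
      rw [Category.assoc, sq''.w, ← Category.assoc, hν2]
    rw [e, hpre _ _ hν, hpre _ _ hp] at h1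
    exact h1
  · intro h Z A hZ k fst snd sq
    obtain ⟨ν, hν, hν2⟩ := exists_test_square hX' hY' hi w hZ k sq (IsPullback.of_hasPullback f' (k ≫ j))
    have h1 := (hpre (Points.map ν) _ hν).2 (h hZ _ _ _ (IsPullback.of_hasPullback f' (k ≫ j)))
    have e : Points.map (pullback.snd f' (k ≫ j)) ∘ Points.map ν = Points.map snd := by
      funext x; rw [Function.comp_apply, ← Points.map_comp, hν2]
    rw [e] at h1
    exact h1

theorem univClosed_thick_iff (hX' : IsAlgSpace X') (hY : IsAlgSpace Y) (hY' : IsAlgSpace Y') {i : X ⟶ X'}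
    {j : Y ⟶ Y'} {f : X ⟶ Y} {f' : X' ⟶ Y'} (hi : IsThickMor i) (hj : IsThickMor j) (w : i ≫ f' = f ≫ j) :
    IsUnivClosedMor f ↔ IsUnivClosedMor f' :=
  univSp_thick_iff (fun {_ _} _ _ g => IsClosedMap g)
    (fun e g he => ⟨fun h U hU => by
      have := h _ (hU.preimage he.continuous)
      rwa [Set.image_comp, Set.image_preimage_eq _ he.surjective] at this,
      fun h => h.comp he.isClosedMap⟩)
    (fun e g hg => ⟨fun h U hU => by
      have := (h _ hU).preimage hg.continuous
      rwa [Set.image_comp, Set.preimage_image_eq _ hg.injective] at this,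
      fun h => hg.isClosedMap.comp h⟩) hX' hY hY' hi hj w

theorem univOpen_thick_iff (hX' : IsAlgSpace X') (hY : IsAlgSpace Y) (hY' : IsAlgSpace Y') {i : X ⟶ X'}
    {j : Y ⟶ Y'} {f : X ⟶ Y} {f' : X' ⟶ Y'} (hi : IsThickMor i) (hj : IsThickMor j) (w : i ≫ f' = f ≫ j) :
    IsUnivOpenMor f ↔ IsUnivOpenMor f' :=
  univSp_thick_iff (fun {_ _} _ _ g => IsOpenMap g)
    (fun e g he => ⟨fun h U hU => by
      have := h _ (hU.preimage he.continuous)
      rwa [Set.image_comp, Set.image_preimage_eq _ he.surjective] at this,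
      fun h => h.comp he.isOpenMap⟩)
    (fun e g hg => ⟨fun h U hU => by
      have := (h _ hU).preimage hg.continuous
      rwa [Set.image_comp, Set.preimage_image_eq _ hg.injective] at this,
      fun h => hg.isOpenMap.comp h⟩) hX' hY hY' hi hj w

theorem univInjective_thick_iff (hX' : IsAlgSpace X') (hY : IsAlgSpace Y) (hY' : IsAlgSpace Y') {i : X ⟶ X'}
    {j : Y ⟶ Y'} {f : X ⟶ Y} {f' : X' ⟶ Y'} (hi : IsThickMor i) (hj : IsThickMor j) (w : i ≫ f' = f ≫ j) :
    IsUnivInjectiveMor f ↔ IsUnivInjectiveMor f' :=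
  univSp_thick_iff (fun {_ _} _ _ g => Function.Injective g)
    (fun e g he => ⟨fun h x y hxy => by
      obtain ⟨a, rfl⟩ := he.surjective x
      obtain ⟨b, rfl⟩ := he.surjective y
      exact congrArg e (h hxy),
      fun h => h.comp he.injective⟩)
    (fun e g hg => ⟨fun h => h.of_comp, fun h => hg.injective.comp h⟩) hX' hY hY' hi hj w

theorem surjective_thick_iff (hX' : IsAlgSpace X') (hY' : IsAlgSpace Y') {i : X ⟶ X'}
    {j : Y ⟶ Y'} {f : X ⟶ Y} {f' : X' ⟶ Y'} (hi : IsThickMor i) (hj : IsThickMor j) (w : i ≫ f' = f ≫ j) :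
    IsSurjectiveMor f ↔ IsSurjectiveMor f' := by
  have hI := isHomeomorph_map_thick hX' hi
  have hJ := isHomeomorph_map_thick hY' hj
  have e : Points.map f' ∘ Points.map i = Points.map j ∘ Points.map f := by
    funext x; simp only [Function.comp_apply, ← Points.map_comp, w]
  constructor
  · intro h
    refine Function.Surjective.of_comp (g := Points.map i) ?_
    rw [e]
    exact hJ.surjective.comp h
  · intro h y
    obtain ⟨x', hx'⟩ := h (Points.map j y)
    obtain ⟨x, rfl⟩ := hI.surjective x'
    exact ⟨x, hJ.injective ((congrFun e x).symm.trans hx')⟩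

theorem qcSp_thick_iff (hX : IsAlgSpace X) (hX' : IsAlgSpace X') {i : X ⟶ X'} (hi : IsThickMor i) :
    IsQuasiCompactSp X ↔ IsQuasiCompactSp X' := by
  obtain ⟨e, he⟩ := isHomeomorph_iff_exists_homeomorph.1 (isHomeomorph_map_thick hX' hi)
  constructor
  · intro h
    obtain ⟨U, p, hp, hps⟩ := hX'.atlas
    have := compactSpace_points h
    exact isQuasiCompactSp_of_compact hp (surjective_of_repWith hps) e.compactSpace
  · intro h
    obtain ⟨U, p, hp, hps⟩ := hX.atlas
    have := compactSpace_points h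
    exact isQuasiCompactSp_of_compact hp (surjective_of_repWith hps) e.symm.compactSpace

theorem qcMor_thick_iff (hX : IsAlgSpace X) (hX' : IsAlgSpace X') (hY : IsAlgSpace Y) (hY' : IsAlgSpace Y')
    {i : X ⟶ X'} {j : Y ⟶ Y'} {f : X ⟶ Y} {f' : X' ⟶ Y'} (hi : IsThickMor i) (hj : IsThickMor j)
    (w : i ≫ f' = f ≫ j) : IsQuasiCompactMor f ↔ IsQuasiCompactMor f' := by
  have := mono_of_thick hj
  have key : ∀ {A P : Sp S} (hA : IsAlgSpace A) (hP : IsAlgSpace P) (ν : A ⟶ P), IsHomeomorph (Points.map ν) →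
      (IsQuasiCompactSp A ↔ IsQuasiCompactSp P) := fun hA hP ν hν => by
    obtain ⟨e, he⟩ := isHomeomorph_iff_exists_homeomorph.1 hν
    constructor
    · intro h
      obtain ⟨U, p, hp, hps⟩ := hP.atlas
      have := compactSpace_points h
      exact isQuasiCompactSp_of_compact hp (surjective_of_repWith hps) e.compactSpace
    · intro h
      obtain ⟨U, p, hp, hps⟩ := hA.atlas
      have := compactSpace_points h
      exact isQuasiCompactSp_of_compact hp (surjective_of_repWith hps) e.symm.compactSpace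
  constructor
  · intro h Z P' hZ hZq k fst' snd' sq'
    have hZ₀ : IsAlgSpace (pullback k j) := isAlgSpace_pullback hZ hY' hY k j
    have hth := isThickMor_bc (IsPullback.of_hasPullback k j).flip hj
    have hq := (qcSp_thick_iff hZ₀ hZ hth).2 hZq
    have sq'' := IsPullback.of_hasPullback snd' (pullback.fst k j)
    have big := sq''.paste_horiz sq'
    rw [pullback.condition] at big
    have H := IsPullback.of_hasPullback f (pullback.snd k j)
    obtain ⟨ν, hν, -⟩ := exists_test_square hX' hY' hi w hZ₀ (pullback.snd k j) H big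
    have hP' := isAlgSpace_of_isPullback hX' hY' hZ sq'
    have hP'' := isAlgSpace_of_isPullback hX' hY' hZ₀ big
    have h1 := (key (isAlgSpace_of_isPullback hX hY hZ₀ H) hP'' ν hν).1 (h hZ₀ hq _ _ _ H)
    exact (qcSp_thick_iff hP'' hP' (isThickMor_bc sq''.flip hth)).1 h1
  · intro h Z A hZ hZq k fst snd sq
    obtain ⟨ν, hν, -⟩ := exists_test_square hX' hY' hi w hZ k sq (IsPullback.of_hasPullback f' (k ≫ j))
    exact (key (isAlgSpace_of_isPullback hX hY hZ sq) (isAlgSpace_pullback hX' hY' hZ _ _) ν hν).2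
      (h hZ hZq _ _ _ (IsPullback.of_hasPullback f' (k ≫ j)))

theorem isSeparatedMor_iff_univClosed (hX : IsAlgSpace X) (f : X ⟶ Y) :
    IsSeparatedMor f ↔ IsUnivClosedMor (pullback.diagonal f) := by
  obtain ⟨hr, h1, -, h3, h4⟩ := repWith_diagonal_props hX f
  rw [← repWith_universallyClosed_iff hr]
  constructor
  · intro h
    exact ⟨hr, fun U V g fst snd sq => by
      have : IsClosedImmersion snd.left := h.property _ _ _ sq
      exact (inferInstance : UniversallyClosed snd.left)⟩
  · intro h
    refine ⟨hr, fun U V g fst snd sq => ?_⟩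
    have : UniversallyClosed snd.left := h.property _ _ _ sq
    have : LocallyOfFiniteType snd.left := h1.property _ _ _ sq
    have : IsSeparated snd.left := h3.property _ _ _ sq
    have : Mono snd.left := h4.property _ _ _ sq
    have : IsProper snd.left := ⟨⟩
    exact ((IsClosedImmersion.iff_isProper_and_mono snd.left).2 ⟨inferInstance, inferInstance⟩ : IsClosedImmersion snd.left)

theorem isThickMor_diag_map {i : X ⟶ X'} {j : Y ⟶ Y'} {f : X ⟶ Y} {f' : X' ⟶ Y'} (hi : IsThickMor i)
    (hj : IsThickMor j) (w : i ≫ f' = f ≫ j) : IsThickMor (pullback.map f f f' f' i i j w.symm w.symm) := by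
  have := mono_of_thick hj
  -- `X ×_Y X = X ×_{Y'} X`
  have sqA : IsPullback (pullback.fst f f) (pullback.snd f f) (i ≫ f') (i ≫ f') := by
    rw [w]
    exact IsPullback.of_isLimit' ⟨by rw [pullback.condition_assoc]⟩ (PullbackCone.IsLimit.mk _
      (fun c => pullback.lift c.fst c.snd ((cancel_mono j).1 (by simpa using c.condition)))
      (fun c => pullback.lift_fst _ _ _) (fun c => pullback.lift_snd _ _ _)
      (fun c m h1 h2 => pullback.hom_ext (h1.trans (pullback.lift_fst _ _ _).symm) (h2.trans (pullback.lift_snd _ _ _).symm)))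
  have H := IsPullback.of_hasPullback f' (i ≫ f')
  let r : pullback f' (i ≫ f') ⟶ pullback f' f' := pullback.lift (pullback.fst _ _) (pullback.snd _ _ ≫ i)
    (by rw [pullback.condition, Category.assoc])
  let l : pullback f f ⟶ pullback f' (i ≫ f') := pullback.lift (pullback.fst f f ≫ i) (pullback.snd f f)
    (by rw [Category.assoc]; exact sqA.w)
  have sq1 : IsPullback (pullback.fst f f) l i (pullback.fst f' (i ≫ f')) := by
    refine IsPullback.of_bot ?_ (pullback.lift_fst _ _ _).symm H
    rw [show l ≫ pullback.snd f' (i ≫ f') = pullback.snd f f from pullback.lift_snd _ _ _]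
    exact sqA
  have sq2 : IsPullback (pullback.snd f' (i ≫ f')) r i (pullback.snd f' f') := by
    refine IsPullback.of_bot ?_ (pullback.lift_snd _ _ _).symm (IsPullback.of_hasPullback f' f').flip
    rw [show r ≫ pullback.fst f' f' = pullback.fst f' (i ≫ f') from pullback.lift_fst _ _ _]
    exact H.flip
  have h1 := isThickMor_bc sq1 hi
  have h2 := isThickMor_bc sq2 hi
  have e : pullback.map f f f' f' i i j w.symm w.symm = l ≫ r := by
    apply pullback.hom_ext
    · simp [l, r]
    · simp [l, r]
  rw [e]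
  exact MorphismProperty.comp_mem (W := RepWith thick) _ _ h1 h2

theorem separated_thick_iff (hX : IsAlgSpace X) (hX' : IsAlgSpace X') (hY : IsAlgSpace Y) (hY' : IsAlgSpace Y')
    {i : X ⟶ X'} {j : Y ⟶ Y'} {f : X ⟶ Y} {f' : X' ⟶ Y'} (hi : IsThickMor i) (hj : IsThickMor j)
    (w : i ≫ f' = f ≫ j) :
    (IsSeparatedMor f ↔ IsSeparatedMor f') ∧ (IsQuasiSeparatedMor f ↔ IsQuasiSeparatedMor f') := by
  have hd := isThickMor_diag_map hi hj w
  have hF := isAlgSpace_pullback hX hY hX f f
  have hF' := isAlgSpace_pullback hX' hY' hX' f' f'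
  have wd : i ≫ pullback.diagonal f' = pullback.diagonal f ≫ pullback.map f f f' f' i i j w.symm w.symm := by
    apply pullback.hom_ext <;> simp
  constructor
  · rw [isSeparatedMor_iff_univClosed hX, isSeparatedMor_iff_univClosed hX']
    exact univClosed_thick_iff hX' hF hF' hi hd wd
  · have a := qcMor_thick_iff hX hX' hF hF' hi hd wd
    rw [← repWith_quasiCompact_iff hX hF (representable_diagonal hX f),
      ← repWith_quasiCompact_iff hX' hF' (representable_diagonal hX' f')] at a
    exact a

end AlgSpTopo
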