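import Mathlib
import Groth.Prelude.Def_Flat
import Groth.Agent.Flat.DeformNilp
import Groth.Agent.Flat.DeformFp
import Groth.Agent.Flat.ThickeningLFT
import Groth.Agent.Flat.FibreAt
import Groth.Agent.AlgSpTopo.SourceScheme

/-! Scheme lemmas for thickenings of algebraic spaces. -/

set_option autoImplicit false
set_option backward.isDefEq.respectTransparency false
set_option backward.isDefEq.respectTransparency.types false
universe u
open CategoryTheory CategoryTheory.Limits AlgebraicGeometry Topology TopologicalSpace Order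

namespace AlgSpTopo.ThickScheme

theorem flat_iff_fp {X X' Y Y' S S' : Scheme.{u}} {iX : X ⟶ X'} {iY : Y ⟶ Y'} {iS : S ⟶ S'}
    {f : X ⟶ Y} {f' : X' ⟶ Y'} {g : Y ⟶ S} {g' : Y' ⟶ S'}
    [Flat (f' ≫ g')] [LocallyOfFinitePresentation (f' ≫ g')] [LocallyOfFiniteType g']
    (hS : MoreMor.IsThickening iS) (hcX : IsPullback iX (f ≫ g) (f' ≫ g') iS)
    (hcY : IsPullback iY g g' iS) (w : iX ≫ f' = f ≫ iY) : Flat f ↔ Flat f' :=
  ⟨fun h => Groth.Agent.Flat.FibreScheme.flat_of_flat_fibres g' (f' ≫ g') f' rfl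
      (Groth.Agent.Flat.DeformFp.property_fibres @Flat hS hcX hcY w h),
    fun h => MorphismProperty.of_isPullback (P := @Flat) (Groth.Agent.Flat.DeformFp.isPullback_reduction hcX hcY w) h⟩

/-- locally of finite type descends along a thickening whose source has nilpotent ideal -/
theorem finiteType_of_map_nilpotent {B C : Type u} [CommRing B] [CommRing C] [Algebra B C] (I : Ideal B)
    (hI : IsNilpotent (I.map (algebraMap B C)))
    (h : (Algebra.TensorProduct.includeRight : B ⧸ I →ₐ[B] TensorProduct B C (B ⧸ I)).toRingHom.FiniteType) :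
    Algebra.FiniteType B C := by
  classical
  letI : Algebra (B ⧸ I) (TensorProduct B C (B ⧸ I)) := Algebra.TensorProduct.rightAlgebra
  have hft : Algebra.FiniteType (B ⧸ I) (TensorProduct B C (B ⧸ I)) := h
  obtain ⟨s, hs⟩ := hft.out
  have hsurj : Function.Surjective (fun c : C => (c ⊗ₜ[B] (1 : B ⧸ I))) := by
    intro z
    induction z using TensorProduct.induction_on with
    | zero => exact ⟨0, by simp⟩
    | tmul c b =>
      obtain ⟨b, rfl⟩ := Ideal.Quotient.mk_surjective b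
      refine ⟨b • c, ?_⟩
      simp only [TensorProduct.smul_tmul]
      congr 1
      rw [Algebra.smul_def, mul_one]
      rfl
    | add x y hx hy =>
      obtain ⟨a, rfl⟩ := hx; obtain ⟨b, rfl⟩ := hy
      exact ⟨a + b, TensorProduct.add_tmul _ _ _⟩
  choose c hc using hsurj
  refine ⟨⟨s.image c, ?_⟩⟩
  let D := Algebra.adjoin B ((s.image c : Finset C) : Set C)
  let π : C →ₐ[B] TensorProduct B C (B ⧸ I) := Algebra.TensorProduct.includeLeft
  let J := I.map (algebraMap B C)
  have hker : ∀ x, π x = 0 → x ∈ J := fun x hx => by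
    have := congrArg (Algebra.TensorProduct.lift (Ideal.Quotient.mkₐ B J)
      (Ideal.Quotient.liftₐ I (Algebra.ofId B (C ⧸ J)) (fun b hb => Ideal.Quotient.eq_zero_iff_mem.2 (Ideal.mem_map_of_mem _ hb)))
      (fun _ _ => Commute.all _ _)) hx
    rw [map_zero] at this
    simp [π] at this
    exact Ideal.Quotient.eq_zero_iff_mem.1 this
  have hD : ∀ x : C, ∃ d ∈ D, x - d ∈ J := by
    intro x
    have hmem : π x ∈ Algebra.adjoin (B ⧸ I) (s : Set (TensorProduct B C (B ⧸ I))) := by rw [hs]; trivial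
    have key : ∀ z ∈ Algebra.adjoin (B ⧸ I) (s : Set (TensorProduct B C (B ⧸ I))), ∃ d ∈ D, π d = z := by
      intro z hz
      induction hz using Algebra.adjoin_induction with
      | mem z hz => exact ⟨c z, Algebra.subset_adjoin (Finset.mem_image_of_mem c hz), hc z⟩
      | algebraMap b =>
        obtain ⟨b, rfl⟩ := Ideal.Quotient.mk_surjective b
        refine ⟨algebraMap B C b, D.algebraMap_mem b, ?_⟩
        rw [AlgHom.commutes]
        exact ((Algebra.TensorProduct.includeRight : B ⧸ I →ₐ[B] TensorProduct B C (B ⧸ I)).commutes b).symm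
      | add a b _ _ ha hb =>
        obtain ⟨d, hd, rfl⟩ := ha; obtain ⟨e, he, rfl⟩ := hb
        exact ⟨d + e, D.add_mem hd he, map_add _ _ _⟩
      | mul a b _ _ ha hb =>
        obtain ⟨d, hd, rfl⟩ := ha; obtain ⟨e, he, rfl⟩ := hb
        exact ⟨d * e, D.mul_mem hd he, map_mul _ _ _⟩
    obtain ⟨d, hd, e⟩ := key _ hmem
    exact ⟨d, hd, hker _ (by rw [map_sub, e, sub_self])⟩
  obtain ⟨n, hn⟩ := hI
  have hJn : ∀ (k : ℕ) (x : C), x ∈ J ^ k → ∃ d ∈ D, x - d ∈ J ^ (k + 1) := by
    intro k x hx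
    rw [← Ideal.map_pow] at hx
    induction hx using Submodule.span_induction with
    | mem y hy =>
      obtain ⟨b, hb, rfl⟩ := hy
      exact ⟨_, D.algebraMap_mem b, by simp⟩
    | zero => exact ⟨0, D.zero_mem, by simp⟩
    | add a b _ _ ha hb =>
      obtain ⟨d, hd, hd'⟩ := ha; obtain ⟨e, he, he'⟩ := hb
      exact ⟨d + e, D.add_mem hd he, by rw [show a + b - (d + e) = (a - d) + (b - e) by ring]; exact Ideal.add_mem _ hd' he'⟩
    | smul a b hb hb' =>
      obtain ⟨d, hd, hd'⟩ := hb'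
      obtain ⟨a', ha, ha'⟩ := hD a
      refine ⟨a' * d, D.mul_mem ha hd, ?_⟩
      have hb'' : b ∈ J ^ k := by rw [← Ideal.map_pow]; exact hb
      rw [smul_eq_mul, show a * b - a' * d = (a - a') * b + a' * (b - d) by ring]
      refine Ideal.add_mem _ ?_ (Ideal.mul_mem_left _ _ hd')
      rw [pow_succ']
      exact Ideal.mul_mem_mul ha' hb''
  have all : ∀ (k : ℕ) (x : C), ∃ d ∈ D, x - d ∈ J ^ k := by
    intro k
    induction k with
    | zero => exact fun x => ⟨0, D.zero_mem, by simp⟩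
    | succ k ih =>
      intro x
      obtain ⟨d, hd, h1⟩ := ih x
      obtain ⟨e, he, h2⟩ := hJn k _ h1
      exact ⟨d + e, D.add_mem hd he, by rwa [← sub_sub]⟩
  refine eq_top_iff.2 fun x _ => ?_
  obtain ⟨d, hd, hx⟩ := all n x
  rw [show J ^ n = (0 : Ideal C) from hn, Ideal.zero_eq_bot, Ideal.mem_bot, sub_eq_zero] at hx
  exact hx ▸ hd

theorem locallyOfFiniteType_of_source {X X' Y Y' : Scheme.{u}} {iX : X ⟶ X'} {iY : Y ⟶ Y'} {f : X ⟶ Y}
    {f' : X' ⟶ Y'} (hY : MoreMor.IsThickening iY) (hc : IsPullback iX f f' iY) (hX : IsNilpotent iX.ker)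
    (hf : LocallyOfFiniteType f) : LocallyOfFiniteType f' := by
  have := hY.1
  have := (Groth.Agent.Flat.ThickeningLFT.isThickening_left hY hc).1
  rw [HasRingHomProperty.iff_exists_appLE (P := @LocallyOfFiniteType)
    (RingHom.finiteType_stableUnderComposition.stableUnderCompositionWithLocalizationAway
      RingHom.finiteType_holdsForLocalizationAway).1]
  intro x
  obtain ⟨_, ⟨V, hV, rfl⟩, hxV, -⟩ :=
    Y'.isBasis_affineOpens.exists_subset_of_mem_open (Set.mem_univ (f' x)) isOpen_univ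
  obtain ⟨_, ⟨W, hW, rfl⟩, hxW, hWV⟩ :=
    X'.isBasis_affineOpens.exists_subset_of_mem_open (show x ∈ f' ⁻¹ᵁ V from hxV) (f' ⁻¹ᵁ V).isOpen
  have eW : W ≤ f' ⁻¹ᵁ V := hWV
  refine ⟨⟨V, hV⟩, ⟨W, hW⟩, hxW, eW, ?_⟩
  letI := (f'.appLE V W eW).hom.toAlgebra
  let I := iY.ker.ideal ⟨V, hV⟩
  have hI : IsNilpotent (I.map (algebraMap Γ(Y', V) Γ(X', W))) := by
    obtain ⟨n, hn⟩ := hX
    refine ⟨n, ?_⟩
    have h1 : (iX.ker ^ n).ideal ⟨W, hW⟩ = (0 : X'.IdealSheafData).ideal ⟨W, hW⟩ := congrFun (congrArg _ hn) _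
    rw [Scheme.IdealSheafData.ideal_pow, Pi.pow_apply] at h1
    have hk : iX.ker = iY.ker.comap f' := by
      rw [← hc.isoPullback_hom_fst, Scheme.Hom.ker_comp_of_isIso,
        Scheme.IdealSheafData.ker_fst_of_isClosedImmersion]
    rw [hk, Groth.Agent.Flat.CartierFibre.ideal_comap _ _ ⟨V, hV⟩ ⟨W, hW⟩ eW] at h1
    exact h1
  refine RingHom.finiteType_algebraMap.2 (finiteType_of_map_nilpotent I hI ?_)
  refine Groth.Agent.Flat.FibreScheme.property_chart (P := @LocallyOfFiniteType) f' hV hW eW (Γ(Y', V) ⧸ I) ?_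
  let a : Spec (.of (Γ(Y', V) ⧸ I)) ⟶ Y := iY.ker.subschemeCover.f ⟨V, hV⟩ ≫ inv iY.toImage
  have h2 : inv iY.toImage ≫ iY = iY.ker.subschemeι := by
    rw [IsIso.inv_comp_eq]; exact iY.toImage_imageι.symm
  have hk : a ≫ iY = Spec.map (CommRingCat.ofHom (algebraMap Γ(Y', V) (Γ(Y', V) ⧸ I))) ≫ hV.fromSpec := by
    simp only [a, Category.assoc, h2, Scheme.IdealSheafData.subschemeCover_map_subschemeι]
    erw [Scheme.IdealSheafData.glueDataObjι_ι]
  rw [← hk, ← MorphismProperty.cancel_left_of_respectsIso @LocallyOfFiniteType (pullbackLeftPullbackSndIso f' iY a).hom,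
    pullbackLeftPullbackSndIso_hom_snd]
  refine MorphismProperty.pullback_snd (P := @LocallyOfFiniteType) _ _ ?_
  rw [← MorphismProperty.cancel_left_of_respectsIso @LocallyOfFiniteType hc.isoPullback.hom, hc.isoPullback_hom_snd]
  exact hf

end AlgSpTopo.ThickScheme

namespace AlgSpTopo.ThickScheme

theorem eq_of_specializes_of_discrete {A : Type u} [TopologicalSpace A] {s : Set A} (hs : IsDiscrete s) {a b : A}
    (ha : a ∈ s) (hb : b ∈ s) (h : a ⤳ b) : a = b := by
  have := hs.to_subtype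
  obtain ⟨O, hO, e⟩ := isOpen_induced_iff.1 (isOpen_discrete ({⟨b, hb⟩} : Set s))
  have : b ∈ O := (Set.ext_iff.1 e ⟨b, hb⟩).2 rfl
  exact congrArg Subtype.val ((Set.ext_iff.1 e ⟨a, ha⟩).1 (h.mem_open hO this))

section top

variable {A B : Type u} [TopologicalSpace A] [TopologicalSpace B] [T0Space A] [T0Space B] [QuasiSober A] [QuasiSober B]

theorem krullDim_le_of_discrete (g : A → B) (hg : Continuous g) (hd : ∀ a a', a ⤳ a' → g a = g a' → a = a') :
    topologicalKrullDim A ≤ topologicalKrullDim B := by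
  refine Order.krullDim_le_of_strictMono
    (fun Z : IrreducibleCloseds A => (⟨closure {g (IsIrreducible.genericPoint Z.isIrreducible)},
      isIrreducible_singleton.closure, isClosed_closure⟩ : IrreducibleCloseds B)) fun Z Z' hlt => ?_
  have h1 : IsIrreducible.genericPoint Z'.isIrreducible ⤳ IsIrreducible.genericPoint Z.isIrreducible := by
    refine (Z'.isIrreducible.isGenericPoint_genericPoint Z'.isClosed).specializes ?_
    exact hlt.le (Z.isIrreducible.isGenericPoint_genericPoint Z.isClosed).mem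
  refine lt_of_le_of_ne (closure_minimal (Set.singleton_subset_iff.2 (specializes_iff_mem_closure.1 (h1.map hg))) isClosed_closure) fun e => ?_
  have e' : closure {g (IsIrreducible.genericPoint Z.isIrreducible)} = closure {g (IsIrreducible.genericPoint Z'.isIrreducible)} :=
    congrArg (fun T : IrreducibleCloseds B => (T : Set B)) e
  have h2 := hd _ _ h1 ((inseparable_iff_closure_eq.2 e').eq).symm
  refine hlt.ne (SetLike.ext' ?_)
  rw [← (Z.isIrreducible.isGenericPoint_genericPoint Z.isClosed).def,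
    ← (Z'.isIrreducible.isGenericPoint_genericPoint Z'.isClosed).def, h2]

theorem krullDim_le_of_generalizing (g : A → B) (hg : Continuous g) (hs : Function.Surjective g)
    (hgen : ∀ a b, b ⤳ g a → ∃ a', a' ⤳ a ∧ g a' = b) : topologicalKrullDim B ≤ topologicalKrullDim A := by
  refine iSup_le fun s => ?_
  let y : Fin (s.length + 1) → B := fun i => IsIrreducible.genericPoint (s i).isIrreducible
  have hy : ∀ i, IsGenericPoint (y i) (s i : Set B) := fun i => (s i).isIrreducible.isGenericPoint_genericPoint (s i).isClosed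
  have hstep : ∀ i : Fin s.length, y i.succ ⤳ y i.castSucc := fun i =>
    (hy i.succ).specializes ((show s i.castSucc < s i.succ from s.step i).le (hy i.castSucc).mem)
  classical
  obtain ⟨x, hx, hxs⟩ : ∃ x : Fin (s.length + 1) → A, (∀ i, g (x i) = y i) ∧ ∀ i : Fin s.length, x i.succ ⤳ x i.castSucc := by
    choose lift hlift1 hlift2 using hgen
    choose z hz using hs (y 0)
    let x : Fin (s.length + 1) → {p : A × B // g p.1 = p.2} := fun i => Fin.induction ⟨(z, y 0), hz⟩
      (fun i p => if h : y i.succ ⤳ g p.1.1 then ⟨(lift p.1.1 (y i.succ) h, y i.succ), hlift2 _ _ h⟩ else p) i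
    have hx : ∀ i, (x i).1.2 = y i := by
      intro i
      induction i using Fin.induction with
      | zero => rfl
      | succ i ih =>
        have hp : y i.succ ⤳ g (x i.castSucc).1.1 := by rw [(x i.castSucc).2, ih]; exact hstep i
        simp only [x] at hp ⊢
        rw [Fin.induction_succ, dif_pos hp]
    refine ⟨fun i => (x i).1.1, fun i => (x i).2.trans (hx i), fun i => ?_⟩
    have hp : y i.succ ⤳ g (x i.castSucc).1.1 := by rw [(x i.castSucc).2, hx]; exact hstep i
    simp only [x] at hp ⊢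
    rw [Fin.induction_succ, dif_pos hp]
    exact hlift1 _ _ hp
  refine le_iSup_of_le (⟨s.length, fun i => ⟨closure {x i}, isIrreducible_singleton.closure, isClosed_closure⟩,
    fun i => ?_⟩ : LTSeries (IrreducibleCloseds A)) le_rfl
  refine lt_of_le_of_ne (α := IrreducibleCloseds A) (closure_minimal (Set.singleton_subset_iff.2 (specializes_iff_mem_closure.1 (hxs i)))
    isClosed_closure) fun e => (show s i.castSucc < s i.succ from s.step i).ne (SetLike.ext' ?_)
  have e' : closure {x i.castSucc} = closure {x i.succ} := congrArg (fun T : IrreducibleCloseds A => (T : Set A)) e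
  rw [← (hy i.castSucc).def, ← (hy i.succ).def, ← hx, ← hx, (inseparable_iff_closure_eq.2 e').eq]

theorem localDim_eq_of_etaleLike (g : A → B) (hg : Continuous g) (hop : IsOpenMap g)
    (hd : ∀ a a', a ⤳ a' → g a = g a' → a = a') (hgen : ∀ a b, b ⤳ g a → ∃ a', a' ⤳ a ∧ g a' = b) (a : A) :
    FlatMor.localDim A a = FlatMor.localDim B (g a) := by
  refine le_antisymm (le_iInf fun V => iInf_le_of_le ⟨⟨g ⁻¹' (V.1 : Set B), V.1.isOpen.preimage hg⟩, V.2⟩ ?_) (le_iInf fun U => ?_)
  · have := (V.1.isOpen.preimage hg).isOpenEmbedding_subtypeVal.quasiSober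
    have := V.1.isOpen.isOpenEmbedding_subtypeVal.quasiSober
    exact krullDim_le_of_discrete (fun x : ↥(g ⁻¹' (V.1 : Set B)) => (⟨g x.1, x.2⟩ : ↥(V.1 : Set B)))
      ((hg.comp continuous_subtype_val).subtype_mk _)
      fun x x' h e => Subtype.ext (hd _ _ (h.map continuous_subtype_val) (congrArg Subtype.val e))
  · refine iInf_le_of_le ⟨⟨g '' (U.1 : Set A), hop _ U.1.isOpen⟩, a, U.2, rfl⟩ ?_
    have := U.1.isOpen.isOpenEmbedding_subtypeVal.quasiSober
    have := (hop _ U.1.isOpen).isOpenEmbedding_subtypeVal.quasiSober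
    refine krullDim_le_of_generalizing (fun x : ↥(U.1 : Set A) => (⟨g x.1, x.1, x.2, rfl⟩ : ↥(g '' (U.1 : Set A))))
      ((hg.comp continuous_subtype_val).subtype_mk _) ?_ fun x b hb => ?_
    · rintro ⟨_, x, hx, rfl⟩; exact ⟨⟨x, hx⟩, rfl⟩
    · obtain ⟨a', h1, h2⟩ := hgen x.1 b.1 (hb.map continuous_subtype_val)
      exact ⟨⟨a', h1.mem_open U.1.isOpen x.2⟩, subtype_specializes_iff _ _ |>.2 h1, Subtype.ext h2⟩

omit [T0Space A] [T0Space B] [QuasiSober A] [QuasiSober B] in
theorem localDim_homeo (e : A ≃ₜ B) (a : A) : FlatMor.localDim A a = FlatMor.localDim B (e a) := by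
  have key : ∀ (A B : Type u) [TopologicalSpace A] [TopologicalSpace B] (e : A ≃ₜ B) (a : A),
      FlatMor.localDim A a ≤ FlatMor.localDim B (e a) := fun A B _ _ e a => le_iInf fun V =>
    iInf_le_of_le ⟨⟨e ⁻¹' (V.1 : Set B), V.1.isOpen.preimage e.continuous⟩, V.2⟩
      (le_of_eq (IsHomeomorph.topologicalKrullDim_eq (fun x : ↥(e ⁻¹' (V.1 : Set B)) => (⟨e x.1, x.2⟩ : ↥(V.1 : Set B)))
        (e.sets (Set.ext fun _ => Iff.rfl)).isHomeomorph))
  refine le_antisymm (key A B e a) ?_
  have := key B A e.symm (e a)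
  rwa [e.symm_apply_apply] at this

end top

variable {U V : Scheme.{u}}

theorem fibreDimAt_eq (k : U ⟶ V) (x : U) :
    FlatMor.fibreDimAt k x = FlatMor.localDim ↥(k ⁻¹' {k x}) ⟨x, rfl⟩ := by
  unfold FlatMor.fibreDimAt
  rw [localDim_homeo (k.fiberHomeo (k x))]
  congr 1
  exact (k.fiberHomeo (k x)).apply_symm_apply _

theorem fibreDimAt_etale {U' V' : Scheme.{u}} {k : U ⟶ V} {k' : U' ⟶ V'} (e : U' ⟶ U) (e' : V' ⟶ V) [Etale e]
    [Etale e'] (w : e ≫ k = k' ≫ e') (x : U') : FlatMor.fibreDimAt k' x = FlatMor.fibreDimAt k (e x) := by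
  rw [fibreDimAt_eq, fibreDimAt_eq]
  have hw : ∀ y, k (e y) = e' (k' y) := fun y => congrArg (fun m : U' ⟶ V => m y) w
  have := (k.fiberHomeo (k (e x))).symm.isOpenEmbedding.quasiSober
  have := (k'.fiberHomeo (k' x)).symm.isOpenEmbedding.quasiSober
  have := etaleLocal_locallyQuasiFinite.of_etale e ‹_›
  have := etaleLocal_locallyQuasiFinite.of_etale e' ‹_›
  let g : ↥(k' ⁻¹' {k' x}) → ↥(k ⁻¹' {k (e x)}) := fun y => ⟨e y.1, by
    show k (e y.1) = k (e x)
    rw [hw, hw, show k' y.1 = k' x from y.2]⟩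
  have hdisc := e'.isDiscrete_preimage_singleton (k (e x))
  have := hdisc.to_subtype
  obtain ⟨O, hO, hOe⟩ := isOpen_induced_iff.1 (isOpen_discrete
    ({⟨k' x, (hw x).symm⟩} : Set ↥(e' ⁻¹' {k (e x)})))
  refine (localDim_eq_of_etaleLike g ((e.continuous.comp continuous_subtype_val).subtype_mk _) ?_ ?_ ?_ ⟨x, rfl⟩).trans rfl
  · intro W hW
    obtain ⟨W', hW', rfl⟩ := isOpen_induced_iff.1 hW
    refine isOpen_induced_iff.2 ⟨e '' (W' ∩ k' ⁻¹' O), e.isOpenMap _ (hW'.inter (hO.preimage k'.continuous)), ?_⟩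
    ext z
    constructor
    · rintro ⟨y, ⟨hy, hyO⟩, hyz⟩
      have hyz' : k' y ∈ e' ⁻¹' {k (e x)} := by
        show e' (k' y) = k (e x)
        rw [← hw, hyz]; exact z.2
      have : k' y = k' x := congrArg Subtype.val ((Set.ext_iff.1 hOe ⟨k' y, hyz'⟩).1 hyO)
      exact ⟨⟨y, this⟩, hy, Subtype.ext hyz⟩
    · rintro ⟨y, hy, rfl⟩
      refine ⟨y.1, ⟨hy, ?_⟩, rfl⟩
      have hy' : k' y.1 = k' x := y.2
      show k' y.1 ∈ O
      rw [hy']
      exact (Set.ext_iff.1 hOe ⟨k' x, (hw x).symm⟩).2 rfl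
  · intro a a' h ee
    exact Subtype.ext (eq_of_specializes_of_discrete (e.isDiscrete_preimage_singleton (e a.1)) rfl
      (congrArg Subtype.val ee).symm (h.map continuous_subtype_val))
  · intro a b hb
    obtain ⟨a', h1, h2⟩ := Flat.generalizingMap e (hb.map continuous_subtype_val)
    have hm : k' a' ∈ e' ⁻¹' {k (e x)} := by
      show e' (k' a') = k (e x)
      rw [← hw, h2]; exact b.2
    have ha : k' a.1 ∈ e' ⁻¹' {k (e x)} := by
      show e' (k' a.1) = k (e x)
      rw [← hw]; exact (g a).2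
    have : k' a' = k' x := (eq_of_specializes_of_discrete hdisc hm ha (h1.map k'.continuous)).trans a.2
    exact ⟨⟨a', this⟩, subtype_specializes_iff _ _ |>.2 h1, Subtype.ext h2⟩

theorem fibreDimAt_thick {X X' Y Y' : Scheme.{u}} {iX : X ⟶ X'} {iY : Y ⟶ Y'} {f : X ⟶ Y} {f' : X' ⟶ Y'}
    [IsClosedImmersion iX] [Surjective iX] [IsClosedImmersion iY] (w : iX ≫ f' = f ≫ iY) (x : X) :
    FlatMor.fibreDimAt f x = FlatMor.fibreDimAt f' (iX x) := by
  rw [fibreDimAt_eq, fibreDimAt_eq]
  have hw : ∀ y, f' (iX y) = iY (f y) := fun y => congrArg (fun m : X ⟶ Y' => m y) w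
  let e : X ≃ₜ X' := iX.isClosedEmbedding.isEmbedding.toHomeomorphOfSurjective iX.surjective
  have he : f ⁻¹' {f x} = e ⁻¹' (f' ⁻¹' {f' (iX x)}) := by
    ext y
    show f y = f x ↔ f' (iX y) = f' (iX x)
    rw [hw, hw]
    exact iY.isClosedEmbedding.injective.eq_iff.symm
  exact localDim_homeo (e.sets he) ⟨x, rfl⟩

end AlgSpTopo.ThickScheme
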