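import Mathlib
import Groth.Prelude.Def_AlgSpInf
import Groth.Agent.AlgSpTopo.Thick
import Groth.Agent.AlgSpTopo.FlatLocus
import Groth.Agent.AlgSpTopo.LocInst
import Groth.Agent.AlgSpTopo.ThickScheme

/-! Charts adapted to morphisms of thickenings of algebraic spaces. -/

set_option autoImplicit false
set_option backward.isDefEq.respectTransparency false
universe u
open CategoryTheory CategoryTheory.Limits AlgebraicGeometry Opposite

namespace AlgSpTopo
open AlgSp

variable {S : Scheme.{u}} {X X' Y Y' B B' : Sp S}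

/-- compatible etale surjective charts for a cartesian morphism of thickenings -/
structure ThickChart (i : X ⟶ X') (f : X ⟶ Y) (f' : X' ⟶ Y') (j : Y ⟶ Y') where
  U : Over S
  V : Over S
  U' : Over S
  V' : Over S
  a : (yon S).obj U ⟶ X
  b : (yon S).obj V ⟶ Y
  a' : (yon S).obj U' ⟶ X'
  b' : (yon S).obj V' ⟶ Y'
  k : U ⟶ V
  k' : U' ⟶ V'
  jU : U ⟶ U'
  jV : V ⟶ V'
  ha : RepWith @Etale a
  has : RepWith @Surjective a
  hb : RepWith @Etale b
  ha' : RepWith @Etale a'
  has' : RepWith @Surjective a'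
  hb' : RepWith @Etale b'
  comm : a ≫ f = (yon S).map k ≫ b
  comm' : a' ≫ f' = (yon S).map k' ≫ b'
  sq : IsPullback jU.left k.left k'.left jV.left
  sqX : IsPullback a ((yon S).map jU) i a'
  sqY : IsPullback b ((yon S).map jV) j b'

/-- base change of a chart along a cartesian morphism of thickenings -/
theorem exists_chart_thick {i : X ⟶ X'} {f : X ⟶ Y} {f' : X' ⟶ Y'} {j : Y ⟶ Y'} (hc : IsPullback i f f' j)
    {U' V' V : Over S} (a' : (yon S).obj U' ⟶ X') (b' : (yon S).obj V' ⟶ Y') (k' : U' ⟶ V')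
    (ha' : RepWith @Etale a') (has' : RepWith @Surjective a') (hb' : RepWith @Etale b')
    (comm' : a' ≫ f' = (yon S).map k' ≫ b') {b : (yon S).obj V ⟶ Y} {jV : V ⟶ V'}
    (sqY : IsPullback b ((yon S).map jV) j b') :
    ∃ (U : Over S) (a : (yon S).obj U ⟶ X) (k : U ⟶ V) (jU : U ⟶ U'),
      RepWith @Etale a ∧ RepWith @Surjective a ∧ a ≫ f = (yon S).map k ≫ b ∧
      IsPullback jU.left k.left k'.left jV.left ∧ IsPullback a ((yon S).map jU) i a' := by
  let U : Over S := Over.mk (pullback.snd k'.left jV.left ≫ V.hom)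
  let jU : U ⟶ U' := Over.homMk (pullback.fst k'.left jV.left) (by
    change pullback.fst _ _ ≫ U'.hom = pullback.snd _ _ ≫ V.hom
    rw [← Over.w k', ← Over.w jV, pullback.condition_assoc])
  let k : U ⟶ V := Over.homMk (pullback.snd k'.left jV.left) rfl
  have sU : IsPullback jU k k' jV := IsPullback.of_map_of_faithful (Over.forget S) (IsPullback.of_hasPullback _ _)
  have big := (sU.map (yon S)).paste_vert sqY.flip
  rw [← comm'] at big
  let a : (yon S).obj U ⟶ X := hc.lift ((yon S).map jU ≫ a') ((yon S).map k ≫ b)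
    (by rw [Category.assoc]; exact big.w)
  have h1 : a ≫ i = (yon S).map jU ≫ a' := hc.lift_fst _ _ _
  have h2 : a ≫ f = (yon S).map k ≫ b := hc.lift_snd _ _ _
  rw [← h2] at big
  have top : IsPullback ((yon S).map jU) a a' i := IsPullback.of_bot big h1.symm hc
  exact ⟨U, a, k, jU, MorphismProperty.of_isPullback (P := RepWith @Etale) top ha',
    MorphismProperty.of_isPullback (P := RepWith @Surjective) top has', h2, IsPullback.of_hasPullback _ _, top.flip⟩

theorem exists_thickChart (hX' : IsAlgSpace X') (hY' : IsAlgSpace Y') {i : X ⟶ X'} {f : X ⟶ Y} {f' : X' ⟶ Y'}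
    {j : Y ⟶ Y'} (hj : IsThickMor j) (hc : IsPullback i f f' j) : Nonempty (ThickChart i f f' j) := by
  obtain ⟨V', b', hb', hbs'⟩ := hY'.atlas
  obtain ⟨U', T, m, e, a', -, -, ha', has', comm'⟩ := exists_atlas_chart hX' hY' f' (locP_top f') hb' hbs'
  obtain ⟨V, b, jV, sqY, -⟩ := exists_square hj b'
  obtain ⟨U, a, k, jU, ha, has, comm, sq, sqX⟩ := exists_chart_thick hc a' b' (m ≫ e) ha' has' hb' comm' sqY
  exact ⟨⟨U, V, U', V', a, b, a', b', k, m ≫ e, jU, jV, ha, has,
    MorphismProperty.of_isPullback (P := RepWith @Etale) sqY.flip hb', ha', has', hb', comm, comm', sq, sqX, sqY⟩⟩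

/-- compatible charts for a morphism of thickenings over a thickening of the base -/
structure ThickChartOver (iX : X ⟶ X') (iY : Y ⟶ Y') (iB : B ⟶ B') (f : X ⟶ Y) (f' : X' ⟶ Y') (g : Y ⟶ B)
    (g' : Y' ⟶ B') extends ThickChart iX f f' iY where
  W : Over S
  W' : Over S
  c : (yon S).obj W ⟶ B
  c' : (yon S).obj W' ⟶ B'
  l : V ⟶ W
  l' : V' ⟶ W'
  jW : W ⟶ W'
  hc' : RepWith @Etale c'
  comml' : b' ≫ g' = (yon S).map l' ≫ c'
  sqB : IsPullback c ((yon S).map jW) iB c'
  sqW : IsPullback jV.left l.left l'.left jW.left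

theorem exists_thickChartOver (hX' : IsAlgSpace X') (hY' : IsAlgSpace Y') (hB' : IsAlgSpace B') {iX : X ⟶ X'}
    {iY : Y ⟶ Y'} {iB : B ⟶ B'} {f : X ⟶ Y} {f' : X' ⟶ Y'} {g : Y ⟶ B} {g' : Y' ⟶ B'} (hB : IsThickMor iB)
    (hcX : IsPullback iX (f ≫ g) (f' ≫ g') iB) (hcY : IsPullback iY g g' iB) (w : iX ≫ f' = f ≫ iY) :
    Nonempty (ThickChartOver iX iY iB f f' g g') := by
  obtain ⟨W', c', hc', hcs'⟩ := hB'.atlas
  obtain ⟨V', T, m, e, b', -, -, hb', hbs', comml'⟩ := exists_atlas_chart hY' hB' g' (locP_top g') hc' hcs'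
  obtain ⟨W, c, jW, sqB, -⟩ := exists_square hB c'
  obtain ⟨V, b, l, jV, hb, -, -, sqW, sqY⟩ := exists_chart_thick hcY b' c' (m ≫ e) hb' hbs' hc' comml' sqB
  obtain ⟨U', T', m', e', a', -, -, ha', has', comm'⟩ := exists_atlas_chart hX' hY' f' (locP_top f') hb' hbs'
  obtain ⟨U, a, k, jU, ha, has, comm, sq, sqX⟩ :=
    exists_chart_thick (IsPullback.of_bot hcX w hcY) a' b' (m' ≫ e') ha' has' hb' comm' sqY
  exact ⟨{ toThickChart := ⟨U, V, U', V', a, b, a', b', k, m' ≫ e', jU, jV, ha, has, hb, ha', has', hb', comm, comm',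
      sq, sqX, sqY⟩
           W, W', c, c', l, l' := m ≫ e, jW, hc', comml', sqB, sqW }⟩

namespace ThickChartOver

variable {iX : X ⟶ X'} {iY : Y ⟶ Y'} {iB : B ⟶ B'} {f : X ⟶ Y} {f' : X' ⟶ Y'} {g : Y ⟶ B} {g' : Y' ⟶ B'}

theorem comp_chart (C : ThickChartOver iX iY iB f f' g g') :
    C.a' ≫ (f' ≫ g') = (yon S).map (C.k' ≫ C.l') ≫ C.c' := by
  rw [← Category.assoc, C.comm', Category.assoc, C.comml', ← Category.assoc, ← Functor.map_comp]

theorem isThickening (C : ThickChartOver iX iY iB f f' g g') (hB : IsThickMor iB) :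
    MoreMor.IsThickening C.jW.left := hB.property _ _ _ C.sqB

theorem sqBig (C : ThickChartOver iX iY iB f f' g g') :
    IsPullback C.jU.left (C.k.left ≫ C.l.left) (C.k'.left ≫ C.l'.left) C.jW.left :=
  C.sq.paste_vert C.sqW

theorem comp_prop (C : ThickChartOver iX iY iB f f' g g') {P : MorphismProperty Scheme.{u}}
    (h : LocP P (f' ≫ g')) : P (C.k'.left ≫ C.l'.left) := h _ _ _ C.ha' C.hc' C.comp_chart

theorem base_prop (C : ThickChartOver iX iY iB f f' g g') {P : MorphismProperty Scheme.{u}}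
    (h : LocP P g') : P C.l'.left := h _ _ _ C.hb' C.hc' C.comml'

end ThickChartOver

/-- finite order on arbitrary etale charts -/
theorem powZero_chart {i : X ⟶ X'} {n : ℕ} (hi : IsNThickMor n i) {V W : Over S} (b : (yon S).obj V ⟶ X')
    (fst : (yon S).obj W ⟶ X) (snd : W ⟶ V) (hb : RepWith @Etale b) (sq : IsPullback fst ((yon S).map snd) i b) :
    powZero n snd.left := by
  have : IsClosedImmersion snd.left := (hi.1.property _ _ _ sq).1
  refine Scheme.IdealSheafData.ext (funext fun A => ?_)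
  rw [Scheme.IdealSheafData.ideal_pow, Pi.pow_apply]
  let O : V.left.Opens := A.1
  let VA : Over S := Over.mk (O.ι ≫ V.hom)
  let ιA : VA ⟶ V := Over.homMk O.ι rfl
  let WA : Over S := Over.mk ((snd.left ⁻¹ᵁ O).ι ≫ W.hom)
  let κA : WA ⟶ W := Over.homMk (snd.left ⁻¹ᵁ O).ι rfl
  let sA : WA ⟶ VA := Over.homMk (snd.left ∣_ O) (by
    change (snd.left ∣_ O) ≫ O.ι ≫ V.hom = (snd.left ⁻¹ᵁ O).ι ≫ W.hom
    rw [morphismRestrict_ι_assoc, Over.w])
  have h0 : IsPullback κA sA snd ιA :=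
    IsPullback.of_map_of_faithful (Over.forget S) (isPullback_morphismRestrict snd.left O).flip
  have hA : IsAffine VA.left := A.2
  have he : RepWith @Etale ((yon S).map ιA ≫ b) :=
    MorphismProperty.comp_mem _ _ _ ((repWith_yon_map_iff _ _).2 (inferInstance : Etale O.ι)) hb
  have sqA : IsPullback ((yon S).map κA ≫ fst) ((yon S).map sA) i ((yon S).map ιA ≫ b) :=
    (h0.map (yon S)).paste_horiz sq
  have h1 : powZero n sA.left := hi.2 ((yon S).map ιA ≫ b) ((yon S).map κA ≫ fst) sA hA he sqA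
  change (snd.left ∣_ O).ker ^ (n + 1) = ⊥ at h1
  have h2 : ((snd.left ∣_ O).ker ^ (n + 1)).ideal ⟨⊤, isAffineOpen_top _⟩ = ⊥ := by rw [h1]; rfl
  rw [Scheme.IdealSheafData.ideal_pow, Pi.pow_apply, Scheme.ker_morphismRestrict_ideal] at h2
  have key : ∀ A' : V.left.affineOpens, A' = A → snd.left.ker.ideal A' ^ (n + 1) = ⊥ →
      snd.left.ker.ideal A ^ (n + 1) = ⊥ := by
    rintro _ rfl h; exact h
  exact key _ (Subtype.ext (Scheme.Opens.ι_image_top O)) h2

theorem isFiniteOrderThickening_chart {i : X ⟶ X'} (hi : IsFinThickMor i) {V W : Over S} {b : (yon S).obj V ⟶ X'}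
    {fst : (yon S).obj W ⟶ X} {snd : W ⟶ V} (hb : RepWith @Etale b) (sq : IsPullback fst ((yon S).map snd) i b) :
    MoreMor.IsFiniteOrderThickening snd.left := by
  obtain ⟨n, hn⟩ := hi
  exact ⟨hn.1.property _ _ _ sq, n + 1, powZero_chart hn b fst snd hb sq⟩

theorem locP_iff_chart {P : MorphismProperty Scheme.{u}} (hP : EtaleLocal P) {f : X ⟶ Y} {U V : Over S}
    {a : (yon S).obj U ⟶ X} {b : (yon S).obj V ⟶ Y} {k : U ⟶ V} (ha : RepWith @Etale a)
    (has : RepWith @Surjective a) (hb : RepWith @Etale b) (comm : a ≫ f = (yon S).map k ≫ b) :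
    LocP P f ↔ P k.left :=
  ⟨fun h => h a b k ha hb comm, one_chart hP f a b k ha has hb comm⟩

theorem fibreDimAt_chart_indep {f : X ⟶ Y} {U V U₁ V₁ : Over S} {a : (yon S).obj U ⟶ X} {b : (yon S).obj V ⟶ Y}
    {k : U ⟶ V} (ha : RepWith @Etale a) (hb : RepWith @Etale b) (comm : a ≫ f = (yon S).map k ≫ b)
    {a₁ : (yon S).obj U₁ ⟶ X} {b₁ : (yon S).obj V₁ ⟶ Y} {k₁ : U₁ ⟶ V₁} (ha₁ : RepWith @Etale a₁)
    (hb₁ : RepWith @Etale b₁) (comm₁ : a₁ ≫ f = (yon S).map k₁ ≫ b₁) (u : U.left) (u₁ : U₁.left)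
    (hx : Points.ofPt a₁ u₁ = Points.ofPt a u) :
    FlatMor.fibreDimAt k.left u = FlatMor.fibreDimAt k₁.left u₁ := by
  obtain ⟨U'', w, e, squ, he⟩ := exists_square ha a₁
  obtain ⟨w, rfl⟩ := (yon S).map_surjective w
  have hw : Etale w.left := ha₁.property _ _ _ squ.flip
  obtain ⟨V'', vb, v', sqv, hv'⟩ := exists_square hb b₁
  obtain ⟨vb, rfl⟩ := (yon S).map_surjective vb
  have hvb : Etale vb.left := hb₁.property _ _ _ sqv.flip
  obtain ⟨m, hm1, hm2⟩ := sqv.exists_lift ((yon S).map (w ≫ k)) ((yon S).map (e ≫ k₁)) (by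
    rw [Functor.map_comp, Category.assoc, ← comm, ← Category.assoc, squ.w, Category.assoc, comm₁,
      Functor.map_comp, Category.assoc])
  obtain ⟨m, rfl⟩ := (yon S).map_surjective m
  have e1 : m.left ≫ vb.left = w.left ≫ k.left :=
    congrArg CommaMorphism.left ((yon S).map_injective (X := U'') (by simpa using hm1) : m ≫ vb = w ≫ k)
  have e2 : m.left ≫ v'.left = e.left ≫ k₁.left :=
    congrArg CommaMorphism.left ((yon S).map_injective (X := U'') (by simpa using hm2) : m ≫ v' = e ≫ k₁)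
  obtain ⟨z, hz1, hz2⟩ := points_surj squ (Points.ofScheme U u) (Points.ofScheme U₁ u₁) (by
    rw [← Points.ofPt_eq_map_ofScheme, ← Points.ofPt_eq_map_ofScheme]; exact hx.symm)
  obtain ⟨z, rfl⟩ := ofScheme_surjective U'' z
  rw [map_ofScheme] at hz1 hz2
  have hz1 := (Points.schemeEquiv U).injective hz1
  have hz2 := (Points.schemeEquiv U₁).injective hz2
  have := hw; have := hvb; have := he; have := hv'
  rw [← hz1, ← hz2, ← ThickScheme.fibreDimAt_etale w.left vb.left e1.symm z,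
    ← ThickScheme.fibreDimAt_etale e.left v'.left e2.symm z]

theorem forall_fibreDim_iff {f : X ⟶ Y} {U V : Over S}
    {a : (yon S).obj U ⟶ X} {b : (yon S).obj V ⟶ Y} {k : U ⟶ V} (ha : RepWith @Etale a)
    (has : RepWith @Surjective a) (hb : RepWith @Etale b) (comm : a ≫ f = (yon S).map k ≫ b) (d : WithBot ℕ∞) :
    (∀ x, HasAtMor (fun _ _ h u => FlatMor.fibreDimAt h u = d) f x) ↔
      ∀ u : U.left, FlatMor.fibreDimAt k.left u = d := by
  constructor
  · intro h u
    obtain ⟨U₁, V₁, a₁, b₁, k₁, u₁, ha₁, hb₁, comm₁, hx, hd⟩ := h (Points.ofPt a u)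
    rw [fibreDimAt_chart_indep ha hb comm ha₁ hb₁ comm₁ u u₁ hx]
    exact hd
  · intro h x
    obtain ⟨u, rfl⟩ := surjective_ofPt (surjective_of_repWith has) x
    exact ⟨U, V, a, b, k, u, ha, hb, comm, rfl, h u⟩

namespace ThickChart

variable {i : X ⟶ X'} {f : X ⟶ Y} {f' : X' ⟶ Y'} {j : Y ⟶ Y'}

theorem locP_iff (C : ThickChart i f f' j) {P : MorphismProperty Scheme.{u}} (hP : EtaleLocal P) :
    LocP P f ↔ P C.k.left := locP_iff_chart hP C.ha C.has C.hb C.comm

theorem locP_iff' (C : ThickChart i f f' j) {P : MorphismProperty Scheme.{u}} (hP : EtaleLocal P) :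
    LocP P f' ↔ P C.k'.left := locP_iff_chart hP C.ha' C.has' C.hb' C.comm'

theorem of_locP (C : ThickChart i f f' j) {P : MorphismProperty Scheme.{u}} (h : LocP P f') : P C.k'.left :=
  h _ _ _ C.ha' C.hb' C.comm'

theorem isThickening (C : ThickChart i f f' j) (hj : IsThickMor j) : MoreMor.IsThickening C.jV.left :=
  hj.property _ _ _ C.sqY

theorem fibreDim_iff (C : ThickChart i f f' j) (hV : MoreMor.IsThickening C.jV.left) (d : WithBot ℕ∞) :
    (∀ x, HasAtMor (fun _ _ h u => FlatMor.fibreDimAt h u = d) f x) ↔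
      (∀ x, HasAtMor (fun _ _ h u => FlatMor.fibreDimAt h u = d) f' x) := by
  rw [forall_fibreDim_iff C.ha C.has C.hb C.comm, forall_fibreDim_iff C.ha' C.has' C.hb' C.comm']
  have hU := Groth.Agent.Flat.ThickeningLFT.isThickening_left hV C.sq
  have := hU.1
  have := hU.2
  have := hV.1
  constructor
  · intro h u
    obtain ⟨v, rfl⟩ := C.jU.left.surjective u
    rw [← ThickScheme.fibreDimAt_thick C.sq.w]
    exact h v
  · intro h u
    rw [ThickScheme.fibreDimAt_thick C.sq.w]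
    exact h _

end ThickChart

/-- flatness of the base map at points of the image -/
theorem isFlatAtMor_of_flat_comp (hX : IsAlgSpace X) (hY : IsAlgSpace Y) (f : X ⟶ Y) (g : Y ⟶ B)
    (hf : LocP @Flat f) (hfg : LocP @Flat (f ≫ g)) (x : Points X) : IsFlatAtMor g (Points.map f x) := by
  intro U V a b k u ha hb comm hu
  obtain ⟨M, φ, hφ, hφs⟩ := (isAlgSpace_pullback hX hY (IsAlgSpace.yon_obj U) f a).atlas
  obtain ⟨p, hp1, hp2⟩ := points_surj (IsPullback.of_hasPullback f a) x (Points.ofScheme U u) (by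
    rw [← Points.ofPt_eq_map_ofScheme]; exact hu.symm)
  obtain ⟨z, rfl⟩ := surjective_ofPt (surjective_of_repWith hφs) p
  obtain ⟨m, hm⟩ := (yon S).map_surjective (φ ≫ pullback.snd f a)
  rw [Points.map_ofPt, ← hm, Points.ofPt_eq_map_ofScheme, map_ofScheme] at hp2
  have hp2 := (Points.schemeEquiv U).injective hp2
  have ha₁ : RepWith @Etale (φ ≫ pullback.fst f a) :=
    MorphismProperty.comp_mem _ _ _ hφ
      (MorphismProperty.of_isPullback (P := RepWith @Etale) (IsPullback.of_hasPullback f a).flip ha)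
  have comm₁ : (φ ≫ pullback.fst f a) ≫ f = (yon S).map m ≫ a := by
    rw [hm, Category.assoc, Category.assoc, pullback.condition]
  have : Flat m.left := hf _ _ m ha₁ ha comm₁
  have : Flat (m.left ≫ k.left) := hfg _ _ (m ≫ k) ha₁ hb (by
    rw [← Category.assoc, comm₁, Category.assoc, comm, ← Category.assoc, ← Functor.map_comp])
  rw [← hp2]
  exact Groth.Agent.Locus.EtaleCriterion.flat_stalkMap_of_comp k.left m.left z (Flat.stalkMap _ _)
    (Flat.stalkMap _ _)

end AlgSpTopo
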