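import Mathlib
import Groth.Prelude.Def_AlgSpMor5
set_option autoImplicit false
set_option backward.isDefEq.respectTransparency false
universe u
open CategoryTheory AlgebraicGeometry
namespace AlgSpTopo
open AlgSp
variable {S : Scheme.{u}} {F G H : Sp S} {f : F ⟶ G} {g : G ⟶ H}

theorem hom_comp_aux {A A' A'' K K' K'' : Type u} [CommRing A] [CommRing A'] [CommRing A''] [Field K] [Field K']
    [Field K''] (φ : A →+* A') (ψ : K →+* K') (φ' : A' →+* A'') (ψ' : K' →+* K'') (a : A →+* K) (a' : A' →+* K')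
    (a'' : A'' →+* K'') (h : a'.comp φ = ψ.comp a) (h' : a''.comp φ' = ψ'.comp a') :
    a''.comp (φ'.comp φ) = (ψ'.comp ψ).comp a := by
  rw [← RingHom.comp_assoc, h', RingHom.comp_assoc, h, RingHom.comp_assoc]

theorem lift_comp_aux {A A' A'' K K' K'' : Type u} [CommRing A] [CommRing A'] [CommRing A''] [Field K] [Field K']
    [Field K''] (φ : A →+* A') (ψ : K →+* K') (φ' : A' →+* A'') (ψ' : K' →+* K'') (a : A →+* K) (a' : A' →+* K')
    (a'' : A'' →+* K'') (str : Spec (.of A) ⟶ S) (w₁ w₂ w₃)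
    (top : (yon S).obj (Over.mk (Spec.map (CommRingCat.ofHom a) ≫ str)) ⟶ F) (bot : (yon S).obj (Over.mk str) ⟶ H)
    (m : (yon S).obj (Over.mk (Spec.map (CommRingCat.ofHom φ) ≫ str)) ⟶ G)
    (m2 : m ≫ g = (yon S).map (Over.homMk (Spec.map (CommRingCat.ofHom φ)) rfl :
      Over.mk (Spec.map (CommRingCat.ofHom φ) ≫ str) ⟶ Over.mk str) ≫ bot)
    (l : (yon S).obj (Over.mk (Spec.map (CommRingCat.ofHom φ') ≫ Spec.map (CommRingCat.ofHom φ) ≫ str)) ⟶ F)
    (l1 : (yon S).map (Over.homMk (Spec.map (CommRingCat.ofHom a'')) rfl :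
        Over.mk (Spec.map (CommRingCat.ofHom a'') ≫ Spec.map (CommRingCat.ofHom φ') ≫ Spec.map (CommRingCat.ofHom φ) ≫ str) ⟶
          Over.mk (Spec.map (CommRingCat.ofHom φ') ≫ Spec.map (CommRingCat.ofHom φ) ≫ str)) ≫ l =
      (yon S).map (Over.homMk (Spec.map (CommRingCat.ofHom ψ')) w₁ :
        Over.mk (Spec.map (CommRingCat.ofHom a'') ≫ Spec.map (CommRingCat.ofHom φ') ≫ Spec.map (CommRingCat.ofHom φ) ≫ str) ⟶
          Over.mk (Spec.map (CommRingCat.ofHom a') ≫ Spec.map (CommRingCat.ofHom φ) ≫ str)) ≫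
        (yon S).map (Over.homMk (Spec.map (CommRingCat.ofHom ψ)) w₂ :
          Over.mk (Spec.map (CommRingCat.ofHom a') ≫ Spec.map (CommRingCat.ofHom φ) ≫ str) ⟶
            Over.mk (Spec.map (CommRingCat.ofHom a) ≫ str)) ≫ top)
    (l2 : l ≫ f = (yon S).map (Over.homMk (Spec.map (CommRingCat.ofHom φ')) rfl :
      Over.mk (Spec.map (CommRingCat.ofHom φ') ≫ Spec.map (CommRingCat.ofHom φ) ≫ str) ⟶
        Over.mk (Spec.map (CommRingCat.ofHom φ) ≫ str)) ≫ m) :
    ∃ L : (yon S).obj (Over.mk (Spec.map (CommRingCat.ofHom (φ'.comp φ)) ≫ str)) ⟶ F,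
      (yon S).map (Over.homMk (Spec.map (CommRingCat.ofHom a'')) rfl :
          Over.mk (Spec.map (CommRingCat.ofHom a'') ≫ Spec.map (CommRingCat.ofHom (φ'.comp φ)) ≫ str) ⟶
            Over.mk (Spec.map (CommRingCat.ofHom (φ'.comp φ)) ≫ str)) ≫ L =
        (yon S).map (Over.homMk (Spec.map (CommRingCat.ofHom (ψ'.comp ψ))) w₃ :
          Over.mk (Spec.map (CommRingCat.ofHom a'') ≫ Spec.map (CommRingCat.ofHom (φ'.comp φ)) ≫ str) ⟶
            Over.mk (Spec.map (CommRingCat.ofHom a) ≫ str)) ≫ top ∧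
      L ≫ f ≫ g = (yon S).map (Over.homMk (Spec.map (CommRingCat.ofHom (φ'.comp φ))) rfl :
          Over.mk (Spec.map (CommRingCat.ofHom (φ'.comp φ)) ≫ str) ⟶ Over.mk str) ≫ bot := by
  let i : Over.mk (Spec.map (CommRingCat.ofHom (φ'.comp φ)) ≫ str) ⟶
      Over.mk (Spec.map (CommRingCat.ofHom φ') ≫ Spec.map (CommRingCat.ofHom φ) ≫ str) := Over.homMk (𝟙 _) (by simp)
  let k : Over.mk (Spec.map (CommRingCat.ofHom a'') ≫ Spec.map (CommRingCat.ofHom (φ'.comp φ)) ≫ str) ⟶
      Over.mk (Spec.map (CommRingCat.ofHom a'') ≫ Spec.map (CommRingCat.ofHom φ') ≫ Spec.map (CommRingCat.ofHom φ) ≫ str) :=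
    Over.homMk (𝟙 _) (by simp)
  refine ⟨(yon S).map i ≫ l, Eq.trans ?_ ((congrArg ((yon S).map k ≫ ·) l1).trans ?_), ?_⟩
  · simp only [← Category.assoc, ← Functor.map_comp]
    congr 2
  · simp only [← Category.assoc, ← Functor.map_comp]
    congr 2
    ext : 1
    simp [k]
  · rw [Category.assoc, reassoc_of% l2, m2]
    simp only [← Category.assoc, ← Functor.map_comp]
    congr 2
    ext : 1
    simp [i]

theorem existVC_comp (hf : ExistVC f) (hg : ExistVC g) : ExistVC (f ≫ g) := fun q => by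
  obtain ⟨e, m, m1, m2⟩ := hg ⟨q.A, q.K, q.str, q.top ≫ f, q.bot, (Category.assoc _ _ _).trans q.comm⟩
  obtain ⟨e', l, l1, l2⟩ := hf ⟨e.A', e.K', Spec.map (CommRingCat.ofHom e.φ) ≫ q.str, _, m,
      ((Category.assoc _ _ _).trans m1.symm)⟩
  have hloc : IsLocalHom (e'.φ.comp e.φ) := by
    have := e.isLocalHom; have := e'.isLocalHom; exact RingHom.isLocalHom_comp e'.φ e.φ
  have hcc := hom_comp_aux e.φ e.ψ e'.φ e'.ψ (algebraMap q.A q.K) (algebraMap e.A' e.K') (algebraMap e'.A' e'.K') e.comm e'.comm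
  refine ⟨⟨e'.A', e'.K', e'.φ.comp e.φ, e'.ψ.comp e.ψ, hcc, hloc⟩, ?_⟩
  exact lift_comp_aux e.φ e.ψ e'.φ e'.ψ (algebraMap q.A q.K) (algebraMap e.A' e.K') (algebraMap e'.A' e'.K') q.str
    _ _ _ q.top q.bot m m2 l l1 l2

/-- For a valuation ring, an element of the fraction field landing in a dominating ring already lies in the ring. -/
theorem mem_range_of_dominating {A K A' K' : Type u} [CommRing A] [IsDomain A] [ValuationRing A] [Field K] [Algebra A K]
    [IsFractionRing A K] [CommRing A'] [Field K'] [Algebra A' K'] [IsFractionRing A' K'] (φ : A →+* A') [IsLocalHom φ]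
    (ψ : K →+* K') (h : (algebraMap A' K').comp φ = ψ.comp (algebraMap A K)) (x : K) (a' : A')
    (hx : ψ x = algebraMap A' K' a') : ∃ a, algebraMap A K a = x := by
  rcases ValuationRing.isInteger_or_isInteger A x with ⟨a, ha⟩ | ⟨a, ha⟩
  · exact ⟨a, ha⟩
  · by_cases x0 : x = 0
    · exact ⟨0, by simp [x0]⟩
    have h1 : φ a * a' = 1 := IsFractionRing.injective A' K' (by
      rw [map_mul, map_one, ← hx, show algebraMap A' K' (φ a) = ψ (algebraMap A K a) from RingHom.congr_fun h a,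
        ← map_mul, ha, inv_mul_cancel₀ x0, map_one])
    obtain ⟨v, hv⟩ := isUnit_of_map_unit φ a (IsUnit.of_mul_eq_one _ h1)
    exact ⟨(v⁻¹ : Aˣ), by rw [map_units_inv, hv, ha, inv_inv]⟩

theorem exists_lift_of_dominating {W : Scheme.{u}} {A K A' K' : Type u} [CommRing A] [IsDomain A] [ValuationRing A] [Field K] [Algebra A K]
    [IsFractionRing A K] [CommRing A'] [IsDomain A'] [ValuationRing A'] [Field K'] [Algebra A' K'] [IsFractionRing A' K']
    (φ : A →+* A') [IsLocalHom φ] (ψ : K →+* K') (h : (algebraMap A' K').comp φ = ψ.comp (algebraMap A K))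
    (p : Spec (.of K) ⟶ W) (t : Spec (.of A') ⟶ W)
    (hpt : Spec.map (CommRingCat.ofHom ψ) ≫ p = Spec.map (CommRingCat.ofHom (algebraMap A' K')) ≫ t) :
    ∃ l : Spec (.of A) ⟶ W, Spec.map (CommRingCat.ofHom (algebraMap A K)) ≫ l = p := by
  obtain ⟨_, ⟨U, hU, rfl⟩, hxU, -⟩ := W.isBasis_affineOpens.exists_subset_of_mem_open
    (Set.mem_univ (t (IsLocalRing.closedPoint A'))) isOpen_univ
  have ht : t ⁻¹ᵁ U = ⊤ := (IsLocalRing.closedPoint_mem_iff _).1 hxU
  have htr : Set.range t ⊆ Set.range hU.fromSpec := by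
    rw [hU.range_fromSpec]
    rintro _ ⟨x, rfl⟩
    exact (ht.ge (trivial : x ∈ (⊤ : (Spec (CommRingCat.of A')).Opens)) :)
  have hpr : Set.range p ⊆ Set.range hU.fromSpec := by
    rintro _ ⟨x, rfl⟩
    obtain ⟨y⟩ := (inferInstance : Nonempty ↥(Spec (CommRingCat.of K')))
    have := congrArg (fun k : Spec (CommRingCat.of K') ⟶ W => k y) hpt
    refine htr ⟨Spec.map (CommRingCat.ofHom (algebraMap A' K')) y, ?_⟩
    refine (Eq.trans ?_ this.symm).trans ?_
    · rfl
    · exact congrArg p (Subsingleton.elim (α := PrimeSpectrum K) _ _)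
  obtain ⟨α, hα⟩ := Spec.map_surjective (IsOpenImmersion.lift hU.fromSpec p hpr)
  obtain ⟨β, hβ⟩ := Spec.map_surjective (IsOpenImmersion.lift hU.fromSpec t htr)
  have hαβ : ψ.comp α.hom = (algebraMap A' K').comp β.hom := by
    have e : α ≫ CommRingCat.ofHom ψ = β ≫ CommRingCat.ofHom (algebraMap A' K') := Spec.map_injective (by
      rw [Spec.map_comp, Spec.map_comp, hα, hβ, ← cancel_mono hU.fromSpec, Category.assoc, Category.assoc,
        IsOpenImmersion.lift_fac, IsOpenImmersion.lift_fac, hpt])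
    exact congrArg CommRingCat.Hom.hom e
  choose γ hγ using fun r => mem_range_of_dominating φ ψ h (α.hom r) (β.hom r) (RingHom.congr_fun hαβ r)
  have inj := IsFractionRing.injective A K
  let γh : Γ(W, U) →+* A :=
    { toFun := γ
      map_one' := inj (by rw [hγ, map_one, map_one])
      map_mul' := fun x y => inj (by rw [hγ, map_mul, map_mul, hγ, hγ])
      map_zero' := inj (by rw [hγ, map_zero, map_zero])
      map_add' := fun x y => inj (by rw [hγ, map_add, map_add, hγ, hγ]) }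
  refine ⟨Spec.map (CommRingCat.ofHom γh) ≫ hU.fromSpec, ?_⟩
  rw [← Spec.map_comp_assoc, show CommRingCat.ofHom γh ≫ CommRingCat.ofHom (algebraMap A K) = α from
    CommRingCat.hom_ext (RingHom.ext hγ), hα, IsOpenImmersion.lift_fac]

theorem existVCStrict_of_existVC {X Y : Sp S} (f : X ⟶ Y) (hf : Representable f) (h : ExistVC f) : ExistVCStrict f := fun q => by
  obtain ⟨W, w, fst, sq⟩ := hf q.bot
  obtain ⟨e, t, t1, t2⟩ := h q
  obtain ⟨s, hs1, hs2⟩ := sq.exists_lift q.top ((yon S).map q.j) q.comm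
  obtain ⟨s, rfl⟩ := (yon S).map_surjective s
  obtain ⟨t', ht1, ht2⟩ := sq.exists_lift t _ t2
  obtain ⟨t', rfl⟩ := (yon S).map_surjective t'
  rw [← Functor.map_comp] at hs2 ht2
  have hs2' : s.left ≫ w.left = Spec.map (CommRingCat.ofHom (algebraMap q.A q.K)) :=
    congrArg CommaMorphism.left ((yon S).map_injective hs2)
  have key : Spec.map (CommRingCat.ofHom e.ψ) ≫ s.left =
      Spec.map (CommRingCat.ofHom (algebraMap e.A' e.K')) ≫ t'.left := by
    let ι : e.ptK' ⟶ q.ptK := Over.homMk (Spec.map (CommRingCat.ofHom e.ψ)) (by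
      change Spec.map _ ≫ Spec.map _ ≫ _ = Spec.map _ ≫ Spec.map _ ≫ _
      rw [← Spec.map_comp_assoc, ← Spec.map_comp_assoc, ← CommRingCat.ofHom_comp,
        ← CommRingCat.ofHom_comp, e.comm])
    let ι' : e.ptK' ⟶ e.ptA' := Over.homMk (Spec.map (CommRingCat.ofHom (algebraMap e.A' e.K'))) rfl
    have : ι ≫ s = ι' ≫ t' := (yon S).map_injective (sq.hom_ext (by
      rw [Functor.map_comp, Functor.map_comp, Category.assoc, Category.assoc, hs1, ht1]; exact t1.symm) (by
      rw [← Functor.map_comp, ← Functor.map_comp, Category.assoc, Category.assoc, (yon S).map_injective hs2,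
        (yon S).map_injective ht2]
      refine congrArg _ ?_
      ext : 1
      change Spec.map _ ≫ Spec.map _ = Spec.map _ ≫ Spec.map _
      rw [← Spec.map_comp, ← Spec.map_comp, ← CommRingCat.ofHom_comp, ← CommRingCat.ofHom_comp]
      exact congrArg (fun r => Spec.map (CommRingCat.ofHom r)) e.comm.symm))
    exact congrArg CommaMorphism.left this
  have := e.isLocalHom
  obtain ⟨L, hL⟩ := exists_lift_of_dominating e.φ e.ψ e.comm s.left t'.left key
  have hLw : L ≫ w.left = 𝟙 _ := by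
    obtain ⟨ε, hε⟩ := Spec.map_surjective (L ≫ w.left)
    have e2 : ε ≫ CommRingCat.ofHom (algebraMap q.A q.K) = CommRingCat.ofHom (algebraMap q.A q.K) :=
      Spec.map_injective ((Spec.map_comp _ _).trans (by rw [hε, ← Category.assoc, hL]; exact hs2'))
    rw [← hε, ← Spec.map_id]
    refine congrArg Spec.map (CommRingCat.hom_ext (RingHom.ext fun x => IsFractionRing.injective q.A q.K ?_))
    exact RingHom.congr_fun (congrArg CommRingCat.Hom.hom e2) x
  let L' : q.ptA ⟶ W := Over.homMk L (by rw [← Over.w w, ← Category.assoc, hLw]; exact Category.id_comp _)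
  refine ⟨(yon S).map L' ≫ fst, ?_, ?_⟩
  · rw [← Category.assoc, ← Functor.map_comp, show q.j ≫ L' = s from Over.OverMorphism.ext hL, hs1]
  · rw [Category.assoc, sq.w, ← Category.assoc, ← Functor.map_comp,
      show L' ≫ w = 𝟙 _ from Over.OverMorphism.ext hLw, CategoryTheory.Functor.map_id, Category.id_comp]

end AlgSpTopo
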